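import Cfsg.Prelude.Def_Sporadic
import Cfsg.Agent.Lib.GW.FieldBase
import Cfsg.Agent.Lib.GW.Basic

/-!
Simple groups with elementary abelian Sylow 2-subgroups of order eight and a non-solvable involution
centraliser: the common hypotheses, the shape of an involution centraliser modulo its core and the goal.
-/

set_option autoImplicit false

namespace CfsgLib.Walter

open Subgroup CfsgLib.GW

universe u

/-- A simple group with elementary Sylow 2-subgroup `S` of order eight and an involution `t ∈ S` with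
non-solvable centraliser. -/
structure Setup (G : Type u) [Group G] [Finite G] where
  simple : IsSimpleGroup G
  noncomm : ¬ IsMulCommutative G
  S : Sylow 2 G
  card_S : Nat.card ↥(S : Subgroup G) = 8
  sq : ∀ x ∈ (S : Subgroup G), x * x = 1
  t : G
  mem : t ∈ (S : Subgroup G)
  ne : t ≠ 1
  nonsolv : ¬ Group.IsSolvable ↥(centralizer ({t} : Set G))

namespace Setup

variable {G : Type u} [Group G] [Finite G] (E : Setup G)

/-- The centraliser of the distinguished involution. -/
def H : Subgroup G := centralizer ({E.t} : Set G)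

/-- The odd core of `H`, as a subgroup of `G`. -/
def W : Subgroup G := coreIn E.H

theorem comm {x y : G} (hx : x ∈ (E.S : Subgroup G)) (hy : y ∈ (E.S : Subgroup G)) : x * y = y * x := by
  have hinv : ∀ a ∈ (E.S : Subgroup G), a⁻¹ = a := fun a ha => inv_eq_of_mul_eq_one_right (E.sq a ha)
  calc x * y = (x * y)⁻¹ := (hinv _ (mul_mem hx hy)).symm
    _ = y * x := by rw [mul_inv_rev, hinv x hx, hinv y hy]

theorem sylow_le_centralizer {x : G} (hx : x ∈ (E.S : Subgroup G)) :
    (E.S : Subgroup G) ≤ centralizer ({x} : Set G) :=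
  fun _ hy => mem_centralizer_singleton_iff.2 (E.comm hy hx)

theorem sylow_le_H : (E.S : Subgroup G) ≤ E.H := E.sylow_le_centralizer E.mem

theorem orderOf_eq_two {x : G} (hx : x ∈ (E.S : Subgroup G)) (h1 : x ≠ 1) : orderOf x = 2 :=
  orderOf_eq_prime (by rw [pow_two]; exact E.sq x hx) h1

theorem orderOf_t : orderOf E.t = 2 := E.orderOf_eq_two E.mem E.ne

theorem orderOf_two_iff {x : G} (hx : x ∈ (E.S : Subgroup G)) : orderOf x = 2 ↔ x ≠ 1 :=
  ⟨fun h e => by rw [e, orderOf_one] at h; exact absurd h (by norm_num), E.orderOf_eq_two hx⟩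

end Setup

/-- The centraliser of `s` modulo core and `⟨s⟩`: a group `Y` between `PSL(2, q)` and its extension by
field automorphisms, `q ≡ 3, 5 (mod 8)`, in which the image of `S` is a four group of `PSL(2, q)`. -/
structure Shape {G : Type u} [Group G] (S : Subgroup G) (s : G) where
  /-- the model -/
  Y : Type u
  [grp : Group Y]
  [fin : Finite Y]
  /-- the field -/
  F : Type
  [field : Field F]
  [fintype : Fintype F]
  /-- the simple normal subgroup -/
  L : Subgroup Y
  /-- the map -/
  π : ↥(centralizer ({s} : Set G)) →* Y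
  psl : Field.Psl L F
  q_mod : Fintype.card F % 8 = 3 ∨ Fintype.card F % 8 = 5
  surj : Function.Surjective π
  ker : ∀ x, π x = 1 ↔
    (x : G) ∈ coreIn (centralizer ({s} : Set G)) ∨ (x : G) * s ∈ coreIn (centralizer ({s} : Set G))
  le : S ≤ centralizer ({s} : Set G)
  img : ∀ (x : G) (hx : x ∈ S), π ⟨x, le hx⟩ ∈ L
  comm_mem : ∀ a b : Y, a * b * a⁻¹ * b⁻¹ ∈ L
  odd_index : Odd L.index
  ker_S : ∀ (x : G) (hx : x ∈ S), π ⟨x, le hx⟩ = 1 → x = 1 ∨ x = s

/-- All involutions of `S` look alike. -/
structure Local {G : Type u} [Group G] [Finite G] (E : Setup G) : Prop where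
  shape : ∀ s ∈ (E.S : Subgroup G), s ≠ 1 → Nonempty (Shape (E.S : Subgroup G) s)
  fuse : ∀ a ∈ (E.S : Subgroup G), ∀ b ∈ (E.S : Subgroup G), a ≠ 1 → b ≠ 1 →
    ∃ n ∈ normalizer ((E.S : Subgroup G) : Set G), n * a * n⁻¹ = b
  nonsolv : ∀ s ∈ (E.S : Subgroup G), s ≠ 1 → ¬ Group.IsSolvable ↥(centralizer ({s} : Set G))
  one_class : ∀ a b : G, orderOf a = 2 → orderOf b = 2 → IsConj a b
  auto : (centralizer ((E.S : Subgroup G) : Set G)).relIndex (normalizer ((E.S : Subgroup G) : Set G)) = 21

/-- The goal of the local analysis: every such group has the order of a Ree group or of Janko's group. -/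
def CoreGoal : Prop :=
  ∀ (G : Type u) [Group G] [Finite G] (_ : Setup G), Cfsg.IsJ1 G ∨ Cfsg.IsRee G

end CfsgLib.Walter
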