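import Cfsg.Agent.Lib.Walter.StepTwoTwo
import Cfsg.Agent.Lib.Walter.Setup

/-!
Walter, rank 3: the centraliser of an involution is a maximal subgroup.
-/

set_option autoImplicit false
set_option linter.style.haveILetI false
set_option linter.unusedSectionVars false

namespace CfsgLib.Walter

open Subgroup Cfsg.Tech46.Bender

universe u

variable {G : Type u} [Group G] [Finite G]

namespace MaxCtx

variable (E : MaxCtx G) {M : Subgroup G}

theorem H_ne_top : E.H ≠ ⊤ := by
  intro h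
  have hc : E.t ∈ center G := mem_center_iff.2 fun g => E.mem_H.1 (h ▸ mem_top g)
  rcases E.eq_bot_or_top (inferInstance : (center G).Normal) with h' | h'
  · rw [h', mem_bot] at hc; exact E.t_ne hc
  · exact E.not_isMulCommutative ⟨⟨fun a b => (mem_center_iff.1 (h' ▸ mem_top b) a)⟩⟩

/-- An odd subgroup normalised by a four-group of `S` is generated by fixed points. -/
theorem le_of_fixed {b : G} (hb : b ∈ (E.S : Subgroup G)) {A L : Subgroup G}
    (hA : Odd (Nat.card A)) (hn : ∀ v ∈ (E.S : Subgroup G), ∀ x ∈ A, v * x * v⁻¹ ∈ A)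
    (h1 : ∀ x ∈ A, x * E.t = E.t * x → x ∈ L) (h2 : ∀ x ∈ A, x * b = b * x → x ∈ L)
    (h3 : ∀ x ∈ A, x * (b * E.t) = b * E.t * x → x ∈ L) : A ≤ L := by
  have key : ∀ {v : G}, v * v = 1 → ∀ {x : G}, v * x * v = x → x * v = v * x := fun {_} hv {_} h =>
    (CfsgLib.GW.Uniq.fixed_iff_commute hv).1 h
  refine CfsgLib.RankOneInvol.le_of_fourGroup_fixed hA E.t_sq (E.act.sq b hb)
    (E.act.comm E.t_mem hb) ?_ ?_ (fun x hx h => h1 x hx (key E.t_sq h))
    (fun x hx h => h2 x hx (key (E.act.sq b hb) h)) (fun x hx h => h3 x hx (key ?_ ?_))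
  · intro x hx
    simpa [E.t_inv] using hn E.t E.t_mem x hx
  · intro x hx
    simpa [E.act.inv_eq hb] using hn b hb x hx
  · exact E.act.sq _ (mul_mem hb E.t_mem)
  · rw [E.act.comm hb E.t_mem]
    exact h

theorem coreIn_H_le (hM : IsCoatom M) (hHM : E.H ≤ M) :
    CfsgLib.GW.coreIn E.H ≤ CfsgLib.GW.coreIn M := by
  haveI : Fact (Nat.Prime 2) := ⟨Nat.prime_two⟩
  set W := CfsgLib.GW.coreIn E.H with hW
  have hWM : W ≤ M := (CfsgLib.GW.coreIn_le _).trans hHM
  have htM : E.t ∈ M := hHM E.t_mem_H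
  let π := QuotientGroup.mk' (Cfsg.oddCore M)
  have hπ : ∀ k : M, π k = 1 ↔ k ∈ Cfsg.oddCore M := fun k => QuotientGroup.eq_one_iff k
  -- `M = O(M) C(t)`
  have hsurj : ∀ m : M, ∃ k : M, (k : G) ∈ E.H ∧ π k = π m := by
    intro m
    have hp : IsPGroup 2 (zpowers (⟨E.t, htM⟩ : M)) :=
      CfsgLib.Involutions.isPGroup_two_zpowers (by rw [Subgroup.orderOf_mk, E.orderOf_t])
    have h1 : π m * π ⟨E.t, htM⟩ = π ⟨E.t, htM⟩ * π m := by
      obtain ⟨w, hw, hwe⟩ := E.comm_mem_core hM hHM m.2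
      have h2 : π (m * ⟨E.t, htM⟩ * m⁻¹ * (⟨E.t, htM⟩ : M)⁻¹) = 1 := by
        rw [hπ]
        rwa [← (Subtype.ext hwe : w = m * ⟨E.t, htM⟩ * m⁻¹ * (⟨E.t, htM⟩ : M)⁻¹)]
      simp only [map_mul, map_inv, mul_inv_eq_one] at h2
      exact mul_inv_eq_iff_eq_mul.1 h2
    have h3 : π m ∈ centralizer (((zpowers (⟨E.t, htM⟩ : M)).map π : Subgroup _) :
        Set (M ⧸ Cfsg.oddCore M)) := by
      rw [MonoidHom.map_zpowers, zpowers_eq_closure, centralizer_closure,
        mem_centralizer_singleton_iff]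
      exact h1
    rw [← CfsgLib.Components.map_centralizer_quotient CfsgLib.PCore.pPrimeCore_coprime hp] at h3
    obtain ⟨k, hk, hke⟩ := h3
    rw [zpowers_eq_closure, centralizer_closure, SetLike.mem_coe, mem_centralizer_singleton_iff] at hk
    exact ⟨k, E.mem_H.2 (congrArg Subtype.val hk), hke⟩
  have hnor : ((W.subgroupOf M).map π).Normal := ⟨by
    rintro _ ⟨w, hw, rfl⟩ y
    obtain ⟨m, rfl⟩ := QuotientGroup.mk'_surjective _ y
    obtain ⟨k, hk, hke⟩ := hsurj m
    refine ⟨k * w * k⁻¹, mem_subgroupOf.2 (CfsgLib.GW.conj_mem_coreIn hk (mem_subgroupOf.1 hw)), ?_⟩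
    rw [map_mul, map_mul, map_inv, hke]⟩
  have hbot : (W.subgroupOf M).map π = ⊥ := by
    refine le_bot_iff.1 ((CfsgLib.PCore.pPrimeCore_quotient_pPrimeCore (p := 2) (G := M)) ▸
      CfsgLib.PCore.le_pPrimeCore_of_not_dvd hnor ?_)
    rw [← even_iff_two_dvd, Nat.not_even_iff_odd]
    exact (CfsgLib.GW.odd_card_coreIn E.H).of_dvd_nat ((card_map_dvd _ _).trans
      (Nat.card_congr (subgroupOfEquivOfLe hWM).toEquiv).dvd)
  intro w hw
  have h1 : π ⟨w, hWM hw⟩ ∈ (W.subgroupOf M).map π := mem_map_of_mem π (mem_subgroupOf.2 hw)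
  rw [hbot, mem_bot, hπ] at h1
  exact ⟨_, h1, rfl⟩

/-- If `S` centralises `W`, then `t` centralises `O(M)`. -/
theorem commute_of_central (hM : IsCoatom M) (hHM : E.H ≤ M)
    (hW : ∀ x ∈ CfsgLib.GW.coreIn E.H, ∀ s ∈ (E.S : Subgroup G), x * s = s * x) :
    ∀ w ∈ CfsgLib.GW.coreIn M, w * E.t = E.t * w := by
  set A := CfsgLib.GW.coreIn M
  have hAodd : Odd (Nat.card A) := CfsgLib.GW.odd_card_coreIn M
  have hnA : ∀ c, c * E.t = E.t * c → ∀ x ∈ A, c * x * c⁻¹ ∈ A := fun c hc x hx =>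
    CfsgLib.GW.conj_mem_coreIn (hHM (E.mem_H.2 hc)) hx
  have key : ∀ v ∈ (E.S : Subgroup G), v ≠ 1 → ∀ x ∈ A, x * v = v * x → x * E.t = E.t * x := by
    intro v hv hv1 x hx hxv
    have hvt : E.t * v = v * E.t := E.act.comm E.t_mem hv
    obtain ⟨y, z, hy, hyt, hz, hzt, rfl⟩ :=
      CfsgLib.RankOneInvol.exists_fixed_mul_inverted (X := A ⊓ centralizer ({v} : Set G))
        (hAodd.of_dvd_nat (card_dvd_of_le inf_le_left)) E.t_sq
        (fun a ha => ⟨by simpa [E.t_inv] using hnA E.t rfl a ha.1,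
          mem_centralizer_singleton_iff.2 (((show Commute E.t v from hvt).mul_left
            (mem_centralizer_singleton_iff.1 ha.2)).mul_left hvt).eq⟩)
        (show x ∈ _ from ⟨hx, mem_centralizer_singleton_iff.2 hxv⟩)
    have h1 := E.act.mem_core_of_inverted E.t_mem hv hv1 hAodd hnA hz.1
      (mem_centralizer_singleton_iff.1 hz.2) hzt
    obtain ⟨g, hgN, hg⟩ := E.exists_conj hv hv1
    -- conjugate `O(C(v))` to `W`
    set N := CfsgLib.GW.conjBy (CfsgLib.GW.coreIn (centralizer ({v} : Set G))) g⁻¹ with hN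
    have hle : N ≤ CfsgLib.GW.coreIn E.H := by
      have hmem : ∀ a : G, a ∈ E.H → g * a * g⁻¹ ∈ centralizer ({v} : Set G) := fun a ha =>
        mem_centralizer_singleton_iff.2 (hg ▸ conj_comm (E.mem_H.1 ha))
      refine CfsgLib.GW.le_coreIn ?_ ?_ ?_
      · intro a ha
        rw [hN, CfsgLib.GW.mem_conjBy, inv_inv] at ha
        have h2 := conj_comm (g := g⁻¹) (mem_centralizer_singleton_iff.1 (CfsgLib.GW.coreIn_le _ ha))
        rw [← hg] at h2
        exact E.mem_H.2 (by simpa [mul_assoc] using h2)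
      · intro k hk a ha
        rw [hN, CfsgLib.GW.mem_conjBy, inv_inv] at ha ⊢
        have h2 := CfsgLib.GW.conj_mem_coreIn (hmem k hk) ha
        simpa [mul_assoc] using h2
      · rw [hN, CfsgLib.GW.conjBy, card_map_of_injective (MulAut.conj g⁻¹).injective]
        exact CfsgLib.GW.odd_card_coreIn _
    have h2 : g⁻¹ * z * g ∈ CfsgLib.GW.coreIn E.H := hle (by
      rw [hN, CfsgLib.GW.mem_conjBy, inv_inv]
      simpa [mul_assoc] using h1)
    have h3 := hW _ h2 _ (ActEight.conj_mem' hgN E.t_mem)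
    have h4 : z * E.t = E.t * z := by
      have h5 := conj_comm (g := g) h3
      simpa [mul_assoc] using h5
    have hz1 : z = 1 := CfsgLib.RankOneInvol.eq_one_of_mem_of_sq hAodd hz.1 (by
      rw [(CfsgLib.GW.Uniq.fixed_iff_commute E.t_sq).2 h4] at hzt
      exact eq_inv_iff_mul_eq_one.1 hzt)
    rw [hz1, mul_one]
    exact (CfsgLib.GW.Uniq.fixed_iff_commute E.t_sq).1 hyt
  obtain ⟨η, hηH, hηN, b, hb, hmove⟩ := E.exists_moving
  have hb1 : b ≠ 1 := fun h => hmove (by rw [h, mul_one, mul_inv_cancel])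
  have hbt : b ≠ E.t := fun h => hmove (by
    rw [h]; exact mul_inv_eq_iff_eq_mul.2 (E.mem_H.1 hηH))
  have hbt1 : b * E.t ≠ 1 := fun e => hbt (by rw [eq_inv_of_mul_eq_one_left e, E.t_inv])
  have hle : A ≤ E.H := E.le_of_fixed hb hAodd
    (fun v hv => hnA v (E.act.comm hv E.t_mem)) (fun x _ h => E.mem_H.2 h)
    (fun x hx h => E.mem_H.2 (key b hb hb1 x hx h))
    (fun x hx h => E.mem_H.2 (key _ (mul_mem hb E.t_mem) hbt1 x hx h))
  exact fun w hw => E.mem_H.1 (hle hw)

/-- A subgroup of `S` of order at least four avoiding `t` generates `S` with it. -/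
theorem commute_of_plane {V : Subgroup G} (hVS : V ≤ (E.S : Subgroup G)) (hV : 4 ≤ Nat.card V)
    (htV : E.t ∉ V) {x : G} (hxV : ∀ v ∈ V, x * v = v * x) (hxt : x * E.t = E.t * x) :
    ∀ s ∈ (E.S : Subgroup G), x * s = s * x := by
  have htop : (E.S : Subgroup G) ≤ V ⊔ zpowers E.t := by
    refine (eq_of_le_of_card_ge (sup_le hVS (zpowers_le.2 E.t_mem)) ?_).ge
    rw [E.act.card]
    have hlt : V < V ⊔ zpowers E.t := lt_of_le_of_ne le_sup_left fun e =>
      htV (e ▸ mem_sup_right (mem_zpowers _))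
    have h1 : Nat.card V < Nat.card (V ⊔ zpowers E.t : Subgroup G) :=
      lt_of_le_of_ne (card_le_of_le hlt.le) fun e => hlt.ne (eq_of_le_of_card_ge hlt.le e.ge)
    have h2 : Nat.card (V ⊔ zpowers E.t : Subgroup G) ∣ 8 :=
      E.act.card ▸ card_dvd_of_le (sup_le hVS (zpowers_le.2 E.t_mem))
    have h3 := Nat.le_of_dvd (by norm_num) h2
    interval_cases h : Nat.card (V ⊔ zpowers E.t : Subgroup G) <;> omega
  have hle : V ⊔ zpowers E.t ≤ centralizer ({x} : Set G) := sup_le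
    (fun v hv => mem_centralizer_singleton_iff.2 (hxV v hv).symm)
    (zpowers_le.2 (mem_centralizer_singleton_iff.2 hxt.symm))
  exact fun s hs => (mem_centralizer_singleton_iff.1 (hle (htop hs))).symm

/-- Step 2: `t` centralises `O(M)`. -/
theorem commute_coreIn (hM : IsCoatom M) (hHM : E.H ≤ M) :
    ∀ w ∈ CfsgLib.GW.coreIn M, w * E.t = E.t * w := by
  haveI : Fact (Nat.Prime 2) := ⟨Nat.prime_two⟩
  have hSM : (E.S : Subgroup G) ≤ M := E.S_le_H.trans hHM
  set P : Sylow 2 M := E.S.subtype hSM with hP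
  have htM : E.t ∈ M := hSM E.t_mem
  have hWt : ∀ x ∈ CfsgLib.GW.coreIn E.H, x * E.t = E.t * x := fun x hx =>
    E.mem_H.1 (CfsgLib.GW.coreIn_le _ hx)
  -- a subgroup of `S` commuting with `O(M)`
  have hplane : ∀ V : Subgroup G, V ≤ (E.S : Subgroup G) →
      (∀ v ∈ V, ∀ w ∈ CfsgLib.GW.coreIn M, w * v = v * w) → 4 ≤ Nat.card V ∨ E.t ∈ V →
      ∀ w ∈ CfsgLib.GW.coreIn M, w * E.t = E.t * w := by
    intro V hVS hVc h4 w hw
    by_cases htV : E.t ∈ V
    · exact hVc _ htV w hw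
    exact E.commute_of_central hM hHM (fun x hx => E.commute_of_plane hVS (h4.resolve_right htV) htV
      (fun v hv => hVc v hv x (E.coreIn_H_le hM hHM hx)) (hWt x hx)) w hw
  by_cases hO2 : Cfsg.pCore 2 ↥M = ⊥
  swap
  · set T := Cfsg.Agent.S1312.coreIn 2 M with hTdef
    have hTS : T ≤ (E.S : Subgroup G) := by
      rintro _ ⟨y, hy, rfl⟩
      exact mem_subgroupOf.1 (CfsgLib.PCore.pCore_le_sylow P hy)
    have hTc : ∀ v ∈ T, ∀ w ∈ CfsgLib.GW.coreIn M, w * v = v * w := by
      rintro _ ⟨v, hv, rfl⟩ _ ⟨w, hw, rfl⟩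
      exact congrArg Subtype.val (mem_centralizer_iff.1
        (CfsgLib.PCore.pPrimeCore_le_centralizer_pCore hw) v hv).symm
    by_cases h4 : 4 ≤ Nat.card T ∨ E.t ∈ T
    · exact hplane T hTS hTc h4
    push Not at h4
    obtain ⟨v, hvT, hv1⟩ : ∃ v ∈ T, v ≠ 1 := by
      refine (Subgroup.bot_or_exists_ne_one T).resolve_left fun h => hO2 ?_
      exact (map_eq_bot_iff_of_injective _ M.subtype_injective).1 h
    have hall : ∀ x ∈ T, x ≠ 1 → x = v := by
      intro x hx hx1
      by_contra hne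
      classical
      haveI := Fintype.ofFinite T
      have h1 := Finset.card_le_univ ({1, ⟨v, hvT⟩, ⟨x, hx⟩} : Finset T)
      rw [Finset.card_insert_of_notMem (by simp [Subtype.ext_iff, Ne.symm hv1, Ne.symm hx1]),
        Finset.card_insert_of_notMem (by simp [Subtype.ext_iff, Ne.symm hne]), Finset.card_singleton,
        ← Nat.card_eq_fintype_card] at h1
      have h2 : Nat.card T ∣ 8 := E.act.card ▸ card_dvd_of_le hTS
      have h3 := Nat.le_of_dvd (by norm_num) h2
      interval_cases h : Nat.card T <;> omega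
    have hMv : M ≤ centralizer ({v} : Set G) := fun m hm => by
      refine mem_centralizer_singleton_iff.2 (mul_inv_eq_iff_eq_mul.1 (hall _ ?_ ?_))
      · exact (mem_normalizer_iff.1 (coreIn_le_normalizer 2 M hm) v).1 hvT
      · exact fun e => hv1 (conj_eq_one_iff.1 e)
    have hHv : E.H = centralizer ({v} : Set G) :=
      eq_of_le_of_card_ge (hHM.trans hMv) (E.card_centralizer_eq (hTS hvT) hv1).le
    exact fun w hw => E.mem_H.1 (hHv ▸ hMv (CfsgLib.GW.coreIn_le _ hw))
  by_cases hlayer : Cfsg.layer ↥M = ⊥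
  swap
  · set L := (Cfsg.layer ↥M).map M.subtype with hL
    have hperf : ⁅L, L⁆ = L := by
      rw [hL, ← Subgroup.map_commutator, CfsgLib.Components.commutator_layer_self]
    have h4 := E.act.four_le_inf hSM (map_subtype_le _) (fun k hk x hx =>
      (mem_normalizer_iff.1 (Cfsg.Agent.S1312.le_normalizer_map (Cfsg.layer M) hk) x).1 hx) hperf
      fun h => hlayer ((map_eq_bot_iff_of_injective _ M.subtype_injective).1 h)
    refine hplane _ inf_le_right (fun v hv w hw => ?_) (Or.inl h4)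
    obtain ⟨v', hv', rfl⟩ := hv.1
    obtain ⟨w', hw', rfl⟩ := hw
    haveI : Group.IsSolvable (Cfsg.oddCore M) := CfsgLib.PF.oddSolvable _
      (Nat.coprime_two_right.1 CfsgLib.PCore.pPrimeCore_coprime)
    exact congrArg Subtype.val (CfsgLib.Components.commute_of_commutator_eq_bot
      (CfsgLib.Components.commutator_layer_solvable (Cfsg.oddCore M)) hv' hw').symm
  -- `F*(M) = F(M)` is odd
  exfalso
  obtain ⟨η, hηH, -, b, hb, hmove⟩ := E.exists_moving
  have hb1 : b ≠ 1 := fun h => hmove (by rw [h, mul_one, mul_inv_cancel])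
  have hbt : b ≠ E.t := fun h => hmove (by
    rw [h]; exact mul_inv_eq_iff_eq_mul.2 (E.mem_H.1 hηH))
  have hcomm : ∀ r : ℕ, r.Prime → ∀ y ∈ Cfsg.Agent.S1312.coreIn r M, y * E.t = E.t * y := by
    intro r hr
    haveI := Fact.mk hr
    by_cases hr2 : r = 2
    · subst hr2
      intro y hy
      rw [Cfsg.Agent.S1312.coreIn, hO2, Subgroup.map_bot, mem_bot] at hy
      rw [hy, one_mul, mul_one]
    have key : ∀ v ∈ (E.S : Subgroup G), v ≠ 1 → v ≠ E.t →
        ∀ a ∈ Cfsg.Agent.S1312.coreIn r M, a * v = v * a → a * E.t = E.t * a := by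
      intro v hv hv1 hvt a ha hav
      by_cases hone : ∀ q : ℕ, q.Prime → q ∣ Nat.card (Cfsg.fittingSubgroup ↥M) → q = r
      · exact E.commute_single hM hHM hO2 hlayer hr hone hv hv1 hvt ha hav
      · push Not at hone
        obtain ⟨j, hj, hjd, hjr⟩ := hone
        exact commute_two hM hHM hv hv1 hvt hO2 hlayer hr hj hjr hjd ha hav
    set A := Cfsg.Agent.S1312.coreIn r M with hA
    have hodd : Odd (Nat.card A) := by
      obtain ⟨k, hk⟩ := IsPGroup.iff_card.1 (coreIn_isPGroup hr M)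
      rw [hA, hk]
      exact (hr.odd_of_ne_two hr2).pow
    have hbt1 : b * E.t ≠ 1 := fun e => hbt (by rw [eq_inv_of_mul_eq_one_left e, E.t_inv])
    have hbtt : b * E.t ≠ E.t := fun e => hb1 (by simpa using e)
    have hle : A ≤ E.H := E.le_of_fixed hb hodd
      (fun v hv x hx => (mem_normalizer_iff.1 (coreIn_le_normalizer r M (hSM hv)) x).1 hx)
      (fun y _ h => E.mem_H.2 h) (fun y hy h => E.mem_H.2 (key b hb hb1 hbt y hy h))
      (fun y hy h => E.mem_H.2 (key _ (mul_mem hb E.t_mem) hbt1 hbtt y hy h))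
    exact fun y hy => E.mem_H.1 (hle hy)
  set z : M := ⟨E.t, htM⟩ with hz
  have hzc : z ∈ centralizer (Cfsg.fittingSubgroup ↥M : Set ↥M) := by
    have h1 : Cfsg.fittingSubgroup ↥M ≤ centralizer ({z} : Set ↥M) := by
      rw [CfsgLib.Fitting.fitting_eq_iSup_pCore]
      exact iSup_le fun r y hy => mem_centralizer_singleton_iff.2 (Subtype.ext
        (hcomm r (Nat.prime_of_mem_primeFactors r.2) y ⟨y, hy, rfl⟩))
    exact mem_centralizer_iff.2 fun y hy => mem_centralizer_singleton_iff.1 (h1 hy)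
  have hzF : z ∈ Cfsg.fittingSubgroup ↥M := by
    have h := CfsgLib.Components.centralizer_generalizedFitting_le (G := ↥M)
    rw [Cfsg.generalizedFittingSubgroup, hlayer, bot_sup_eq] at h
    exact h hzc
  have hp : IsPGroup 2 (zpowers z) := IsPGroup.of_card (n := 1) (by
    rw [Nat.card_zpowers, ← Subgroup.orderOf_coe, pow_one]; exact E.orderOf_t)
  have := Cfsg.Agent.S1312.pgroup_le_fitting_le_pCore hp (zpowers_le.2 hzF) (mem_zpowers z)
  rw [hO2, mem_bot] at this
  exact E.t_ne (congrArg Subtype.val this)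

/-- `C(t)` is maximal. -/
theorem isCoatom_H : IsCoatom E.H := by
  refine ⟨E.H_ne_top, fun K hK => by_contra fun hKtop => ?_⟩
  obtain ⟨M, hM, hKM⟩ := (eq_top_or_exists_le_coatom K).resolve_left hKtop
  have hHM : E.H ≤ M := hK.le.trans hKM
  refine hK.not_ge (hKM.trans fun m hm => E.mem_H.2 ?_)
  have hc := E.commute_coreIn hM hHM
  have hd := E.comm_mem_core hM hHM hm
  rw [E.t_inv] at hd
  set d := m * E.t * m⁻¹ * E.t with hdd
  have h1 : d * E.t = E.t * d := hc d hd
  have h2 : d * d = 1 := by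
    calc d * d = d * (E.t * E.t) * d := by rw [E.t_sq, mul_one]
      _ = (d * E.t) * (E.t * d) := by simp only [mul_assoc]
      _ = (d * E.t) * (d * E.t) := by rw [h1]
      _ = 1 := by
        rw [hdd, show m * E.t * m⁻¹ * E.t * E.t = m * E.t * m⁻¹ * (E.t * E.t) by group, E.t_sq,
          mul_one, show m * E.t * m⁻¹ * (m * E.t * m⁻¹) = m * (E.t * E.t) * m⁻¹ by group, E.t_sq,
          mul_one, mul_inv_cancel]
  have h3 := CfsgLib.RankOneInvol.eq_one_of_mem_of_sq (CfsgLib.GW.odd_card_coreIn M) hd h2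
  have h4 : m * E.t * m⁻¹ = E.t := by
    rw [hdd] at h3
    rw [eq_inv_of_mul_eq_one_left h3, E.t_inv]
  exact mul_inv_eq_iff_eq_mul.1 h4

end MaxCtx

namespace Setup

/-- The hypotheses of Step 2. -/
def maxCtx (E : Setup G) (hsmall : SmallCore G) : MaxCtx G where
  S := E.S
  act := ⟨E.card_S, E.sq⟩
  t := E.t
  t_mem := E.mem
  t_ne := E.ne
  simple := E.simple
  nonsolv := E.nonsolv
  small := hsmall

/-- In a minimal case the centraliser of the involution is maximal. -/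
theorem isCoatom_H (E : Setup G) (hsmall : SmallCore G) : IsCoatom E.H :=
  (E.maxCtx hsmall).isCoatom_H

end Setup

end CfsgLib.Walter
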