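import Cfsg.Agent.Lib.Walter.Shape
import Cfsg.Agent.Lib.Walter.Maximal
import Cfsg.Agent.Lib.CoreKill.Applications
import Cfsg.Agent.S1221
import Cfsg.Prelude.Def_Exceptional

/-!
Walter, rank three: the assembly.  By induction on the order the centralisers of involutions are maximal
and core-free; what remains are the two named inputs: the triviality of the field part and the
Janko-Thompson order theorem.
-/

set_option autoImplicit false
set_option linter.style.haveILetI false

namespace CfsgLib.Walter

open Subgroup CfsgLib.GW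

universe u

/-- Maximal involution centralisers have trivial cores. -/
def CoreFree : Prop :=
  ∀ (G : Type u) [Group G] [Finite G] (E : Setup G), Local E →
    (∀ v ∈ (E.S : Subgroup G), v ≠ 1 → IsCoatom (centralizer ({v} : Set G))) → E.W = ⊥

/-- A core-free involution centraliser has no field automorphisms. -/
def FieldFree : Prop :=
  ∀ (G : Type u) [Group G] [Finite G] (E : Setup G), Local E → E.W = ⊥ →
    ∃ (F : Type) (_ : Field F) (_ : Fintype F), 3 ≤ Fintype.card F ∧
      Nonempty (centralizer ({E.t} : Set G) ≃*
        Multiplicative (ZMod 2) × Matrix.ProjectiveSpecialLinearGroup (Fin 2) F)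

/-- The theorem of Janko and Thompson on the order. -/
def OrderTheorem : Prop :=
  ∀ (G : Type u) [Group G] [Finite G] [IsSimpleGroup G],
    (∀ P : Sylow 2 G, ∀ a b : P, a * b = b * a) →
    ∀ (F : Type) [Field F] [Fintype F], 3 ≤ Fintype.card F → ∀ t : G, orderOf t = 2 →
      Nonempty (centralizer ({t} : Set G) ≃*
        Multiplicative (ZMod 2) × Matrix.ProjectiveSpecialLinearGroup (Fin 2) F) →
      Cfsg.IsJ1 G ∨ Cfsg.IsRee G

/-- The same setup at another involution. -/
def Setup.at' {G : Type u} [Group G] [Finite G] (E : Setup G) (v : G) (hv : v ∈ (E.S : Subgroup G))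
    (hv1 : v ≠ 1) : Setup G :=
  ⟨E.simple, E.noncomm, E.S, E.card_S, E.sq, v, hv, hv1, E.nonsolv_all hv hv1⟩

theorem Setup.isCoatom_all {G : Type u} [Group G] [Finite G] (E : Setup G) (hsmall : SmallCore G) :
    ∀ v ∈ (E.S : Subgroup G), v ≠ 1 → IsCoatom (centralizer ({v} : Set G)) :=
  fun v hv hv1 => (E.at' v hv hv1).isCoatom_H hsmall

/-- Involution centralisers in simple groups with elementary Sylow 2-subgroups of order eight are core-free. -/
theorem smallCore (hD : CoreFree.{u}) (G : Type u) [Group G] : SmallCore G := by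
  suffices h : ∀ (n : ℕ) (X : Type u) [Group X] [Finite X], Nat.card X ≤ n → IsSimpleGroup X →
      ∀ P : Sylow 2 X, ActEight P → ∀ v : X, orderOf v = 2 →
        Cfsg.oddCore (centralizer ({v} : Set X)) = ⊥ by
    exact fun X _ _ hs _ P hP v hv => h _ X le_rfl hs P hP v hv
  intro n
  induction n with
  | zero =>
    intro X _ _ hn _ P hP
    exact absurd hn (by have := Nat.card_pos (α := X); omega)
  | succ n ih =>
    intro X _ _ hn hs P hP v hv
    haveI := hs
    have hsmall : SmallCore X := fun Y _ _ hY hlt Q hQ w hw => ih Y (by omega) hY Q hQ w hw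
    haveI : Fact (Nat.Prime 2) := ⟨Nat.prime_two⟩
    have hnc : ¬ IsMulCommutative X := by
      intro hc
      have hp : (Nat.card X).Prime := by
        letI : CommGroup X := { (inferInstance : Group X) with mul_comm := hc.is_comm.comm }
        exact IsSimpleGroup.prime_card
      have h8 : 8 ∣ Nat.card X := hP.card ▸ (P : Subgroup X).card_subgroup_dvd_card
      have := (Nat.dvd_prime hp).1 h8
      rcases this with h | h
      · omega
      · rw [← h] at hp; norm_num at hp
    by_cases hC : ∀ t : X, orderOf t = 2 → Group.IsSolvable ↥(centralizer ({t} : Set X))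
    · have h3 : ¬ Cfsg.PRankLE 2 2 ↥(⊤ : Subgroup ↥(P : Subgroup X)) := fun h => by
        have hle := h ⊤ ⟨⟨fun a b => Subtype.ext (Subtype.ext (Subtype.ext
          (hP.comm a.1.1.2 b.1.1.2)))⟩⟩ fun a _ => Subtype.ext (Subtype.ext (by
            simpa [pow_two] using hP.sq _ a.1.2))
        rw [Subgroup.card_top, Subgroup.card_top, hP.card] at hle
        norm_num at hle
      have := CoreKill.cores_eq_bot_of_normal (fun G _ _ H hH => Cfsg.Agent.S1221.result H hH)
        (CoreKill.constrainedCentralizers_of_solvable hC) (CoreKill.oddCore_eq_bot_of_simple hv) P ⊤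
        inferInstance ⟨⟨fun a b => Subtype.ext (Subtype.ext (hP.comm a.1.2 b.1.2))⟩⟩ h3 v hv
      exact (Subgroup.map_eq_bot_iff_of_injective _ (Subgroup.subtype_injective _)).1 this
    · push Not at hC
      obtain ⟨t, ht, htns⟩ := hC
      obtain ⟨R, hR⟩ := (IsPGroup.of_card (n := 1) (p := 2)
        (show Nat.card (zpowers t) = 2 ^ 1 by rw [Nat.card_zpowers, ht, pow_one])).exists_le_sylow
      have hR8 : ActEight R := by
        obtain ⟨g, hg⟩ := MulAction.exists_smul_eq X P R
        have hRmap : (R : Subgroup X) = (P : Subgroup X).map (MulAut.conj g).toMonoidHom := by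
          rw [← hg]; rfl
        refine ⟨?_, ?_⟩
        · rw [hRmap, card_map_of_injective (MulEquiv.injective _)]
          exact hP.card
        · rw [hRmap]
          rintro _ ⟨x, hx, rfl⟩
          rw [← map_mul, hP.sq x hx, map_one]
      let E : Setup X := ⟨hs, hnc, R, hR8.card, hR8.sq, t, hR (mem_zpowers t),
        fun e => by rw [e, orderOf_one] at ht; omega, htns⟩
      have hloc := E.local_structure
      have hW := hD X E hloc (E.isCoatom_all hsmall)
      obtain ⟨g, hg⟩ := isConj_iff.1 (hloc.one_class v t hv ht)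
      have he : (centralizer ({v} : Set X)).map (MulAut.conj g).toMonoidHom = centralizer ({t} : Set X) := by
        ext x
        rw [mem_map_equiv, mem_centralizer_singleton_iff, mem_centralizer_singleton_iff,
          MulAut.conj_symm_apply, ← hg]
        constructor
        · intro h
          calc x * (g * v * g⁻¹) = g * (g⁻¹ * x * g * v) * g⁻¹ := by group
            _ = g * v * g⁻¹ * x := by rw [h]; group
        · intro h
          calc g⁻¹ * x * g * v = g⁻¹ * (x * (g * v * g⁻¹)) * g := by group
            _ = v * (g⁻¹ * x * g) := by rw [h]; group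
      have hb : Cfsg.oddCore ↥(centralizer ({t} : Set X)) = ⊥ :=
        (Subgroup.map_eq_bot_iff_of_injective _ (Subgroup.subtype_injective _)).1 hW
      let e : ↥(centralizer ({v} : Set X)) ≃* ↥(centralizer ({t} : Set X)) :=
        (equivMapOfInjective _ _ (MulEquiv.injective (MulAut.conj g))).trans (MulEquiv.subgroupCongr he)
      have hmap := CfsgLib.PCore.map_pPrimeCore_equiv (p := 2) e
      rw [show Cfsg.pPrimeCore 2 ↥(centralizer ({t} : Set X)) = ⊥ from hb] at hmap
      exact (Subgroup.map_eq_bot_iff_of_injective _ e.injective).1 hmap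

/-- All involution centralisers of a rank three configuration are core-free. -/
theorem rank_three_cores (hD : CoreFree.{u}) (X : Type u) [Group X] [Finite X] (E : Setup X) :
    ∀ d ∈ (E.S : Subgroup X), d ≠ 1 → Cfsg.centralizerPPrimeCore 2 d = ⊥ := fun d hd hd1 =>
  hD X (E.at' d hd hd1) (E.at' d hd hd1).local_structure
    ((E.at' d hd hd1).isCoatom_all (smallCore hD X))

/-- The core case of rank three from the two remaining inputs. -/
theorem coreGoal_of (hD : CoreFree.{u}) (hF : FieldFree.{u}) (hO : OrderTheorem.{u}) : CoreGoal.{u} := by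
  intro G _ _ E
  haveI := E.simple
  haveI : Fact (Nat.Prime 2) := ⟨Nat.prime_two⟩
  obtain ⟨F, iF, iFt, hq, hC⟩ := hF G E E.local_structure
    (hD G E E.local_structure (E.isCoatom_all (smallCore hD G)))
  refine hO G (fun P a b => ?_) F hq E.t E.orderOf_t hC
  obtain ⟨g, hg⟩ := MulAction.exists_smul_eq G E.S P
  have hP : (P : Subgroup G) = (E.S : Subgroup G).map (MulAut.conj g).toMonoidHom := by
    rw [← hg]; rfl
  obtain ⟨a, ha⟩ := a
  obtain ⟨b, hb⟩ := b
  refine Subtype.ext ?_
  show a * b = b * a
  replace ha : a ∈ (P : Subgroup G) := ha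
  replace hb : b ∈ (P : Subgroup G) := hb
  rw [hP] at ha hb
  obtain ⟨x, hx, rfl⟩ := ha
  obtain ⟨y, hy, rfl⟩ := hb
  show MulAut.conj g x * MulAut.conj g y = MulAut.conj g y * MulAut.conj g x
  rw [← map_mul, E.comm hx hy, map_mul]

end CfsgLib.Walter
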