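import Cfsg.Prelude.Def_Exceptional
import Cfsg.Prelude.Def_Sporadic
import Cfsg.Agent.Lib.Walter.Setup
import Cfsg.Agent.Lib.SylTwoAbel.Simple
import Cfsg.Agent.Lib.GW.Done

/-!
# Simple groups with Sylow 2-subgroups of order eight: reduction to the elementary abelian core case

A dihedral Sylow subgroup is Gorenstein–Walter; the other groups of order eight and 2-rank at most two do
not occur; an elementary one with solvable involution centralisers gives `PSL(2, 8)`.
-/

set_option autoImplicit false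
set_option linter.unusedSectionVars false
set_option linter.style.haveILetI false

namespace CfsgLib.Walter

open Subgroup

universe u

local instance : Fact (Nat.Prime 2) := ⟨Nat.prime_two⟩

section Arith

variable {F : Type} [Field F] [Fintype F]

/-- The fields of odd order giving Sylow 2-subgroups of order eight. -/
theorem card_mod_sixteen (ho : Odd (Fintype.card F))
    (h8 : 8 ∣ Nat.card (Matrix.ProjectiveSpecialLinearGroup (Fin 2) F))
    (h16 : ¬ 16 ∣ Nat.card (Matrix.ProjectiveSpecialLinearGroup (Fin 2) F)) :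
    Fintype.card F % 16 = 7 ∨ Fintype.card F % 16 = 9 := by
  have hc := CfsgLib.PSL2.card_psl (F := F)
  set q := Fintype.card F
  set N := Nat.card (Matrix.ProjectiveSpecialLinearGroup (Fin 2) F)
  obtain ⟨m, hm⟩ := ho
  have hg : Nat.gcd 2 (q - 1) = 2 := Nat.gcd_eq_left ⟨m, by omega⟩
  rw [hg, hm, show 2 * m + 1 - 1 = 2 * m by omega] at hc
  have hN : N = 2 * (m * (m + 1) * (2 * m + 1)) := by nlinarith
  have e : ∀ k : ℕ, N % k = 2 * (m % k * ((m % k + 1) % k) * ((2 * (m % k) + 1) % k)) % k := by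
    intro k
    rw [hN]
    simp [Nat.mul_mod, Nat.add_mod]
  have e8 := e 8
  have e16 := e 16
  have hm8 : m % 8 = m % 16 % 8 := (Nat.mod_mod_of_dvd m (by norm_num)).symm
  have hmlt := Nat.mod_lt m (show 0 < 16 by norm_num)
  rw [Nat.dvd_iff_mod_eq_zero] at h8 h16
  rw [hm8] at e8
  interval_cases h : m % 16 <;> first | omega | (norm_num at e8 e16; omega)

/-- Only `PSL(2, 8)` among the groups `PSL(2, q)` with `q` as in the abelian classification has Sylow
2-subgroups of order eight. -/
theorem card_eq_eight {n : ℕ} (hn : 2 ≤ n) (hq : Fintype.card F = 2 ^ n)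
    (h8 : 8 ∣ Nat.card (Matrix.ProjectiveSpecialLinearGroup (Fin 2) F))
    (h16 : ¬ 16 ∣ Nat.card (Matrix.ProjectiveSpecialLinearGroup (Fin 2) F)) :
    Fintype.card F = 8 := by
  have hc := CfsgLib.PSL2.card_psl (F := F)
  set q := Fintype.card F
  set N := Nat.card (Matrix.ProjectiveSpecialLinearGroup (Fin 2) F)
  have hg : Nat.gcd 2 (q - 1) = 1 := by
    rw [← Nat.coprime_iff_gcd_eq_one, Nat.coprime_two_left, hq]
    obtain ⟨k, hk⟩ : ∃ k, 2 ^ n = 2 * k := ⟨2 ^ (n - 1), by rw [← pow_succ', Nat.sub_add_cancel (by omega)]⟩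
    exact ⟨k - 1, by have := Nat.two_pow_pos n; omega⟩
  rw [hg, one_mul] at hc
  rcases eq_or_ne n 3 with rfl | h3
  · rw [hq]; norm_num
  exfalso
  rcases eq_or_ne n 2 with rfl | h2
  · rw [hc, hq] at h8
    norm_num at h8
  refine h16 ?_
  rw [hc]
  refine Dvd.dvd.mul_left (Dvd.dvd.mul_right ?_ _) _
  rw [hq]
  exact pow_dvd_pow 2 (show 4 ≤ n by omega)

end Arith

/-- The statement of S0993 from the rank three core theorem. -/
theorem simple_sylow_two_card_eight (hcore : CoreGoal.{u}) {G : Type u} [Group G] [Finite G] [IsSimpleGroup G]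
    (hG : ¬ IsMulCommutative G) (T : Sylow 2 G) (hT : Nat.card ↥(T : Subgroup G) = 8) :
    (∃ (F : Type) (_ : Field F) (_ : Fintype F), Fintype.card F = 8 ∧
        Nonempty (G ≃* Matrix.ProjectiveSpecialLinearGroup (Fin 2) F)) ∨
      (∃ (F : Type) (_ : Field F) (_ : Fintype F), (Fintype.card F % 16 = 7 ∨ Fintype.card F % 16 = 9) ∧
        Nonempty (G ≃* Matrix.ProjectiveSpecialLinearGroup (Fin 2) F)) ∨
      Nonempty (G ≃* alternatingGroup (Fin 7)) ∨ Cfsg.IsJ1 G ∨ Cfsg.IsRee G := by
  classical
  have h8 : 8 ∣ Nat.card G := hT ▸ (T : Subgroup G).card_subgroup_dvd_card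
  have h16 : ¬ 16 ∣ Nat.card G := fun h => T.not_dvd_index (by
    rw [← (T : Subgroup G).card_mul_index, hT] at h
    omega)
  by_cases h2 : Cfsg.PRankLE 2 2 ↥(T : Subgroup G)
  · let F16 := GaloisField 2 4
    letI : Fintype F16 := Fintype.ofFinite _
    have hF16 : Fintype.card F16 = 16 := by
      rw [← Nat.card_eq_fintype_card, GaloisField.card 2 4 (by norm_num)]; norm_num
    have hFT : CfsgLib.FTCons.OddSolvable.{u} := fun X i1 i2 hX =>
      @CfsgLib.PF.oddSolvable.{u} X i1 i2 hX
    rcases CfsgLib.RankTwoTypes.sylow_types_of_oddSolvable hFT hG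
        (CfsgLib.SylTwoAbel.prankLE_of_sylow T h2) T hF16
        (Classical.arbitrary (Sylow 2 (Cfsg.PSU 3 F16 4))) with
      ⟨n, hn, ⟨e⟩⟩ | ⟨n, hn, hc, -⟩ | ⟨n, hn, hc, -⟩ | ⟨⟨e⟩⟩
    · haveI : Group.IsPerfect G := Group.isPerfect_def.2
        ((Subgroup.Normal.eq_bot_or_eq_top (show (commutator G).Normal by infer_instance)).resolve_left
          fun h => hG ⟨⟨fun a b => by
            rw [← commutatorElement_eq_one_iff_mul_comm, ← Subgroup.mem_bot, ← h]
            exact Subgroup.commutator_mem_commutator (Subgroup.mem_top _) (Subgroup.mem_top _)⟩⟩)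
      obtain ⟨i, hi⟩ := exists_prime_orderOf_dvd_card' (G := G) 2 ((show 2 ∣ 8 by norm_num).trans h8)
      have hO : Cfsg.oddCore G = ⊥ := CoreKill.oddCore_eq_bot_of_simple hi
      have e0 : G ⧸ Cfsg.oddCore G ≃* G :=
        (QuotientGroup.quotientMulEquivOfEq hO).trans QuotientGroup.quotientBot
      rcases CfsgLib.GW.Done.classification G T n hn ⟨e⟩ with ⟨F, iF, iFt, hodd, -, ⟨f⟩⟩ | ⟨⟨f⟩⟩
      · exact Or.inr (Or.inl ⟨F, iF, iFt, @card_mod_sixteen F iF iFt hodd
          (by rwa [← Nat.card_congr (e0.symm.trans f).toEquiv])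
          (by rwa [← Nat.card_congr (e0.symm.trans f).toEquiv]), ⟨e0.symm.trans f⟩⟩)
      · exact Or.inr (Or.inr (Or.inl ⟨e0.symm.trans f⟩))
    · exfalso
      rw [hT] at hc
      have := Nat.pow_le_pow_right two_pos (show 4 ≤ n + 1 by omega)
      omega
    · exfalso
      rw [hT] at hc
      have := Nat.pow_le_pow_right two_pos (show 4 ≤ 2 * n + 1 by omega)
      omega
    · exfalso
      obtain ⟨h64, -⟩ := Cfsg.Agent.S1248.result hF16
        (Classical.arbitrary (Sylow 2 (Cfsg.PSU 3 F16 4)))
      rw [Nat.card_congr e.toEquiv] at hT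
      omega
  · -- elementary abelian
    have hA := h2
    simp only [Cfsg.PRankLE, not_forall, not_le] at hA
    obtain ⟨A, hAc, hA2, hAcard⟩ := hA
    have hAtop : A = ⊤ := by
      refine eq_top_of_card_eq _ (le_antisymm (card_le_card_group A) ?_)
      have hd : Nat.card A ∣ 8 := hT ▸ A.card_subgroup_dvd_card
      have hle := Nat.le_of_dvd (by norm_num) hd
      interval_cases hk : Nat.card A <;> first | omega | norm_num at hd
    have hel : ∀ x ∈ (T : Subgroup G), x * x = 1 := fun x hx => by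
      have := congrArg Subtype.val (hA2 ⟨x, hx⟩ (hAtop ▸ mem_top _))
      simpa [pow_two] using this
    have hinv : ∀ x ∈ (T : Subgroup G), x⁻¹ = x := fun x hx => inv_eq_of_mul_eq_one_right (hel x hx)
    have hcomm : ∀ x ∈ (T : Subgroup G), ∀ y ∈ (T : Subgroup G), x * y = y * x := fun x hx y hy => by
      rw [← hinv _ (mul_mem hx hy), mul_inv_rev, hinv x hx, hinv y hy]
    have hns : ¬ Group.IsSolvable G := fun hs =>
      hG ⟨⟨fun a b => IsSimpleGroup.comm_iff_isSolvable.2 hs a b⟩⟩
    by_cases hC : ∀ t : G, orderOf t = 2 → Group.IsSolvable ↥(centralizer ({t} : Set G))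
    · obtain ⟨F, iF, iFt, hq, ⟨f⟩⟩ :=
        CfsgLib.SylTwoAbel.exists_psl_of_simple CfsgLib.GW.Done.classification hns T hcomm hC
      rw [Nat.card_congr f.toEquiv] at h8 h16
      rcases hq with ⟨hq, h5⟩ | ⟨n, hn, hq⟩
      · exfalso
        have ho : Odd (Fintype.card F) := ⟨Fintype.card F / 2, by omega⟩
        have := card_mod_sixteen ho h8 h16
        omega
      · exact Or.inl ⟨F, iF, iFt, card_eq_eight hn hq h8 h16, ⟨f⟩⟩
    · push Not at hC
      obtain ⟨t, ht, hns⟩ := hC
      obtain ⟨Q, hQ⟩ := (IsPGroup.of_card (n := 1) (p := 2)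
        (show Nat.card (zpowers t) = 2 ^ 1 by rw [Nat.card_zpowers, ht, pow_one])).exists_le_sylow
      obtain ⟨g, hg⟩ := MulAction.exists_smul_eq G T Q
      obtain ⟨s, hs, hst⟩ : t ∈ (T : Subgroup G).map (MulAut.conj g).toMonoidHom := by
        have := hQ (mem_zpowers t)
        rwa [← hg, Sylow.coe_subgroup_smul] at this
      have hts : g * s * g⁻¹ = t := hst
      have hs1 : s ≠ 1 := by
        rintro rfl
        rw [mul_one, mul_inv_cancel] at hts
        rw [← hts, orderOf_one] at ht
        norm_num at ht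
      have hns' : ¬ Group.IsSolvable ↥(centralizer ({s} : Set G)) := fun h => hns (by
        haveI := h
        have hle : ∀ x : ↥(centralizer ({t} : Set G)), MulAut.conj g⁻¹ (x : G) ∈ centralizer ({s} : Set G) :=
          fun x => by
            refine mem_centralizer_singleton_iff.2 ?_
            have hx : (x : G) * t = t * (x : G) := mem_centralizer_singleton_iff.1 x.2
            have hst' : s = MulAut.conj g⁻¹ t := by rw [MulAut.conj_apply, inv_inv, ← hts]; group
            rw [hst', ← map_mul, ← map_mul, hx]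
        exact Group.isSolvable_of_isSolvable_injective
          (f := ((MulAut.conj g⁻¹).toMonoidHom.comp (centralizer ({t} : Set G)).subtype).codRestrict
            (centralizer ({s} : Set G)) hle)
          fun x y hxy => Subtype.ext ((MulAut.conj g⁻¹).injective (congrArg Subtype.val hxy)))
      rcases hcore G ⟨inferInstance, hG, T, hT, hel, s, hs, hs1, hns'⟩ with h | h
      · exact Or.inr (Or.inr (Or.inr (Or.inl h)))
      · exact Or.inr (Or.inr (Or.inr (Or.inr h)))

end CfsgLib.Walter
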