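import Cfsg.Agent.Lib.Walter.LocalFusion
import Cfsg.Agent.Lib.GW.Done
import Cfsg.Agent.Lib.PF.OddOrder
import Cfsg.Agent.Lib.InvChar.SolvableTwo
import Cfsg.Agent.Lib.InvChar.SmallSolvable
import Cfsg.Agent.Lib.AutPSL.FieldGalois

/-!
The centraliser of an involution modulo its core in a simple group with elementary Sylow 2-subgroup of
order eight and a non-solvable involution centraliser, from the Gorenstein–Walter theorem.
-/

set_option autoImplicit false
set_option linter.style.haveILetI false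

namespace CfsgLib.Walter

open Subgroup CfsgLib.GW

universe u

variable {G : Type u} [Group G] [Finite G]

/-- A group of order four and exponent two is dihedral. -/
theorem dihedral_two {Q : Type*} [Group Q] [Finite Q] (h4 : Nat.card Q = 4) (hsq : ∀ x : Q, x * x = 1) :
    Nonempty (Q ≃* DihedralGroup 2) := by
  haveI : Fact (Nat.Prime 2) := ⟨Nat.prime_two⟩
  haveI : IsKleinFour Q := ⟨h4, by
    have hd : Monoid.exponent Q ∣ 2 := Monoid.exponent_dvd_of_forall_pow_eq_one fun x => by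
      rw [pow_two]; exact hsq x
    rcases (Nat.dvd_prime Nat.prime_two).1 hd with h | h
    · exfalso
      haveI := Monoid.exp_eq_one_iff.1 h
      rw [Nat.card_of_subsingleton (1 : Q)] at h4
      omega
    · exact h⟩
  exact IsKleinFour.nonempty_mulEquiv

theorem solvable_of_hom {A B : Type*} [Group A] [Group B] (f : A →* B) [Group.IsSolvable B]
    [Group.IsSolvable f.ker] : Group.IsSolvable A :=
  Group.isSolvable_of_ker_le_range f.ker.subtype f (by rw [Subgroup.range_subtype])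

/-- A group with `PSL(2,q)` of order not divisible by eight has `q ≡ 3, 5 (mod 8)`. -/
theorem card_mod_eight {F : Type} [Field F] [Fintype F] (ho : Odd (Fintype.card F))
    (h8 : ¬ 8 ∣ Nat.card (Matrix.ProjectiveSpecialLinearGroup (Fin 2) F)) :
    Fintype.card F % 8 = 3 ∨ Fintype.card F % 8 = 5 := by
  have hc := CfsgLib.PSL2.card_psl (F := F)
  set q := Fintype.card F
  set N := Nat.card (Matrix.ProjectiveSpecialLinearGroup (Fin 2) F)
  obtain ⟨m, hm⟩ := ho
  have hg : Nat.gcd 2 (q - 1) = 2 := Nat.gcd_eq_left ⟨m, by omega⟩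
  rw [hg, hm, show 2 * m + 1 - 1 = 2 * m by omega] at hc
  by_contra hne
  push Not at hne
  refine h8 ?_
  have hkey : 4 ∣ m * (m + 1) := by
    rcases (show m % 4 = 0 ∨ m % 4 = 3 by omega) with h | h
    · exact Dvd.dvd.mul_right (Nat.dvd_of_mod_eq_zero h) _
    · exact Dvd.dvd.mul_left (Nat.dvd_of_mod_eq_zero (by omega)) _
  obtain ⟨j, hj⟩ := hkey
  refine ⟨j * (2 * m + 1), ?_⟩
  nlinarith

theorem four_dvd_card_psl {F : Type} [Field F] [Fintype F] (ho : Odd (Fintype.card F)) :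
    4 ∣ Nat.card (Matrix.ProjectiveSpecialLinearGroup (Fin 2) F) := by
  have hc := CfsgLib.PSL2.card_psl (F := F)
  obtain ⟨m, hm⟩ := ho
  have hg : Nat.gcd 2 (Fintype.card F - 1) = 2 := Nat.gcd_eq_left ⟨m, by omega⟩
  rw [hg, hm, show 2 * m + 1 - 1 = 2 * m by omega] at hc
  obtain ⟨j, hj⟩ : 2 ∣ m * (m + 1) := (Nat.even_mul_succ_self m).two_dvd
  refine ⟨j * (2 * m + 1), ?_⟩
  nlinarith

/-- In a group of odd index over `PSL(2,q)` inside its automorphism group the commutators lie in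
`PSL(2,q)`. -/
theorem comm_mem_of_psl {Y : Type*} [Group Y] [Finite Y] {F : Type} [Field F] [Fintype F] {L : Subgroup Y}
    (h : Field.Psl L F) (hidx : Odd L.index) (a b : Y) : a * b * a⁻¹ * b⁻¹ ∈ L := by
  have hfp : h.fp (a * b * a⁻¹ * b⁻¹) = 1 := by
    rw [map_mul, map_mul, map_mul, map_inv, map_inv, (CfsgLib.FieldGalois.commute_ringAut (h.fp a) (h.fp b)).eq,
      mul_inv_cancel_right, mul_inv_cancel]
  generalize a * b * a⁻¹ * b⁻¹ = y at hfp ⊢
  obtain ⟨g, hg⟩ := h.exists_rep hfp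
  haveI := h.normal
  obtain ⟨k, hk⟩ := hidx
  have h1 : y ^ L.index ∈ L := L.pow_index_mem y
  have h2 : y ^ (2 * (k + 1)) ∈ L := by
    refine h.mem_of_rep (g := g ^ (2 * (k + 1))) (by rw [map_pow, hg, map_pow]) ?_
    rw [mul_comm, pow_mul, pow_two]
    by_cases hm : g ^ (k + 1) ∈ PSL2.pslImage F
    · exact mul_mem hm hm
    · exact PSL2.mul_mem_pslImage_of_not_mem hm hm
  rw [show 2 * (k + 1) = L.index + 1 by omega, pow_succ] at h2
  exact (L.mul_mem_cancel_left h1).1 h2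

namespace Setup

variable (E : Setup G)

/-- Non-solvability of all the centralisers. -/
theorem nonsolv_all {s : G} (hs : s ∈ (E.S : Subgroup G)) (h1 : s ≠ 1) :
    ¬ Group.IsSolvable ↥(centralizer ({s} : Set G)) := by
  intro hsol
  obtain ⟨n, -, hn⟩ := (E.auto_transitive CfsgLib.PF.oddSolvable).2 s hs h1
  refine E.nonsolv ?_
  haveI := hsol
  let f : ↥(centralizer ({E.t} : Set G)) →* ↥(centralizer ({s} : Set G)) :=
    ((MulAut.conj n).toMonoidHom.comp (centralizer ({E.t} : Set G)).subtype).codRestrict _ fun x => by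
      rw [mem_centralizer_singleton_iff, ← hn]
      show n * (x : G) * n⁻¹ * (n * E.t * n⁻¹) = n * E.t * n⁻¹ * (n * (x : G) * n⁻¹)
      have hx := mem_centralizer_singleton_iff.1 x.2
      calc n * (x : G) * n⁻¹ * (n * E.t * n⁻¹) = n * ((x : G) * E.t) * n⁻¹ := by group
        _ = n * (E.t * (x : G)) * n⁻¹ := by rw [hx]
        _ = n * E.t * n⁻¹ * (n * (x : G) * n⁻¹) := by group
  exact solvable_of_solvable_injective (f := f) fun a b hab =>
    Subtype.ext ((MulAut.conj n).injective (congrArg Subtype.val hab))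

/-- The shape of the centraliser of an involution of `S`. -/
theorem exists_shape {s : G} (hs : s ∈ (E.S : Subgroup G)) (h1 : s ≠ 1) :
    Nonempty (Shape (E.S : Subgroup G) s) := by
  classical
  haveI h2f : Fact (Nat.Prime 2) := ⟨Nat.prime_two⟩
  set C := centralizer ({s} : Set G) with hC
  have hns := E.nonsolv_all hs h1
  have hle := E.sylow_le_centralizer hs
  set s' : ↥C := ⟨s, hle hs⟩ with hs'
  set Z : Subgroup ↥C := zpowers s' with hZ
  have hscomm : ∀ x : ↥C, x * s' = s' * x := fun x => Subtype.ext (mem_centralizer_singleton_iff.1 x.2)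
  haveI hZn : Z.Normal := ⟨fun y hy g => by
    obtain ⟨k, rfl⟩ := mem_zpowers_iff.1 hy
    have hc : g * s' ^ k = s' ^ k * g := ((show Commute g s' from hscomm g).zpow_right k).eq
    rw [hc, mul_inv_cancel_right]
    exact zpow_mem (mem_zpowers s') k⟩
  have hs'2 : orderOf s' = 2 := by rw [← Subgroup.orderOf_coe]; exact E.orderOf_eq_two hs h1
  have hZcard : Nat.card ↥Z = 2 := by rw [Nat.card_zpowers, hs'2]
  let mkZ : ↥C →* ↥C ⧸ Z := QuotientGroup.mk' Z
  have hmk : Function.Surjective mkZ := QuotientGroup.mk'_surjective Z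
  let P : Sylow 2 ↥C := E.S.subtype hle
  have hP : ∀ y : ↥C, y ∈ (P : Subgroup ↥C) ↔ (y : G) ∈ (E.S : Subgroup G) := fun y => Iff.rfl
  have hPcard : Nat.card ↥(P : Subgroup ↥C) = 8 := by
    rw [show (P : Subgroup ↥C) = (E.S : Subgroup G).subgroupOf C from rfl,
      Nat.card_congr (subgroupOfEquivOfLe hle).toEquiv]
    exact E.card_S
  -- the four group upstairs
  let T : Sylow 2 (↥C ⧸ Z) := P.mapSurjective hmk
  have hT : (T : Subgroup (↥C ⧸ Z)) = (P : Subgroup ↥C).map mkZ := rfl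
  have hZP : Z ≤ (P : Subgroup ↥C) := (zpowers_le).2 ((hP s').2 hs)
  have hT4 : Nat.card ↥(T : Subgroup (↥C ⧸ Z)) = 4 := by
    have h := (relIndex_mul_relIndex ⊥ Z (P : Subgroup ↥C) bot_le hZP)
    rw [relIndex_bot_left, relIndex_bot_left, hZcard, hPcard] at h
    have h' : Nat.card ↥(T : Subgroup (↥C ⧸ Z)) = Z.relIndex (P : Subgroup ↥C) := by
      rw [hT, ← relIndex_ker, QuotientGroup.ker_mk']
    omega
  have hTsq : ∀ x : ↥(T : Subgroup (↥C ⧸ Z)), x * x = 1 := by
    rintro ⟨x, hx⟩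
    rw [hT] at hx
    obtain ⟨y, hy, rfl⟩ := hx
    refine Subtype.ext ?_
    show mkZ y * mkZ y = 1
    rw [← map_mul, show y * y = 1 from Subtype.ext (E.sq _ ((hP y).1 hy)), map_one]
  obtain ⟨eT⟩ := dihedral_two hT4 hTsq
  have htop : CfsgLib.GW.Top ((↥C ⧸ Z) ⧸ Cfsg.oddCore (↥C ⧸ Z)) :=
    CfsgLib.GW.Main.good_of_simple CfsgLib.GW.Done.isPSLOrA7 (↥C ⧸ Z) T 2 (Or.inl ⟨eT⟩)
  set Y := (↥C ⧸ Z) ⧸ Cfsg.oddCore (↥C ⧸ Z) with hYdef
  let π : ↥C →* Y := (QuotientGroup.mk' (Cfsg.oddCore (↥C ⧸ Z))).comp mkZ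
  have hπ : Function.Surjective π := (QuotientGroup.mk'_surjective _).comp hmk
  obtain ⟨T', ⟨eT'⟩⟩ := CfsgLib.InvChar.exists_sylow_quotient_equiv T
  have hSylY : ∀ S' : Sylow 2 Y, Nat.card ↥(S' : Subgroup Y) = 4 ∧
      Nonempty (↥(S' : Subgroup Y) ≃* DihedralGroup 2) := by
    intro S'
    have e := (Sylow.equiv S' T').trans (eT'.symm.trans eT)
    exact ⟨by rw [Nat.card_congr e.toEquiv, DihedralGroup.nat_card], ⟨e⟩⟩
  have hnsY : ¬ Group.IsSolvable Y := by
    intro hY
    refine hns ?_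
    haveI := hY
    haveI : Group.IsSolvable (↥C ⧸ Z) := by
      haveI : Group.IsSolvable (QuotientGroup.mk' (Cfsg.oddCore (↥C ⧸ Z))).ker := by
        rw [QuotientGroup.ker_mk']
        refine CfsgLib.PF.oddSolvable _ ?_
        rw [← Nat.not_even_iff_odd, even_iff_two_dvd]
        exact CfsgLib.PCore.not_dvd_card_pPrimeCore
      exact solvable_of_hom (QuotientGroup.mk' (Cfsg.oddCore (↥C ⧸ Z)))
    haveI : Group.IsSolvable mkZ.ker := by
      rw [QuotientGroup.ker_mk']
      haveI : Group.IsNilpotent ↥Z := (IsPGroup.of_card (p := 2) (n := 1) (by rw [hZcard, pow_one])).isNilpotent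
      infer_instance
    exact solvable_of_hom mkZ
  obtain ⟨L, hLn, hLc, hL⟩ : ∃ L : Subgroup Y, L.Normal ∧ centralizer (L : Set Y) = ⊥ ∧ IsPSLOrA7 L := by
    rcases htop with h | ⟨⟨e⟩⟩ | ⟨⟨e⟩⟩ | h
    · haveI := h.isNilpotent
      exact absurd (inferInstance : Group.IsSolvable Y) hnsY
    · refine absurd ?_ hnsY
      haveI : Group.IsSolvable ↥(alternatingGroup (Fin 4)) := by
        haveI := CfsgLib.InvCharSmall.isSolvable_perm_four
        infer_instance
      exact solvable_of_solvable_injective (f := e.toMonoidHom) e.injective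
    · refine absurd ?_ hnsY
      haveI : Group.IsSolvable (Equiv.Perm (Fin 4)) := CfsgLib.InvCharSmall.isSolvable_perm_four
      exact solvable_of_solvable_injective (f := e.toMonoidHom) e.injective
    · exact h
  have h8 : ¬ 8 ∣ Nat.card ↥L := by
    intro h
    obtain ⟨S'⟩ : Nonempty (Sylow 2 Y) := inferInstance
    have h4 := (hSylY S').1
    have hd := h.trans L.card_subgroup_dvd_card
    rw [← (S' : Subgroup Y).card_mul_index, h4] at hd
    exact S'.not_dvd_index (by omega)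
  rcases hL with ⟨F, iF, iFt, hodd, h3, hiso⟩ | ⟨⟨e⟩⟩
  swap
  · exfalso
    refine h8 ?_
    rw [Nat.card_congr e.toEquiv, nat_card_alternatingGroup, Nat.card_fin]
    decide
  have hpsl : Field.Psl L F := ⟨hLn, hLc, hiso, hodd, h3, fun S' => ⟨2, (hSylY S').2⟩⟩
  have hq : Fintype.card F % 8 = 3 ∨ Fintype.card F % 8 = 5 := by
    obtain ⟨e⟩ := hiso
    have h8' : ¬ 8 ∣ Nat.card (Matrix.ProjectiveSpecialLinearGroup (Fin 2) F) := by
      rwa [← Nat.card_congr e.toEquiv]
    exact card_mod_eight hodd h8'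
  have hidx : Odd L.index := by
    obtain ⟨S'⟩ : Nonempty (Sylow 2 Y) := inferInstance
    have h4 : 4 ∣ Nat.card ↥L := by
      obtain ⟨e⟩ := hiso
      rw [Nat.card_congr e.toEquiv]
      exact four_dvd_card_psl hodd
    rw [← Nat.not_even_iff_odd, even_iff_two_dvd]
    intro h
    have hd : 8 ∣ Nat.card Y := by
      rw [← L.card_mul_index]
      exact (show 8 = 4 * 2 by norm_num) ▸ Nat.mul_dvd_mul h4 h
    rw [← (S' : Subgroup Y).card_mul_index, (hSylY S').1] at hd
    exact S'.not_dvd_index (by omega)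
  have hW : ∀ x : ↥C, (x : G) ∈ coreIn C ↔ x ∈ Cfsg.oddCore ↥C := fun x => by
    constructor
    · rintro ⟨y, hy, e⟩
      rwa [← (Subtype.ext e : y = x)]
    · exact fun h => ⟨x, h, rfl⟩
  have hπ1 : ∀ x : ↥C, π x = 1 ↔ mkZ x ∈ Cfsg.oddCore (↥C ⧸ Z) := fun x =>
    QuotientGroup.eq_one_iff _
  have hπs : π s' = 1 := by
    rw [hπ1, show mkZ s' = 1 from (QuotientGroup.eq_one_iff _).2 (mem_zpowers s')]
    exact one_mem _
  have hπW : ∀ x ∈ Cfsg.oddCore ↥C, π x = 1 := by
    intro x hx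
    rw [hπ1]
    haveI : ((Cfsg.oddCore ↥C).map mkZ).Normal :=
      Subgroup.Normal.map (by unfold Cfsg.oddCore; infer_instance) _ hmk
    refine CfsgLib.PCore.le_pPrimeCore_of_not_dvd (p := 2) (N := (Cfsg.oddCore ↥C).map mkZ)
      inferInstance ?_ (mem_map_of_mem _ hx)
    exact fun h => CfsgLib.PCore.not_dvd_card_pPrimeCore (h.trans (card_map_dvd _ _))
  -- the kernel
  set K0 : Subgroup ↥C := π.ker with hK0
  have hcore : ∀ x ∈ K0, x ∈ Cfsg.oddCore ↥C ∨ x * s' ∈ Cfsg.oddCore ↥C := by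
    set Zk : Subgroup ↥K0 := zpowers ⟨s', hπs⟩ with hZk
    have hK0card : Nat.card ↥K0 = 2 * Nat.card ↥(Cfsg.oddCore (↥C ⧸ Z)) := by
      have h := relIndex_mul_relIndex ⊥ Z K0 bot_le (zpowers_le.2 hπs)
      rw [relIndex_bot_left, relIndex_bot_left, hZcard] at h
      rw [← h]
      congr 1
      have hKmap : K0.map mkZ = Cfsg.oddCore (↥C ⧸ Z) := by
        ext y
        obtain ⟨x, rfl⟩ := hmk y
        constructor
        · rintro ⟨x', hx', e⟩
          exact e ▸ (hπ1 x').1 hx'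
        · exact fun hy => ⟨x, (hπ1 x).2 hy, rfl⟩
      rw [← hKmap, ← relIndex_ker, QuotientGroup.ker_mk']
    have hZk2 : Nat.card ↥Zk = 2 := by
      rw [Nat.card_zpowers, ← Subgroup.orderOf_coe, hs'2]
    have hZkidx : ¬ 2 ∣ Zk.index := by
      have h := Zk.card_mul_index
      rw [hZk2, hK0card] at h
      intro h2
      exact CfsgLib.PCore.not_dvd_card_pPrimeCore (G := ↥C ⧸ Z) (p := 2) (by
        rw [show Cfsg.pPrimeCore 2 (↥C ⧸ Z) = Cfsg.oddCore (↥C ⧸ Z) from rfl]
        omega)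
    let PZ : Sylow 2 ↥K0 := (IsPGroup.of_card (p := 2) (n := 1) (by rw [hZk2, pow_one])).toSylow hZkidx
    have hPZ : (PZ : Subgroup ↥K0) = Zk := IsPGroup.toSylow_coe _ _
    have hNC : normalizer ((PZ : Subgroup ↥K0) : Set ↥K0) ≤ centralizer ((PZ : Subgroup ↥K0) : Set ↥K0) := by
      intro x _
      refine mem_centralizer_iff.2 fun y hy => ?_
      rw [SetLike.mem_coe, hPZ, mem_zpowers_iff] at hy
      obtain ⟨k, rfl⟩ := hy
      exact ((show Commute x ⟨s', hπs⟩ from Subtype.ext (hscomm x)).zpow_right k).eq.symm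
    obtain ⟨Q, M, hMn, hMc⟩ := CfsgLib.Transfer.hasNormalPComplement_of_normalizer_le PZ hNC
    haveI := hMn
    have hMi : M.index = 2 := by
      rw [hMc.symm.index_eq_card, Nat.card_congr (Sylow.equiv Q PZ).toEquiv, hPZ, hZk2]
    have hMo : Odd (Nat.card ↥M) := by
      rw [← hMc.index_eq_card, ← Nat.not_even_iff_odd, even_iff_two_dvd]
      exact Q.not_dvd_index
    have hMmem : ∀ y : ↥K0, Odd (orderOf y) → y ∈ M := by
      intro y hy
      rw [← QuotientGroup.eq_one_iff, ← orderOf_eq_one_iff]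
      have hd1 : orderOf (QuotientGroup.mk' M y) ∣ orderOf y := orderOf_map_dvd _ y
      have hd2 : orderOf (QuotientGroup.mk' M y) ∣ 2 := hMi ▸ orderOf_dvd_natCard _
      exact Nat.eq_one_of_dvd_coprimes (Nat.coprime_two_right.2 hy) hd1 hd2
    haveI : (M.map K0.subtype).Normal := ⟨by
      rintro _ ⟨y, hy, rfl⟩ g
      refine ⟨⟨g * (y : ↥C) * g⁻¹, (MonoidHom.normal_ker π).conj_mem _ y.2 g⟩, hMmem _ ?_, rfl⟩
      rw [← Subgroup.orderOf_coe]
      show Odd (orderOf (MulAut.conj g (y : ↥C)))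
      rw [MulEquiv.orderOf_eq, Subgroup.orderOf_coe]
      exact hMo.of_dvd_nat (by
        rw [← Subgroup.orderOf_mk y hy]; exact orderOf_dvd_natCard _)⟩
    have hcoreM : ∀ y ∈ M, ((y : ↥K0) : ↥C) ∈ Cfsg.oddCore ↥C := fun y hy => by
      refine CfsgLib.PCore.le_pPrimeCore_of_not_dvd (p := 2) (N := M.map K0.subtype) inferInstance ?_
        (mem_map_of_mem _ hy)
      rw [card_map_of_injective K0.subtype_injective, ← even_iff_two_dvd, Nat.not_even_iff_odd]
      exact hMo
    have hsM : (⟨s', hπs⟩ : ↥K0) ∉ M := fun h => by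
      have h2 := Subgroup.orderOf_dvd_natCard M h
      rw [← Subgroup.orderOf_coe, hs'2] at h2
      exact absurd (even_iff_two_dvd.2 h2) (Nat.not_even_iff_odd.2 hMo)
    intro x hx
    by_cases hxM : (⟨x, hx⟩ : ↥K0) ∈ M
    · exact Or.inl (hcoreM _ hxM)
    · exact Or.inr (hcoreM (⟨x, hx⟩ * ⟨s', hπs⟩)
        ((Subgroup.mul_mem_iff_of_index_two hMi).2 (iff_of_false hxM hsM)))
  have hker : ∀ x : ↥C, π x = 1 → (x : G) ∈ coreIn C ∨ (x : G) * s ∈ coreIn C := by
    intro x hx
    exact (hcore x hx).imp (hW x).2 fun h => (hW (x * s')).2 h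
  refine ⟨{ Y := Y, F := F, L := L, π := π, psl := hpsl, q_mod := hq, surj := hπ,
            ker := fun x => ⟨hker x, ?_⟩, le := hle, img := ?_, comm_mem := ?_, odd_index := hidx,
            ker_S := ?_ }⟩
  · rintro (h | h)
    · exact hπW x ((hW x).1 h)
    · have := hπW (x * s') ((hW (x * s')).1 h)
      rwa [map_mul, hπs, mul_one] at this
  · intro x hx
    rw [← QuotientGroup.eq_one_iff, ← orderOf_eq_one_iff]
    have hd1 : orderOf ((QuotientGroup.mk' L) (π ⟨x, hle hx⟩)) ∣ 2 :=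
      orderOf_dvd_of_pow_eq_one (by
        rw [← map_pow, ← map_pow, pow_two, show (⟨x, hle hx⟩ : ↥C) * ⟨x, hle hx⟩ = 1 from
          Subtype.ext (E.sq x hx), map_one, map_one])
    have hd2 : orderOf ((QuotientGroup.mk' L) (π ⟨x, hle hx⟩)) ∣ L.index := orderOf_dvd_natCard _
    exact Nat.eq_one_of_dvd_coprimes (Nat.coprime_two_left.2 hidx) hd1 hd2
  · intro a b
    exact comm_mem_of_psl hpsl hidx a b
  · intro x hx hx1
    have hodd' : ∀ y : G, y * y = 1 → y ∈ coreIn C → y = 1 := fun y hy hmem =>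
      CfsgLib.RankOneInvol.eq_one_of_mem_of_sq (odd_card_coreIn C) hmem hy
    rcases hker ⟨x, hle hx⟩ hx1 with h | h
    · exact Or.inl (hodd' x (E.sq x hx) h)
    · right
      have := hodd' _ (E.sq _ (mul_mem hx hs)) h
      calc x = x * s * s := by rw [mul_assoc, E.sq s hs, mul_one]
        _ = s := by rw [this, one_mul]

/-- The local facts. -/
theorem local_structure : Local E where
  shape := fun _ hs h1 => E.exists_shape hs h1
  fuse := by
    intro a ha b hb ha1 hb1
    obtain ⟨m, hm, hma⟩ := (E.auto_transitive CfsgLib.PF.oddSolvable).2 a ha ha1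
    obtain ⟨n, hn, hnb⟩ := (E.auto_transitive CfsgLib.PF.oddSolvable).2 b hb hb1
    refine ⟨n * m⁻¹, mul_mem hn (inv_mem hm), ?_⟩
    rw [← hma, ← hnb]; group
  nonsolv := fun _ hs h1 => E.nonsolv_all hs h1
  one_class := fun _ _ ha hb =>
    (E.isConj_t CfsgLib.PF.oddSolvable ha).symm.trans (E.isConj_t CfsgLib.PF.oddSolvable hb)
  auto := (E.auto_transitive CfsgLib.PF.oddSolvable).1

end Setup

end CfsgLib.Walter
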