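import Cfsg.Agent.Lib.Walter.CoreAdapter
import Cfsg.Agent.Lib.Walter.Shape
import Cfsg.Agent.Lib.GW.Done
import Cfsg.Agent.Lib.InvChar.SmallSolvable
import Cfsg.Agent.Lib.Transfer.NormalComplement

/-!
Walter, rank three, step D without the order formula: the group-theoretic lemmas.

* an element of `O(M)` of `r`-power order inverted by an involution whose centraliser has index prime to
  `r` is trivial;
* an `r`-group normalised by an involution and by an `r`-group commuting with it has a non-trivial inverted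
  element centralised by the latter;
* fusion in a group with a four-group as Sylow 2-subgroup;
* in its quotient by the core two elements of order `r` commuting with one involution and inverted by
  another generate the same subgroup;
* the characters of a four-group permuted by a rotation.
-/

set_option autoImplicit false
set_option linter.style.haveILetI false

namespace CfsgLib.Walter.CoreFree

open Subgroup CfsgLib.GW

universe u

variable {G : Type u} [Group G] [Finite G]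

theorem relIndex_dvd_index_right (C K : Subgroup G) [K.Normal] : C.relIndex K ∣ C.index := by
  have h1 := relIndex_mul_relIndex (C ⊓ K) C (C ⊔ K) inf_le_left le_sup_left
  have h2 := relIndex_mul_relIndex (C ⊓ K) K (C ⊔ K) inf_le_right le_sup_right
  rw [inf_relIndex_left] at h1
  rw [inf_relIndex_right, relIndex_sup_right] at h2
  have h : C.relIndex (C ⊔ K) = C.relIndex K :=
    mul_left_cancel₀ (fun h : K.relIndex C = 0 => (Nat.card_pos (α := C ⧸ K.subgroupOf C)).ne' h)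
      (h1.trans (h2.symm.trans (mul_comm _ _)))
  rw [← h]
  exact Dvd.intro _ (relIndex_mul_index le_sup_left)

omit [Finite G] in
/-- An element of odd order whose even power fixes a point fixes it. -/
theorem commute_of_pow {n x : G} (hn : Odd (orderOf n)) (k : ℕ) (h : Commute (n ^ 2 ^ k) x) :
    Commute n x := by
  obtain ⟨j, hj⟩ := exists_pow_eq_self_of_coprime
    (show (2 ^ k).Coprime (orderOf n) from (Nat.coprime_two_left.2 hn).pow_left k)
  rw [← hj]
  exact h.pow_left j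

omit [Finite G] in
/-- A real element with an inverting element of odd order is trivial. -/
theorem eq_one_of_odd_inverter {u z : G} (hu : Odd (orderOf u)) (hz : Odd (orderOf z))
    (h : u * z * u⁻¹ = z⁻¹) : z = 1 := by
  have h2 : Commute (u ^ 2 ^ 1) z := by
    have e : u * u * z * (u * u)⁻¹ = z := by
      calc u * u * z * (u * u)⁻¹ = u * (u * z * u⁻¹) * u⁻¹ := by group
        _ = u * z⁻¹ * u⁻¹ := by rw [h]
        _ = (u * z * u⁻¹)⁻¹ := by group
        _ = z := by rw [h, inv_inv]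
    rw [pow_one, pow_two]
    exact mul_inv_eq_iff_eq_mul.1 e
  rw [(commute_of_pow hu 1 h2).eq, mul_inv_cancel_right] at h
  exact CfsgLib.RankOneInvol.eq_one_of_sq_of_odd hz (mul_eq_one_iff_eq_inv.2 h)

/-- (A) An `r`-element of `O(M)` inverted by `t` is trivial. -/
theorem eq_one_of_inverted {t : G} (ht : orderOf t = 2) {r : ℕ} [Fact r.Prime] {R : Subgroup G}
    (hR : IsPGroup r R) (hRH : R ≤ centralizer ({t} : Set G))
    (honly : ∀ x : G, x ∈ centralizer (R : Set G) → orderOf x = 2 → x = t)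
    {M : Subgroup G} (hRM : R ≤ M) (htM : t ∈ M) {z : G} (hz : z ∈ coreIn M)
    (hzr : ∃ k : ℕ, z ^ r ^ k = 1) (hinv : t * z * t = z⁻¹) : z = 1 := by
  have ht2 : t * t = 1 := (Involutions.orderOf_eq_two_iff_mul.1 ht).2
  set t' : M := ⟨t, htM⟩ with ht'
  have hidx : ¬ r ∣ (centralizer ({t'} : Set M)).index := by
    refine CoreTrivial.not_dvd_index (R := R.subgroupOf M) (by rw [← Subgroup.orderOf_coe]; exact ht)
      hR.comap_subtype ?_ ?_
    · intro y hy
      exact mem_centralizer_singleton_iff.2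
        (Subtype.ext (mem_centralizer_singleton_iff.1 (hRH (mem_subgroupOf.1 hy))))
    · intro x hx hx2
      refine Subtype.ext (honly x (mem_centralizer_iff.2 fun y hy => ?_)
        (by rw [Subgroup.orderOf_coe]; exact hx2))
      exact congrArg Subtype.val (mem_centralizer_iff.1 hx ⟨y, hRM hy⟩ (mem_subgroupOf.2 hy))
  obtain ⟨w, hw, rfl⟩ := hz
  set O := Cfsg.oddCore ↥M with hO
  set C := (centralizer ({t'} : Set M)).subgroupOf O with hC
  have hZ : IsPGroup r (zpowers (⟨w, hw⟩ : O)) := by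
    obtain ⟨k, hk⟩ := hzr
    rintro ⟨_, i, rfl⟩
    refine ⟨k, Subtype.ext ?_⟩
    show ((⟨w, hw⟩ : O) ^ i) ^ r ^ k = 1
    have e : (⟨w, hw⟩ : O) ^ r ^ k = 1 := Subtype.ext (Subtype.ext (by simpa using hk))
    rw [← zpow_natCast, ← zpow_mul, mul_comm, zpow_mul, zpow_natCast, e, one_zpow]
  obtain ⟨q, hq⟩ := hZ.nonempty_fixed_point_of_prime_not_dvd_card (O ⧸ C)
    (by rw [← index_eq_card]; exact fun h => hidx (h.trans (relIndex_dvd_index_right _ _)))
  obtain ⟨g, rfl⟩ := QuotientGroup.mk_surjective q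
  have h1 := hq ⟨⟨w, hw⟩, mem_zpowers _⟩
  change (((⟨w, hw⟩ : O) * g : O) : O ⧸ C) = (g : O ⧸ C) at h1
  rw [eq_comm, QuotientGroup.eq, hC, mem_subgroupOf, mem_centralizer_singleton_iff] at h1
  have h1' : ((g : M) : G)⁻¹ * ((w : G) * (g : M)) * t = t * (((g : M) : G)⁻¹ * ((w : G) * (g : M))) := by
    simpa using congrArg (fun x : M => (x : G)) h1
  simp only [coe_subtype] at hinv ⊢
  have hodd : ∀ x : M, x ∈ O → Odd (orderOf (x : G)) := fun x hx =>
    CfsgLib.RankOneInvol.odd_orderOf_of_mem (odd_card_coreIn M) ⟨x, hx, rfl⟩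
  have hu : (g : M) * (t' * (g : M)⁻¹ * t'⁻¹) ∈ O :=
    mul_mem g.2 ((inferInstance : (Cfsg.oddCore ↥M).Normal).conj_mem _ (inv_mem g.2) _)
  refine eq_one_of_odd_inverter (hodd _ hu) (hodd _ hw) ?_
  have hti : t⁻¹ = t := inv_eq_of_mul_eq_one_right ht2
  simp only [Subgroup.coe_mul, InvMemClass.coe_inv, ht', hti]
  have hc : ((g : M) : G) * t * ((g : M) : G)⁻¹ * (w : G) =
      (w : G) * (((g : M) : G) * t * ((g : M) : G)⁻¹) := by
    calc ((g : M) : G) * t * ((g : M) : G)⁻¹ * (w : G)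
        = (g : M) * (t * (((g : M) : G)⁻¹ * ((w : G) * (g : M)))) * ((g : M) : G)⁻¹ := by group
      _ = _ := by rw [← h1']; group
  generalize ((g : M) : G) = a at hc ⊢
  calc a * (t * a⁻¹ * t) * (w : G) * (a * (t * a⁻¹ * t))⁻¹
      = a * t * a⁻¹ * (t * (w : G) * t⁻¹) * (a * t⁻¹ * a⁻¹) := by group
    _ = a * t * a⁻¹ * (w : G)⁻¹ * (a * t⁻¹ * a⁻¹) := by rw [hti, hinv]
    _ = (a * t * a⁻¹ * (w : G) * (a * t * a⁻¹)⁻¹)⁻¹ := by group
    _ = (w : G)⁻¹ := by rw [hc, mul_inv_cancel_right]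

/-- An `r`-group `X` commuting with an involution `t`, both normalising the `r`-group `P`, fixes a
non-trivial element of `P` inverted by `t`. -/
theorem exists_inverted_fixed {r : ℕ} [Fact r.Prime] {P X : Subgroup G} (hP : IsPGroup r P)
    (hX : IsPGroup r X) {t : G} (ht : t * t = 1) (htP : ∀ g ∈ P, t * g * t ∈ P)
    (hXP : ∀ x ∈ X, ∀ g ∈ P, x * g * x⁻¹ ∈ P) (hXt : ∀ x ∈ X, x * t = t * x)
    (hnc : ¬ P ≤ centralizer ({t} : Set G)) :
    ∃ z ∈ P, z ≠ 1 ∧ t * z * t = z⁻¹ ∧ ∀ x ∈ X, x * z = z * x := by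
  have hti : t⁻¹ = t := inv_eq_of_mul_eq_one_right ht
  let J := {j : G // ∃ g ∈ P, j = g⁻¹ * (t * g * t)}
  have hJ1 : ∃ g ∈ P, (1 : G) = g⁻¹ * (t * g * t) := ⟨1, one_mem _, by simp [ht]⟩
  set C := (centralizer ({t} : Set G)).subgroupOf P with hC
  -- the cosets of the centraliser
  let f : P → J := fun g => ⟨(g : G)⁻¹ * (t * (g : G) * t), g, g.2, rfl⟩
  have hf : ∀ a b : P, f a = f b ↔ (a * b⁻¹) ∈ C := by
    intro a b
    rw [hC, mem_subgroupOf, mem_centralizer_singleton_iff, Subgroup.coe_mul, InvMemClass.coe_inv]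
    constructor
    · intro h
      have h' : (a : G)⁻¹ * (t * (a : G) * t) = (b : G)⁻¹ * (t * (b : G) * t) := congrArg Subtype.val h
      calc (a : G) * (b : G)⁻¹ * t = (a : G) * ((b : G)⁻¹ * (t * (b : G) * t)) * t * (b : G)⁻¹ := by
            have htt : ∀ y : G, t * (t * y) = y := fun y => by rw [← mul_assoc, ht, one_mul]
            simp [mul_assoc, htt]
        _ = (a : G) * ((a : G)⁻¹ * (t * (a : G) * t)) * t * (b : G)⁻¹ := by rw [h']
        _ = t * ((a : G) * (b : G)⁻¹) := by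
            have htt : ∀ y : G, t * (t * y) = y := fun y => by rw [← mul_assoc, ht, one_mul]
            simp [mul_assoc, htt]
    · intro h
      refine Subtype.ext ?_
      show (a : G)⁻¹ * (t * (a : G) * t) = (b : G)⁻¹ * (t * (b : G) * t)
      calc (a : G)⁻¹ * (t * (a : G) * t) = (a : G)⁻¹ * (t * ((a : G) * (b : G)⁻¹)) * (b : G) * t := by group
        _ = (a : G)⁻¹ * ((a : G) * (b : G)⁻¹ * t) * (b : G) * t := by rw [h]
        _ = (b : G)⁻¹ * (t * (b : G) * t) := by group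
  have hcard : Nat.card J = C.index := by
    rw [index_eq_card, ← Nat.card_congr (QuotientGroup.quotientRightRelEquivQuotientLeftRel C)]
    refine (Nat.card_eq_of_bijective
      (Quotient.lift f fun a b hab => ((hf b a).2 (QuotientGroup.rightRel_apply.1 hab)).symm) ⟨?_, ?_⟩).symm
    · rintro ⟨a⟩ ⟨b⟩ h
      exact Quotient.sound (QuotientGroup.rightRel_apply.2 ((hf b a).1 h.symm))
    · rintro ⟨_, g, hg, rfl⟩
      exact ⟨Quotient.mk _ ⟨g, hg⟩, rfl⟩
  have hdvd : r ∣ Nat.card J := by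
    rw [hcard]
    obtain ⟨k, hk⟩ := hP.index C
    rcases Nat.eq_zero_or_pos k with rfl | hk0
    · rw [pow_zero, index_eq_one, hC, subgroupOf_eq_top] at hk
      exact absurd hk hnc
    · exact hk ▸ dvd_pow_self r hk0.ne'
  letI : MulAction X J :=
    { smul := fun x j => ⟨(x : G) * j.1 * (x : G)⁻¹, by
        obtain ⟨g, hg, e⟩ := j.2
        refine ⟨(x : G) * g * (x : G)⁻¹, hXP x x.2 g hg, ?_⟩
        have hx : Commute (x : G) t := hXt x x.2
        have hx' : (x : G)⁻¹ * t = t * (x : G)⁻¹ := hx.inv_left.eq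
        calc (x : G) * j.1 * (x : G)⁻¹ = (x : G) * g⁻¹ * (t * g * (t * (x : G)⁻¹)) := by rw [e]; group
          _ = (x : G) * g⁻¹ * ((x : G)⁻¹ * ((x : G) * t)) * g * ((x : G)⁻¹ * t) := by rw [hx']; group
          _ = _ := by rw [hx.eq]; group⟩
      one_smul := fun j => Subtype.ext (show ((1 : X) : G) * j.1 * ((1 : X) : G)⁻¹ = j.1 by simp)
      mul_smul := fun x y j => Subtype.ext (show ((x * y : X) : G) * j.1 * ((x * y : X) : G)⁻¹ =
        (x : G) * ((y : G) * j.1 * (y : G)⁻¹) * (x : G)⁻¹ by push_cast; group) }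
  have ha : (⟨1, hJ1⟩ : J) ∈ MulAction.fixedPoints X J := fun x =>
    Subtype.ext (show (x : G) * 1 * (x : G)⁻¹ = 1 by group)
  obtain ⟨⟨z, g, hg, hz⟩, hfix, hne⟩ := hX.exists_fixed_point_of_prime_dvd_card_of_fixed_point J hdvd ha
  refine ⟨z, hz ▸ mul_mem (inv_mem hg) (htP g hg), fun e => hne (Subtype.ext e.symm), ?_, fun x hx => ?_⟩
  · calc t * z * t = t * g⁻¹ * t * g * (t * t) := by rw [hz]; group
      _ = z⁻¹ := by rw [ht, hz, mul_inv_rev, mul_inv_rev, mul_inv_rev, inv_inv, hti]; group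
  · have e : x * z * x⁻¹ = z := congrArg Subtype.val (hfix ⟨x, hx⟩)
    exact mul_inv_eq_iff_eq_mul.1 e

/-- In a group with a four-group `{1, t, b, tb}` as Sylow 2-subgroup, `t` is conjugate to `b` or the
elements of odd order form the core. -/
theorem fused_or_complement {M : Type u} [Group M] [Finite M] (T : Sylow 2 M) {t b : M}
    (htT : t ∈ (T : Subgroup M)) (hbT : b ∈ (T : Subgroup M))
    (hT : ∀ x ∈ (T : Subgroup M), x = 1 ∨ x = t ∨ x = b ∨ x = t * b)
    (hsq : ∀ x ∈ (T : Subgroup M), x * x = 1) (ht : t ≠ 1) (hb : b ≠ 1) (hne : t ≠ b) :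
    (∃ m : M, m * t * m⁻¹ = b) ∨ ∀ z : M, Odd (orderOf z) → z ∈ Cfsg.oddCore M := by
  haveI : Fact (Nat.Prime 2) := ⟨Nat.prime_two⟩
  by_cases hNC : normalizer ((T : Subgroup M) : Set M) ≤ centralizer ((T : Subgroup M) : Set M)
  · refine Or.inr fun z hz => ?_
    obtain ⟨Q, N, hN, hc⟩ := CfsgLib.Transfer.hasNormalPComplement_of_normalizer_le T hNC
    haveI := hN
    have hodd : ¬ 2 ∣ Nat.card N := by
      rw [← hc.index_eq_card]
      exact Q.not_dvd_index
    refine CfsgLib.PCore.le_pPrimeCore_of_not_dvd hN hodd ?_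
    rw [← QuotientGroup.eq_one_iff, ← orderOf_eq_one_iff]
    obtain ⟨k, hk⟩ := IsPGroup.iff_card.1 Q.2
    have hd : orderOf ((z : M ⧸ N)) ∣ 2 ^ k := by
      rw [← hk, ← hc.symm.index_eq_card]
      exact orderOf_dvd_natCard _
    exact Nat.eq_one_of_dvd_coprimes ((Nat.coprime_two_right.2 hz).pow_right k)
      (orderOf_map_dvd (QuotientGroup.mk' N) z) hd
  refine Or.inl ?_
  have hab : ∀ x ∈ (T : Subgroup M), ∀ y ∈ (T : Subgroup M), x * y = y * x := fun x hx y hy => by
    have hinv : ∀ a ∈ (T : Subgroup M), a⁻¹ = a := fun a ha => inv_eq_of_mul_eq_one_right (hsq a ha)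
    calc x * y = (x * y)⁻¹ := (hinv _ (mul_mem hx hy)).symm
      _ = y * x := by rw [mul_inv_rev, hinv x hx, hinv y hy]
  obtain ⟨n, hn, hnC⟩ := SetLike.not_le_iff_exists.1 hNC
  obtain ⟨a, m, hm, hord⟩ := Nat.exists_eq_two_pow_mul_odd (orderOf_pos n).ne'
  set w := n ^ 2 ^ a with hw
  have hwN : w ∈ normalizer ((T : Subgroup M) : Set M) := pow_mem hn _
  have hwo : Odd (orderOf w) := hm.of_dvd_nat (orderOf_dvd_of_pow_eq_one (by
    rw [hw, ← pow_mul, ← hord, pow_orderOf_eq_one]))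
  have hwC : w ∉ centralizer ((T : Subgroup M) : Set M) := by
    intro h
    have hmT : n ^ m ∈ (T : Subgroup M) := by
      have hp : IsPGroup 2 (zpowers (n ^ m)) := by
        obtain ⟨j, -, hj⟩ := (Nat.dvd_prime_pow Nat.prime_two).1
          (orderOf_dvd_of_pow_eq_one (show (n ^ m) ^ 2 ^ a = 1 by
            rw [← pow_mul, mul_comm, ← hord, pow_orderOf_eq_one]))
        exact IsPGroup.of_card (n := j) (by rw [Nat.card_zpowers, hj])
      have hle : zpowers (n ^ m) ≤ normalizer ((T : Subgroup M) : Set M) := zpowers_le.2 (pow_mem hn _)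
      have h2 := T.is_maximal' (hp.to_sup_of_normal_right' T.2 hle) le_sup_right
      exact h2 ▸ mem_sup_left (mem_zpowers _)
    have hmC : n ^ m ∈ centralizer ((T : Subgroup M) : Set M) :=
      mem_centralizer_iff.2 fun y hy => hab y hy _ hmT
    obtain ⟨i, j, hij⟩ : ∃ i j : ℤ, i * (2 ^ a : ℕ) + j * (m : ℕ) = 1 :=
      Nat.isCoprime_iff_coprime.2 ((Nat.coprime_two_left.2 hm).pow_left a)
    apply hnC
    rw [← zpow_one n, ← hij, zpow_add, mul_comm i, mul_comm j, zpow_mul, zpow_mul, zpow_natCast,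
      zpow_natCast]
    exact mul_mem (zpow_mem h i) (zpow_mem hmC j)
  have hmem : ∀ x ∈ (T : Subgroup M), w * x * w⁻¹ ∈ (T : Subgroup M) := fun x hx =>
    (mem_normalizer_iff.1 hwN x).1 hx
  have hbt : b * t ≠ t := fun e => hb (mul_eq_right.1 e)
  have hwx : ∀ x, w * x * w⁻¹ = 1 → x = 1 := fun x h => conj_eq_one_iff.1 h
  have htb1 : t * b ≠ 1 := fun e => hne ((mul_eq_one_iff_eq_inv.1 e).trans
    (inv_eq_of_mul_eq_one_right (hsq b hbT)))
  -- `w` cannot fix a point
  have key : ∀ x ∈ (T : Subgroup M), ∀ y ∈ (T : Subgroup M), w * x * w⁻¹ = x → w * (w * y * w⁻¹) * w⁻¹ = y →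
      Commute w x ∧ Commute w y := by
    intro x _ y _ hx hy
    refine ⟨mul_inv_eq_iff_eq_mul.1 hx, commute_of_pow hwo 1 ?_⟩
    rw [pow_one, pow_two]
    refine mul_inv_eq_iff_eq_mul.1 (?_ : w * w * y * (w * w)⁻¹ = y)
    calc w * w * y * (w * w)⁻¹ = w * (w * y * w⁻¹) * w⁻¹ := by group
      _ = y := hy
  have hcent : Commute w t → Commute w b → False := fun h1 h2 => hwC (mem_centralizer_iff.2 fun x hx => by
    rcases hT x hx with rfl | rfl | rfl | rfl
    exacts [(Commute.one_left w).eq, h1.symm.eq, h2.symm.eq, (h1.mul_right h2).symm.eq])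
  rcases hT _ (hmem t htT) with h | h | h | h
  · exact absurd (hwx t h) ht
  · -- `w` fixes `t`
    rcases hT _ (hmem b hbT) with h' | h' | h' | h'
    · exact absurd (hwx b h') hb
    · exact absurd ((MulAut.conj w).injective (h.trans h'.symm)) hne
    · exact (hcent (mul_inv_eq_iff_eq_mul.1 h) (mul_inv_eq_iff_eq_mul.1 h')).elim
    · refine (hcent (mul_inv_eq_iff_eq_mul.1 h) (key t htT b hbT h ?_).2).elim
      rw [h', show w * (t * b) * w⁻¹ = (w * t * w⁻¹) * (w * b * w⁻¹) by group, h, h', ← mul_assoc,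
        hsq t htT, one_mul]
  · exact ⟨w, h⟩
  · rcases hT _ (hmem b hbT) with h' | h' | h' | h'
    · exact absurd (hwx b h') hb
    · exact ⟨w⁻¹, by rw [inv_inv]; nth_rw 1 [← h']; group⟩
    · obtain ⟨h1, h2⟩ := key b hbT t htT h' (by
        rw [h, show w * (t * b) * w⁻¹ = (w * t * w⁻¹) * (w * b * w⁻¹) by group, h, h', mul_assoc,
          hsq b hbT, mul_one])
      exact (hcent h2 h1).elim
    · exact absurd ((MulAut.conj w).injective (h.trans h'.symm)) hne

omit [Finite G] in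
theorem altFour_centralizer :
    ∀ x v : alternatingGroup (Fin 4), v * v = 1 → v ≠ 1 → x * v = v * x → x * x = 1 := by
  have key : ∀ x v : Equiv.Perm (Fin 4), Equiv.Perm.sign x = 1 → Equiv.Perm.sign v = 1 →
      v * v = 1 → v ≠ 1 → x * v = v * x → x * x = 1 := by decide
  intro x v h1 h2 h3
  exact Subtype.ext (key x v (Equiv.Perm.mem_alternatingGroup.1 x.2) (Equiv.Perm.mem_alternatingGroup.1 v.2)
    (congrArg Subtype.val h1) (fun e => h2 (Subtype.ext e)) (congrArg Subtype.val h3))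

/-- In a core-free group of Gorenstein–Walter shape with four-groups as Sylow 2-subgroups, elements of
prime order commuting with one involution and inverted by another generate the same subgroup. -/
theorem mem_zpowers_of_top {Y : Type u} [Group Y] [Finite Y] (hY : CfsgLib.GW.Top Y)
    (hsyl : ∀ T : Sylow 2 Y, Nat.card (T : Subgroup Y) = 4 ∧
      Nonempty ((T : Subgroup Y) ≃* DihedralGroup 2))
    {r : ℕ} (hr : r.Prime) (hro : Odd r) {t b a a' : Y} (ht : orderOf t = 2) (hb : b * b = 1)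
    (hat : a * t = t * a) (ha't : a' * t = t * a') (hab : b * a * b = a⁻¹) (ha'b : b * a' * b = a'⁻¹)
    (ha : orderOf a = r) (ha' : orderOf a' = r) : a' ∈ zpowers a := by
  classical
  haveI : Fact (Nat.Prime 2) := ⟨Nat.prime_two⟩
  obtain ⟨T₀⟩ : Nonempty (Sylow 2 Y) := inferInstance
  have h8 : ¬ 8 ∣ Nat.card Y := by
    intro h
    rw [← (T₀ : Subgroup Y).card_mul_index, (hsyl T₀).1] at h
    exact T₀.not_dvd_index (by omega)
  have hbi : b⁻¹ = b := inv_eq_of_mul_eq_one_right hb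
  rcases hY with hp | ⟨⟨e⟩⟩ | ⟨⟨e⟩⟩ | ⟨L, hLn, hLc, hL⟩
  · exfalso
    obtain ⟨k, hk⟩ := hp a
    have hd := orderOf_dvd_of_pow_eq_one hk
    rw [ha] at hd
    exact absurd ((Nat.prime_dvd_prime_iff_eq hr Nat.prime_two).1 (hr.dvd_of_dvd_pow hd))
      (fun e => by rw [e] at hro; exact absurd hro (by decide))
  · exfalso
    have key : ∀ x v : alternatingGroup (Fin 4), v * v = 1 → v ≠ 1 → x * v = v * x → x * x = 1 :=
      altFour_centralizer
    have ht' := Involutions.orderOf_eq_two_iff_mul.1 ht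
    have h1 : e (a * a) = 1 := by
      rw [map_mul]
      exact key (e a) (e t) (by rw [← map_mul, ht'.2, map_one])
        (fun h => ht'.1 (e.injective (h.trans (map_one e).symm))) (by rw [← map_mul, ← map_mul, hat])
    have h2 := CfsgLib.RankOneInvol.eq_one_of_sq_of_odd (ha ▸ hro) (e.injective (h1.trans (map_one e).symm))
    rw [h2, orderOf_one] at ha
    exact hr.one_lt.ne ha
  · exfalso
    refine h8 ?_
    rw [Nat.card_congr e.toEquiv, Nat.card_perm, Nat.card_fin]
    decide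
  haveI := hLn
  have h8L : ¬ 8 ∣ Nat.card L := fun h => h8 (h.trans L.card_subgroup_dvd_card)
  rcases hL with ⟨F, iF, iFt, hodd, h3, hiso⟩ | ⟨⟨e⟩⟩
  swap
  · exfalso
    refine h8L ?_
    rw [Nat.card_congr e.toEquiv, nat_card_alternatingGroup, Nat.card_fin]
    decide
  have hpsl : Field.Psl L F := ⟨hLn, hLc, hiso, hodd, h3, fun S => ⟨2, (hsyl S).2⟩⟩
  have hidx : Odd L.index := by
    obtain ⟨e⟩ := hiso
    have h4 : 4 ∣ Nat.card L := by
      rw [Nat.card_congr e.toEquiv]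
      exact four_dvd_card_psl hodd
    rw [← Nat.not_even_iff_odd, even_iff_two_dvd]
    intro h
    refine h8 ?_
    rw [← L.card_mul_index]
    exact (show 8 = 4 * 2 by norm_num) ▸ Nat.mul_dvd_mul h4 h
  have hbL : b ∈ L := by
    rw [← QuotientGroup.eq_one_iff, ← orderOf_eq_one_iff]
    exact Nat.eq_one_of_dvd_coprimes (Nat.coprime_two_left.2 hidx)
      (orderOf_dvd_of_pow_eq_one (by rw [pow_two, ← QuotientGroup.mk_mul, hb, QuotientGroup.mk_one]))
      (orderOf_dvd_natCard _)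
  have hmem : ∀ x : Y, orderOf x = r → x * t = t * x → b * x * b = x⁻¹ →
      x ∈ CfsgLib.GW.Field.torus L t := by
    intro x hx hxt hxb
    refine (hpsl.mem_torus ht).2 ⟨?_, hxt, hx ▸ hro⟩
    have h2 : x * x ∈ L := by
      have h1 : x * b * x⁻¹ * b ∈ L := mul_mem (hLn.conj_mem b hbL x) hbL
      rwa [show x * b * x⁻¹ * b = x * (b * x * b)⁻¹ * (b * b) by
        rw [hb, mul_one, mul_inv_rev, mul_inv_rev, hbi]; group, hxb, inv_inv, hb, mul_one] at h1
    obtain ⟨k, hk⟩ := hro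
    have e : x ^ (2 * (k + 1)) = x := by
      rw [show 2 * (k + 1) = orderOf x + 1 by omega, pow_succ, pow_orderOf_eq_one, one_mul]
    rw [← e, pow_mul, pow_two]
    exact pow_mem h2 _
  set U := CfsgLib.GW.Field.torus L t with hU
  haveI := hpsl.isCyclic_torus ht
  haveI := Fintype.ofFinite U
  set A : U := ⟨a, hmem a ha hat hab⟩ with hA
  set A' : U := ⟨a', hmem a' ha' ha't ha'b⟩ with hA'
  suffices h : A' ∈ zpowers A by
    obtain ⟨i, hi⟩ := h
    exact ⟨i, congrArg Subtype.val hi⟩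
  by_contra hn
  have hAo : orderOf A = r := by rw [← Subgroup.orderOf_coe]; exact ha
  have hA'o : orderOf A' = r := by rw [← Subgroup.orderOf_coe]; exact ha'
  have hsub : insert A' ((Finset.range r).image fun i => A ^ i) ⊆
      Finset.univ.filter fun x : U => x ^ r = 1 := by
    intro x hx
    rcases Finset.mem_insert.1 hx with rfl | hx
    · simp [← hA'o, pow_orderOf_eq_one]
    · obtain ⟨i, -, rfl⟩ := Finset.mem_image.1 hx
      rw [Finset.mem_filter]
      refine ⟨Finset.mem_univ _, ?_⟩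
      rw [← pow_mul, mul_comm, pow_mul, ← hAo, pow_orderOf_eq_one, one_pow]
  have h1 := (Finset.card_le_card hsub).trans (IsCyclic.card_pow_eq_one_le hr.pos)
  rw [Finset.card_insert_of_notMem, Finset.card_image_of_injOn, Finset.card_range] at h1
  · omega
  · intro i hi j hj h
    exact pow_injOn_Iio_orderOf (by simpa [hAo] using hi) (by simpa [hAo] using hj) h
  · intro h
    obtain ⟨i, -, hi⟩ := Finset.mem_image.1 h
    exact hn (hi ▸ pow_mem (mem_zpowers A) i)

omit [Finite G] in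
/-- Conjugation of an involution on an element. -/
theorem conj_inv_mem {s z : G} (hs : s * s = 1) : (s * z * s)⁻¹ = s * z⁻¹ * s := by
  rw [mul_inv_rev, mul_inv_rev, inv_eq_of_mul_eq_one_right hs, mul_assoc]

/-- The three characters of a four-group of `S` on an abelian group of odd order, permuted by a rotation. -/
theorem exists_signs {S Z : Subgroup G} (hS : Nat.card S = 8) (hel : ∀ s ∈ S, s * s = 1)
    (hab : ∀ x ∈ S, ∀ y ∈ S, x * y = y * x)
    (hZab : ∀ x ∈ Z, ∀ y ∈ Z, x * y = y * x) {t n : G} (htS : t ∈ S) (ht1 : t ≠ 1)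
    (hn : n ∈ normalizer (S : Set G)) (hnt : n * t = t * n) (hodd : Odd (orderOf n))
    (hfix : ∀ s ∈ S, n * s = s * n → s ∈ zpowers t)
    (hSZ : ∀ s ∈ S, ∀ z ∈ Z, s * z * s ∈ Z) (hnZ : ∀ z ∈ Z, n * z * n⁻¹ ∈ Z)
    (htZ : ∀ z ∈ Z, t * z = z * t) (hnc : ∃ s ∈ S, ∃ z ∈ Z, s * z ≠ z * s) :
    ∃ b ∈ S, ∃ c ∈ S,
      (∃ u ∈ Z, u ≠ 1 ∧ b * u * b = u ∧ c * u * c = u⁻¹) ∧
      (∃ u ∈ Z, u ≠ 1 ∧ b * u * b = u⁻¹ ∧ c * u * c = u) ∧
      ∃ u ∈ Z, u ≠ 1 ∧ b * u * b = u⁻¹ ∧ c * u * c = u⁻¹ := by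
  haveI : Finite S := inferInstance
  obtain ⟨b, hb, z₀, hz₀, hbz⟩ := hnc
  set c := n * b * n⁻¹ with hc
  set d := n * c * n⁻¹ with hd
  have hnS : ∀ x ∈ S, n * x * n⁻¹ ∈ S := fun x hx => (mem_normalizer_iff.1 hn x).1 hx
  have hcS : c ∈ S := hnS b hb
  have hdS : d ∈ S := hnS c hcS
  have ht2 := hel t htS
  have hnt' : n * t * n⁻¹ = t := by rw [hnt, mul_inv_cancel_right]
  have h4 : ∀ v ∈ zpowers t, v = 1 ∨ v = t := by
    rintro _ ⟨i, rfl⟩
    rcases Int.even_or_odd i with ⟨j, rfl⟩ | ⟨j, rfl⟩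
    · left; show t ^ (j + j) = 1; rw [← two_mul, zpow_mul, zpow_two, ht2, one_zpow]
    · right; show t ^ (2 * j + 1) = t
      rw [zpow_add, zpow_mul, zpow_two, ht2, one_zpow, one_mul, zpow_one]
  have hb1 : b ∉ zpowers t := fun h => by
    rcases h4 b h with rfl | rfl
    · simp at hbz
    · exact hbz (htZ z₀ hz₀)
  -- an element fixed modulo `t` by a power `n ^ 2 ^ k` is in `⟨t⟩`
  have hmod : ∀ (x : G), x ∈ S → ∀ v ∈ zpowers t, ∀ k : ℕ, n ^ 2 ^ k * x * (n ^ 2 ^ k)⁻¹ = x * v →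
      x ∈ zpowers t := by
    intro x hx v hv k h
    refine hfix x hx (commute_of_pow hodd (k + 1) (mul_inv_eq_iff_eq_mul.1 ?_)).eq
    have hv' : n ^ 2 ^ k * v * (n ^ 2 ^ k)⁻¹ = v := by
      obtain ⟨i, rfl⟩ := hv
      rw [(((show Commute n t from hnt).pow_left (2 ^ k)).zpow_right i).eq, mul_inv_cancel_right]
    have hvv : v * v = 1 := by
      rcases h4 v hv with rfl | rfl
      exacts [one_mul 1, ht2]
    rw [pow_succ 2 k, pow_mul, pow_two]
    calc n ^ 2 ^ k * n ^ 2 ^ k * x * (n ^ 2 ^ k * n ^ 2 ^ k)⁻¹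
        = n ^ 2 ^ k * (n ^ 2 ^ k * x * (n ^ 2 ^ k)⁻¹) * (n ^ 2 ^ k)⁻¹ := by group
      _ = n ^ 2 ^ k * (x * v) * (n ^ 2 ^ k)⁻¹ := by rw [h]
      _ = (n ^ 2 ^ k * x * (n ^ 2 ^ k)⁻¹) * (n ^ 2 ^ k * v * (n ^ 2 ^ k)⁻¹) := by group
      _ = x := by rw [hv', h, mul_assoc, hvv, mul_one]
  have hnot : ∀ x, n * x * n⁻¹ ∈ zpowers t → x ∈ zpowers t := fun x h => by
    obtain ⟨i, hi⟩ := h
    refine ⟨i, (MulAut.conj n).injective ?_⟩
    show n * t ^ i * n⁻¹ = n * x * n⁻¹
    rw [((show Commute n t from hnt).zpow_right i).eq, mul_inv_cancel_right]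
    exact hi
  have hc1 : c ∉ zpowers t := fun h => hb1 (hnot b h)
  have hd1 : d ∉ zpowers t := fun h => hc1 (hnot c h)
  have hquot : ∀ x ∈ S, ∀ y : G, x * y ∈ zpowers t → ∃ v ∈ zpowers t, y = x * v := fun x hx y h =>
    ⟨x * y, h, by rw [← mul_assoc, hel x hx, one_mul]⟩
  have hbc : b * c ∉ zpowers t := fun h => by
    obtain ⟨v, hv, e⟩ := hquot b hb c h
    exact hb1 (hmod b hb v hv 0 (by rw [pow_zero, pow_one]; exact e))
  have hcd : c * d ∉ zpowers t := fun h => by
    obtain ⟨v, hv, e⟩ := hquot c hcS d h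
    exact hc1 (hmod c hcS v hv 0 (by rw [pow_zero, pow_one]; exact e))
  have hbd : b * d ∉ zpowers t := fun h => by
    obtain ⟨v, hv, e⟩ := hquot b hb d h
    refine hb1 (hmod b hb v hv 1 (Eq.trans ?_ e))
    rw [hd, hc, pow_one, pow_two]
    group
  -- the eight elements
  let rep : Fin 4 → G := ![1, b, c, d]
  have hrep : ∀ i, rep i ∈ S := by intro i; fin_cases i <;> simp [rep, hb, hcS, hdS]
  let f : Fin 4 × Fin 2 → S := fun p => ⟨rep p.1 * t ^ (p.2 : ℕ), mul_mem (hrep _) (pow_mem htS _)⟩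
  have hsame : ∀ i j, rep i * rep j ∈ zpowers t → i = j := by
    intro i j h
    fin_cases i <;> fin_cases j <;> simp only [rep] at h ⊢ <;> first
      | rfl
      | (simp at h; first
          | exact absurd h hb1 | exact absurd h hc1 | exact absurd h hd1
          | exact absurd h hbc | exact absurd h hbd | exact absurd h hcd
          | (rw [hab c hcS b hb] at h; exact absurd h hbc)
          | (rw [hab d hdS b hb] at h; exact absurd h hbd)
          | (rw [hab d hdS c hcS] at h; exact absurd h hcd))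
  have hfinj : Function.Injective f := by
    rintro ⟨i, p⟩ ⟨j, q⟩ h
    have h' : rep i * t ^ (p : ℕ) = rep j * t ^ (q : ℕ) := congrArg Subtype.val h
    have hij : i = j := hsame i j (by
      have e : rep i * rep j = t ^ (q : ℕ) * (t ^ (p : ℕ))⁻¹ := by
        have e1 : rep j * rep i * t ^ (p : ℕ) = t ^ (q : ℕ) := by
          rw [mul_assoc, h', ← mul_assoc, hel _ (hrep j), one_mul]
        rw [hab _ (hrep i) _ (hrep j), eq_mul_inv_iff_mul_eq, e1]
      rw [e]
      exact mul_mem (pow_mem (mem_zpowers t) _) (inv_mem (pow_mem (mem_zpowers t) _)))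
    subst hij
    have h'' := mul_left_cancel h'
    refine Prod.ext rfl ?_
    fin_cases p <;> fin_cases q <;> first | rfl | (simp at h''; exact absurd h'' (by first
      | exact ht1 | exact ht1.symm))
  have hfs : Function.Surjective f := by
    haveI := Fintype.ofFinite S
    exact ((Fintype.bijective_iff_injective_and_card f).2 ⟨hfinj, by
      rw [← Nat.card_eq_fintype_card (α := S), hS]; simp⟩).2
  obtain ⟨v, hv, hdv⟩ : ∃ v ∈ zpowers t, d = b * c * v := by
    obtain ⟨⟨i, p⟩, hip⟩ := hfs ⟨b * c, mul_mem hb hcS⟩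
    have e : rep i * t ^ (p : ℕ) = b * c := congrArg Subtype.val hip
    have hp : t ^ (p : ℕ) ∈ zpowers t := pow_mem (mem_zpowers t) _
    fin_cases i <;> simp [rep] at e
    · exact absurd (e ▸ hp) hbc
    · exact absurd (e ▸ hp) hc1
    · refine absurd ?_ hb1
      rw [hab b hb c hcS] at e
      exact mul_left_cancel e ▸ hp
    · refine ⟨(t ^ (p : ℕ))⁻¹, inv_mem hp, ?_⟩
      rw [eq_mul_inv_iff_mul_eq, e]
  have hvS : v ∈ S := zpowers_le.2 htS hv
  have hnv : n * v * n⁻¹ = v := by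
    obtain ⟨i, rfl⟩ := hv
    rw [((show Commute n t from hnt).zpow_right i).eq, mul_inv_cancel_right]
  have he : n * d * n⁻¹ = b := by
    calc n * d * n⁻¹ = (n * b * n⁻¹) * (n * c * n⁻¹) * (n * v * n⁻¹) := by rw [hdv]; group
      _ = c * d * v := by rw [hnv, hd, hc]
      _ = (c * b) * c * (v * v) := by rw [hdv]; group
      _ = b := by rw [hel v hvS, hab c hcS b hb, mul_assoc b c c, hel c hcS, mul_one, mul_one]
  have hvZ : ∀ z ∈ Z, v * z * v = z := fun z hz => by
    rcases h4 v hv with rfl | rfl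
    · simp
    · rw [htZ z hz, mul_assoc, ht2, mul_one]
  -- how `d` acts
  have hdact : ∀ z ∈ Z, d * z * d = c * (b * z * b) * c := fun z hz => by
    have e1 : d = c * b * v := by rw [hdv, hab b hb c hcS]
    have e2 : d = v * (b * c) := by rw [hdv, hab _ (mul_mem hb hcS) v hvS]
    calc d * z * d = (c * b * v) * z * (v * (b * c)) := by
          conv_lhs => arg 1; arg 1; rw [e1]
          conv_lhs => arg 2; rw [e2]
      _ = c * (b * (v * z * v) * b) * c := by group
      _ = c * (b * z * b) * c := by rw [hvZ z hz]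
  have hmul : ∀ s ∈ S, ∀ x y : G, s * (x * y) * s = (s * x * s) * (s * y * s) := fun s hs x y => by
    calc s * (x * y) * s = s * x * (s * s) * y * s := by rw [hel s hs]; group
      _ = _ := by group
  -- transport along `n`
  have hrot : ∀ (s u w : G), s * u * s = w → (n * s * n⁻¹) * (n * u * n⁻¹) * (n * s * n⁻¹) = n * w * n⁻¹ := by
    intro s u w h
    rw [← h]; group
  have hninv : ∀ u : G, n * u⁻¹ * n⁻¹ = (n * u * n⁻¹)⁻¹ := fun u => by group
  have hne' : ∀ u : G, u ≠ 1 → n * u * n⁻¹ ≠ 1 := fun u h e => h (conj_eq_one_iff.1 e)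
  -- from `(b -, c +)` to `(b -, c -)`, from there to `(b +, c -)`, from there back
  have s23 : ∀ u ∈ Z, b * u * b = u⁻¹ → c * u * c = u →
      b * (n * u * n⁻¹) * b = (n * u * n⁻¹)⁻¹ ∧ c * (n * u * n⁻¹) * c = (n * u * n⁻¹)⁻¹ := by
    intro u hu h1 h2
    refine ⟨?_, by rw [← hninv]; exact hrot b u _ h1⟩
    rw [← hninv, ← he]
    exact hrot d u _ (by rw [hdact u hu, h1, ← conj_inv_mem (hel c hcS), h2])
  have s31 : ∀ u ∈ Z, b * u * b = u⁻¹ → c * u * c = u⁻¹ →
      b * (n * u * n⁻¹) * b = n * u * n⁻¹ ∧ c * (n * u * n⁻¹) * c = (n * u * n⁻¹)⁻¹ := by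
    intro u hu h1 h2
    refine ⟨?_, by rw [← hninv]; exact hrot b u _ h1⟩
    rw [← he]
    exact hrot d u _ (by rw [hdact u hu, h1, ← conj_inv_mem (hel c hcS), h2, inv_inv])
  have s12 : ∀ u ∈ Z, b * u * b = u → c * u * c = u⁻¹ →
      b * (n * u * n⁻¹) * b = (n * u * n⁻¹)⁻¹ ∧ c * (n * u * n⁻¹) * c = n * u * n⁻¹ := by
    intro u hu h1 h2
    refine ⟨?_, hrot b u _ h1⟩
    rw [← hninv, ← he]
    exact hrot d u _ (by rw [hdact u hu, h1, h2])
  -- an element inverted by `b`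
  set w := z₀⁻¹ * (b * z₀ * b) with hw
  have hwZ : w ∈ Z := mul_mem (inv_mem hz₀) (hSZ b hb z₀ hz₀)
  have hw1 : w ≠ 1 := fun h => hbz (by
    rw [hw, inv_mul_eq_one] at h
    calc b * z₀ = b * (b * z₀ * b) := by rw [← h]
      _ = z₀ * b := by rw [← mul_assoc, ← mul_assoc, hel b hb, one_mul])
  have hwb : b * w * b = w⁻¹ := by
    have e : b * (b * z₀ * b) * b = z₀ := by
      calc b * (b * z₀ * b) * b = (b * b) * z₀ * (b * b) := by group
        _ = z₀ := by rw [hel b hb]; group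
    calc b * w * b = (b * z₀⁻¹ * b) * (b * (b * z₀ * b) * b) := hmul b hb _ _
      _ = (b * z₀ * b)⁻¹ * z₀ := by rw [e, conj_inv_mem (hel b hb)]
      _ = w⁻¹ := by rw [hw]; group
  set w' := c * w * c with hw'
  have hw'Z : w' ∈ Z := hSZ c hcS w hwZ
  have hw'b : b * w' * b = w'⁻¹ := by
    calc b * (c * w * c) * b = (b * c) * w * (c * b) := by group
      _ = (c * b) * w * (b * c) := by rw [hab b hb c hcS]
      _ = c * (b * w * b) * c := by group
      _ = w'⁻¹ := by rw [hwb, hw', conj_inv_mem (hel c hcS)]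
  have hw'c : c * w' * c = w := by
    calc c * (c * w * c) * c = (c * c) * w * (c * c) := by group
      _ = w := by rw [hel c hcS]; group
  have hcm : ∀ {x y : G}, x ∈ Z → y ∈ Z → x * y = y * x := fun hx hy => hZab _ hx _ hy
  by_cases hu : w * w' = 1
  · -- `(b -, c -)`
    have h3 : c * w * c = w⁻¹ := by rw [← hw']; exact eq_inv_of_mul_eq_one_right hu
    obtain ⟨h1b, h1c⟩ := s31 w hwZ hwb h3
    obtain ⟨h2b, h2c⟩ := s12 _ (hnZ w hwZ) h1b h1c
    exact ⟨b, hb, c, hcS, ⟨_, hnZ w hwZ, hne' w hw1, h1b, h1c⟩,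
      ⟨_, hnZ _ (hnZ w hwZ), hne' _ (hne' w hw1), h2b, h2c⟩, w, hwZ, hw1, hwb, h3⟩
  · -- `(b -, c +)`
    have hub : b * (w * w') * b = (w * w')⁻¹ := by
      rw [hmul b hb, hwb, hw'b]
      exact (hcm (inv_mem hwZ) (inv_mem hw'Z)).trans (mul_inv_rev w w').symm
    have huc : c * (w * w') * c = w * w' := by
      rw [hmul c hcS, hw'c, ← hw']
      exact hcm hw'Z hwZ
    obtain ⟨h3b, h3c⟩ := s23 _ (mul_mem hwZ hw'Z) hub huc
    obtain ⟨h1b, h1c⟩ := s31 _ (hnZ _ (mul_mem hwZ hw'Z)) h3b h3c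
    exact ⟨b, hb, c, hcS, ⟨_, hnZ _ (hnZ _ (mul_mem hwZ hw'Z)), hne' _ (hne' _ hu), h1b, h1c⟩,
      ⟨_, mul_mem hwZ hw'Z, hu, hub, huc⟩, _, hnZ _ (mul_mem hwZ hw'Z), hne' _ hu, h3b, h3c⟩

end CfsgLib.Walter.CoreFree
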