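import Cfsg.Agent.Lib.Walter.CoreGoal
import Cfsg.Agent.Lib.Walter.CoreFreeBase

/-!
Walter, rank three, step D without the order formula: the odd core of a maximal involution centraliser is
trivial.
-/

set_option autoImplicit false
set_option linter.style.haveILetI false

namespace CfsgLib.Walter

open Subgroup CfsgLib.GW

universe u

variable {G : Type u} [Group G] [Finite G]

namespace CoreFree

omit [Finite G] in
theorem conj_pow_of_sq {s u : G} (hs : s * s = 1) (k : ℕ) : s * u ^ k * s = (s * u * s) ^ k := by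
  have h := map_pow (MulAut.conj s) u k
  simpa [MulAut.conj_apply, inv_eq_of_mul_eq_one_right hs] using h

omit [Finite G] in
theorem exists_pow_orderOf {r : ℕ} [hr : Fact r.Prime] {R : Subgroup G} (hR : IsPGroup r R) {u : G}
    (hu : u ∈ R) (hu1 : u ≠ 1) : ∃ k : ℕ, orderOf (u ^ k) = r := by
  obtain ⟨j, hj⟩ := IsPGroup.iff_orderOf.1 hR ⟨u, hu⟩
  rw [Subgroup.orderOf_mk] at hj
  rcases j with _ | j
  · exact absurd (orderOf_eq_one_iff.1 (by simpa using hj)) hu1
  refine ⟨r ^ j, ?_⟩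
  have hdvd : r ^ j ∣ orderOf u := hj ▸ pow_dvd_pow r (Nat.le_succ j)
  rw [orderOf_pow_of_dvd (pow_pos hr.out.pos j).ne' hdvd, hj, pow_succ,
    Nat.mul_div_cancel_left _ (pow_pos hr.out.pos j)]

/-- Step 3 without the order formula, one prime. -/
theorem commute_coreIn (E : Setup G) (hloc : Local E) {t : G} (htS : t ∈ (E.S : Subgroup G)) (ht1 : t ≠ 1)
    (hmax : IsCoatom (centralizer ({t} : Set G))) {r : ℕ} (hr : r.Prime) :
    ∀ y ∈ Cfsg.Agent.S1312.coreIn r (coreIn (centralizer ({t} : Set G))), ∀ s ∈ (E.S : Subgroup G),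
      s * y = y * s := by
  classical
  haveI : Fact (Nat.Prime 2) := ⟨Nat.prime_two⟩
  haveI := Fact.mk hr
  haveI := E.simple
  set S : Subgroup G := (E.S : Subgroup G) with hS
  have ht : orderOf t = 2 := E.orderOf_eq_two htS ht1
  have ht2 : t * t = 1 := E.sq t htS
  set H := centralizer ({t} : Set G) with hH
  set W := coreIn H with hW
  have hWn : ∀ h ∈ H, ∀ x ∈ W, h * x * h⁻¹ ∈ W := fun h hh x hx => conj_mem_coreIn hh hx
  have hSH : S ≤ H := E.sylow_le_centralizer htS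
  set R := Cfsg.Agent.S1312.coreIn r W with hRdef
  have hRW : R ≤ W := Cfsg.Agent.S1312.coreIn_le r W
  have hRH : R ≤ H := hRW.trans (coreIn_le H)
  have hRp : IsPGroup r R := Cfsg.Tech46.Bender.coreIn_isPGroup hr W
  have hRn : H ≤ normalizer (R : Set G) := by
    refine le_normalizer_iff.2 ?_
    rintro h hh _ ⟨y, hy, rfl⟩
    let e : W ≃* W :=
      { toFun := fun x => ⟨h * x * h⁻¹, hWn h hh x x.2⟩
        invFun := fun x => ⟨h⁻¹ * x * h, by simpa using hWn h⁻¹ (inv_mem hh) x x.2⟩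
        left_inv := fun x => Subtype.ext (by simp [mul_assoc])
        right_inv := fun x => Subtype.ext (by simp [mul_assoc])
        map_mul' := fun x y => Subtype.ext (by simp [mul_assoc]) }
    refine ⟨e y, ?_, rfl⟩
    rw [← CfsgLib.Fitting.pCore_map_mulEquiv r e]
    exact mem_map_of_mem e.toMonoidHom hy
  have hRconj : ∀ h ∈ H, ∀ x ∈ R, h * x * h⁻¹ ∈ R := fun h hh x hx => (mem_normalizer_iff.1 (hRn hh) x).1 hx
  have hcentconj : ∀ h ∈ H, ∀ x ∈ centralizer (R : Set G), h * x * h⁻¹ ∈ centralizer (R : Set G) := by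
    intro h hh x hx
    refine mem_centralizer_iff.2 fun z hz => ?_
    have hz' := hRconj h⁻¹ (inv_mem hh) z hz
    rw [inv_inv] at hz'
    have hc := mem_centralizer_iff.1 hx _ hz'
    calc z * (h * x * h⁻¹) = h * (h⁻¹ * z * h * x) * h⁻¹ := by group
      _ = h * (x * (h⁻¹ * z * h)) * h⁻¹ := by rw [hc]
      _ = h * x * h⁻¹ * z := by group
  obtain ⟨n, hnN, hnt, hno, hnfix⟩ := hloc.exists_rotation htS ht1
  have hnH : n ∈ H := mem_centralizer_singleton_iff.2 hnt
  by_contra hnc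
  push Not at hnc
  obtain ⟨y, hy, s, hs, hsy⟩ := hnc
  set Y := S ⊓ centralizer (R : Set G) with hY
  have htY : t ∈ Y := ⟨htS, mem_centralizer_iff.2 fun z hz => mem_centralizer_singleton_iff.1 (hRH hz)⟩
  have hYle : Y ≤ zpowers t :=
    (CoreTrivial.irr_of_rot E.card_S E.sq ht1 hnN hnt hno hnfix Y inf_le_left htY
      fun m hm hmt z hz => ⟨(mem_normalizer_iff.1 hm z).1 hz.1,
        hcentconj m (mem_centralizer_singleton_iff.2 hmt) z hz.2⟩).resolve_right fun h =>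
      hsy (mem_centralizer_iff.1 (h hs).2 y hy).symm
  have h4 : ∀ v ∈ zpowers t, v = 1 ∨ v = t := by
    rintro _ ⟨i, rfl⟩
    rcases Int.even_or_odd i with ⟨j, rfl⟩ | ⟨j, rfl⟩
    · left; show t ^ (j + j) = 1; rw [← two_mul, zpow_mul, zpow_two, ht2, one_zpow]
    · right; show t ^ (2 * j + 1) = t
      rw [zpow_add, zpow_mul, zpow_two, ht2, one_zpow, one_mul, zpow_one]
  have hRne : R ≠ ⊥ := fun h => by
    rw [h, mem_bot] at hy
    exact hsy (by rw [hy, mul_one, one_mul])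
  have hNR : normalizer (R : Set G) = H :=
    Cfsg.Tech46.Bender.normalizer_eq_of_isCoatom hmax R hRne hRH hRn
  have honly : ∀ x : G, x ∈ centralizer (R : Set G) → orderOf x = 2 → x = t := by
    intro x hx hx2
    have hxH : x ∈ H := hNR ▸ centralizer_le_normalizer _ hx
    have hp : IsPGroup 2 (zpowers (⟨x, hxH⟩ : H)) :=
      IsPGroup.of_card (n := 1) (by rw [Nat.card_zpowers, Subgroup.orderOf_mk, hx2, pow_one])
    obtain ⟨h, hh⟩ := CfsgLib.Involutions.exists_conj_le_sylow hp (E.S.subtype hSH)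
    have h1 : (h : G) * x * (h : G)⁻¹ ∈ S := mem_subgroupOf.1 (hh ⟨x, hxH⟩ (mem_zpowers _))
    rcases h4 _ (hYle ⟨h1, hcentconj _ h.2 x hx⟩) with e | e
    · rw [conj_eq_one_iff] at e
      rw [e, orderOf_one] at hx2
      exact absurd hx2 (by norm_num)
    · calc x = (h : G)⁻¹ * ((h : G) * x * (h : G)⁻¹) * h := by group
        _ = (h : G)⁻¹ * (t * h) := by rw [e, mul_assoc]
        _ = (h : G)⁻¹ * ((h : G) * t) := by rw [mem_centralizer_singleton_iff.1 h.2]
        _ = t := by rw [inv_mul_cancel_left]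
  have hro : Odd r := by
    refine (odd_card_coreIn H).of_dvd_nat ?_
    obtain ⟨k, hk⟩ := IsPGroup.iff_card.1 hRp
    have h1 : r ∣ Nat.card R := by
      rcases Nat.eq_zero_or_pos k with rfl | hk0
      · exact absurd (Subgroup.card_eq_one.1 (by simpa using hk)) hRne
      · exact hk ▸ dvd_pow_self r hk0.ne'
    exact h1.trans (card_dvd_of_le hRW)
  have hel : ∀ x ∈ R, ∃ k : ℕ, x ^ r ^ k = 1 := fun x hx => by
    obtain ⟨k, hk⟩ := hRp ⟨x, hx⟩
    exact ⟨k, by simpa using congrArg Subtype.val hk⟩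
  -- (1)
  have hone : ∀ b ∈ S, b ∉ zpowers t → ∀ X : Subgroup G, X ≤ R → (∀ x ∈ X, x * b = b * x) →
      ∃ z, z ≠ 1 ∧ t * z * t = z⁻¹ ∧ (∃ k : ℕ, z ^ r ^ k = 1) ∧ z ∈ centralizer (X : Set G) := by
    intro b hb hbt X hXR hXb
    have hb1 : b ≠ 1 := fun e => hbt (e ▸ one_mem _)
    obtain ⟨m, hm, hmt⟩ := hloc.fuse t htS b hb ht1 hb1
    set P : Subgroup G := R.map (MulAut.conj m).toMonoidHom with hP
    have hmem : ∀ g, g ∈ P ↔ m⁻¹ * g * m ∈ R := fun g => by
      rw [hP, mem_map_equiv, MulAut.conj_symm_apply]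
    have hback : ∀ x, x * b = b * x → m⁻¹ * x * m ∈ H := fun x hx => by
      refine mem_centralizer_singleton_iff.2 ?_
      calc m⁻¹ * x * m * t = m⁻¹ * (x * (m * t * m⁻¹)) * m := by group
        _ = m⁻¹ * (b * x) * m := by rw [hmt, hx]
        _ = t * (m⁻¹ * x * m) := by rw [← hmt]; group
    have hnP : ∀ x, x * b = b * x → ∀ g ∈ P, x * g * x⁻¹ ∈ P := fun x hx g hg => by
      rw [hmem] at hg ⊢
      have := hRconj _ (hback x hx) _ hg
      rwa [show m⁻¹ * (x * g * x⁻¹) * m = m⁻¹ * x * m * (m⁻¹ * g * m) * (m⁻¹ * x * m)⁻¹ by group]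
    have hti : t⁻¹ = t := inv_eq_of_mul_eq_one_right ht2
    have hle : ¬ P ≤ centralizer ({t} : Set G) := by
      intro hle
      have hmS : m⁻¹ * t * m ∈ S := by
        simpa using (mem_normalizer_iff.1 (inv_mem hm) t).1 htS
      have hmC : m⁻¹ * t * m ∈ centralizer (R : Set G) := mem_centralizer_iff.2 fun x hx => by
        have h1 := mem_centralizer_singleton_iff.1
          (hle (show m * x * m⁻¹ ∈ P from (hmem _).2 (by simpa [mul_assoc] using hx)))
        calc x * (m⁻¹ * t * m) = m⁻¹ * (m * x * m⁻¹ * t) * m := by group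
          _ = m⁻¹ * (t * (m * x * m⁻¹)) * m := by rw [h1]
          _ = m⁻¹ * t * m * x := by group
      rcases h4 _ (hYle ⟨hmS, hmC⟩) with e | e
      · exact ht1 (by
          calc t = m * (m⁻¹ * t * m) * m⁻¹ := by group
            _ = 1 := by rw [e]; group)
      · refine hbt ?_
        rw [show b = t by rw [← hmt]; nth_rw 1 [← e]; group]
        exact mem_zpowers t
    obtain ⟨z, hzP, hz1, hzt, hzX⟩ := exists_inverted_fixed (hRp.map _ : IsPGroup r P) (hRp.to_le hXR) ht2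
      (fun g hg => by have h := hnP t (E.comm htS hb) g hg; rwa [hti] at h)
      (fun x hx => hnP x (hXb x hx)) (fun x hx => mem_centralizer_singleton_iff.1 (hRH (hXR hx))) hle
    refine ⟨z, hz1, hzt, ?_, mem_centralizer_iff.2 hzX⟩
    obtain ⟨k, hk⟩ := (hRp.map (MulAut.conj m).toMonoidHom) ⟨z, hzP⟩
    exact ⟨k, (Subgroup.coe_pow _ ⟨z, hzP⟩ (r ^ k)).symm.trans (congrArg Subtype.val hk)⟩
  -- the centre
  set Z : Subgroup G := R ⊓ centralizer (R : Set G) with hZdef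
  have hZR : Z ≤ R := inf_le_left
  have hZab : ∀ x ∈ Z, ∀ z ∈ Z, x * z = z * x := fun x hx z hz =>
    mem_centralizer_iff.1 hz.2 x hx.1
  have hZn : ∀ h ∈ H, ∀ z ∈ Z, h * z * h⁻¹ ∈ Z := fun h hh z hz =>
    ⟨hRconj h hh z hz.1, hcentconj h hh z hz.2⟩
  have hZne : Z ≠ ⊥ := by
    haveI : Nontrivial R := (nontrivial_iff_ne_bot R).2 hRne
    obtain ⟨⟨c, hc⟩, hc1⟩ := (nontrivial_iff_exists_ne (1 : center R)).1 hRp.center_nontrivial
    intro h
    refine hc1 (Subtype.ext (Subtype.ext ?_))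
    have : (c : G) ∈ Z := ⟨c.2, mem_centralizer_iff.2 fun x hx =>
      congrArg Subtype.val (mem_center_iff.1 hc ⟨x, hx⟩)⟩
    rwa [h, mem_bot] at this
  have htZ : ∀ z ∈ Z, t * z = z * t := fun z hz => (mem_centralizer_singleton_iff.1 (hRH hz.1)).symm
  by_cases hc : ∀ b ∈ S, ∀ z ∈ Z, b * z = z * b
  · obtain ⟨b, hb, hbt⟩ : ∃ b ∈ S, b ∉ zpowers t := by
      by_contra h
      push Not at h
      have := card_dvd_of_le (show S ≤ zpowers t from h)
      rw [hS, E.card_S, Nat.card_zpowers, ht] at this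
      norm_num at this
    obtain ⟨z, hz1, hzt, ⟨k, hk⟩, hzX⟩ := hone b hb hbt Z hZR fun x hx => (hc b hb x hx).symm
    have hNZ : normalizer (Z : Set G) = H :=
      Cfsg.Tech46.Bender.normalizer_eq_of_isCoatom hmax Z hZne (hZR.trans hRH) (le_normalizer_iff.2 hZn)
    have hzH := mem_centralizer_singleton_iff.1 (hNZ ▸ centralizer_le_normalizer _ hzX : z ∈ H)
    refine hz1 (RankOneInvol.eq_one_of_sq_of_odd ((hro.pow (n := k)).of_dvd_nat
      (orderOf_dvd_of_pow_eq_one hk)) ?_)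
    rw [← hzH, mul_assoc, ht2, mul_one] at hzt
    exact eq_inv_iff_mul_eq_one.1 hzt
  push Not at hc
  have hsi : ∀ v ∈ S, v⁻¹ = v := fun v hv => inv_eq_of_mul_eq_one_right (E.sq v hv)
  obtain ⟨b, hb, c, hcS, ⟨u₁, hu₁, hu₁1, hu₁b, hu₁c⟩, ⟨u₂, hu₂, hu₂1, hu₂b, hu₂c⟩, u₃, hu₃, hu₃1,
      hu₃b, hu₃c⟩ := exists_signs E.card_S E.sq (fun x hx y hy => E.comm hx hy) hZab htS ht1 hnN hnt hno
    hnfix (fun v hv z hz => by simpa [hsi v hv] using hZn v (hSH hv) z hz) (hZn n hnH) htZ hc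
  have hZodd : ∀ z ∈ Z, Odd (orderOf z) := fun z hz =>
    RankOneInvol.odd_orderOf_of_mem (odd_card_coreIn H) (hRW hz.1)
  have hnot : ∀ z ∈ Z, z ≠ 1 → ∀ v, v * v = 1 → v * z * v = z⁻¹ → v * z ≠ z * v := by
    intro z hz hz1 v hv h e
    rw [e, mul_assoc, hv, mul_one] at h
    exact hz1 (RankOneInvol.eq_one_of_sq_of_odd (hZodd z hz) (eq_inv_iff_mul_eq_one.1 h))
  have hbt : b ∉ zpowers t := fun h => by
    rcases h4 b h with e | e <;> rw [e] at hu₂b
    · exact hnot u₂ hu₂ hu₂1 1 (one_mul 1) hu₂b (by simp)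
    · exact hnot u₂ hu₂ hu₂1 t ht2 hu₂b (htZ u₂ hu₂)
  have hb1 : b ≠ 1 := fun e => hbt (e ▸ one_mem _)
  have hbtne : t ≠ b := fun e => hbt (e ▸ mem_zpowers t)
  set X : Subgroup G := Z ⊓ centralizer ({b} : Set G) with hX
  obtain ⟨z, hz1, hzt, hzr, hzX⟩ := hone b hb hbt X (inf_le_left.trans hZR)
    fun x hx => mem_centralizer_singleton_iff.1 hx.2
  set M := centralizer (X : Set G) with hM
  have hRM : R ≤ M := fun x hx => mem_centralizer_iff.2 fun w hw => (mem_centralizer_iff.1 hw.1.2 x hx).symm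
  have htM : t ∈ M := mem_centralizer_iff.2 fun w hw => (htZ w hw.1).symm
  have hbM : b ∈ M := mem_centralizer_iff.2 fun w hw => mem_centralizer_singleton_iff.1 hw.2
  have hb2 : b * b = 1 := E.sq b hb
  have hu₁X : u₁ ∈ X := ⟨hu₁, mem_centralizer_singleton_iff.2 (by
    calc u₁ * b = b * u₁ * b * b := by rw [hu₁b]
      _ = b * u₁ := by rw [mul_assoc _ b b, hb2, mul_one])⟩
  have hcM : c ∉ M := fun h => hnot u₁ hu₁ hu₁1 c (E.sq c hcS) hu₁c
    (mem_centralizer_iff.1 h u₁ hu₁X).symm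
  -- the four group
  set D : Subgroup G := S ⊓ M with hD
  have htb1 : t * b ≠ 1 := fun e => hbtne ((mul_eq_one_iff_eq_inv.1 e).trans (hsi b hb))
  have hfour : ({1, t, b, t * b} : Finset G).card = 4 := by
    rw [Finset.card_insert_of_notMem, Finset.card_insert_of_notMem, Finset.card_pair]
    · exact fun e => ht1 (mul_eq_right.1 e.symm)
    · simp only [Finset.mem_insert, Finset.mem_singleton, not_or]
      exact ⟨hbtne, fun e => hb1 (mul_eq_left.1 e.symm)⟩
    · simp only [Finset.mem_insert, Finset.mem_singleton, not_or]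
      exact ⟨ht1.symm, hb1.symm, htb1.symm⟩
  haveI := Fintype.ofFinite D
  have hD4 : Nat.card D = 4 ∧ ∀ x ∈ D, x = 1 ∨ x = t ∨ x = b ∨ x = t * b := by
    have hsub : ({1, t, b, t * b} : Finset G) ⊆ (D : Set G).toFinset := by
      intro x hx
      simp only [Finset.mem_insert, Finset.mem_singleton] at hx
      rw [Set.mem_toFinset, SetLike.mem_coe]
      rcases hx with rfl | rfl | rfl | rfl
      exacts [one_mem _, ⟨htS, htM⟩, ⟨hb, hbM⟩, mul_mem ⟨htS, htM⟩ ⟨hb, hbM⟩]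
    have hc0 : (D : Set G).toFinset.card = Nat.card D := by
      rw [Set.toFinset_card, ← Nat.card_eq_fintype_card]; rfl
    have hle := Finset.card_le_card hsub
    rw [hfour, hc0] at hle
    have hd : Nat.card D ∣ 2 ^ 3 := by
      have h := card_dvd_of_le (inf_le_left : D ≤ S)
      rwa [hS, E.card_S] at h
    have hne8 : Nat.card D ≠ 8 := fun e => by
      have hDS : D = S := eq_of_le_of_card_ge inf_le_left (by rw [e, hS, E.card_S])
      have hcD : c ∈ D := by rw [hDS]; exact hcS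
      exact hcM hcD.2
    have h4' : Nat.card D = 4 := by
      obtain ⟨k, hk, hDc⟩ := (Nat.dvd_prime_pow Nat.prime_two).1 hd
      interval_cases k <;> omega
    refine ⟨h4', fun x hx => ?_⟩
    have := Finset.eq_of_subset_of_card_le hsub (by rw [hfour, hc0, h4'])
    have hx' : x ∈ ({1, t, b, t * b} : Finset G) := by
      rw [this, Set.mem_toFinset]
      exact hx
    simpa only [Finset.mem_insert, Finset.mem_singleton] using hx'
  obtain ⟨hDcard, hDmem⟩ := hD4
  have hDp : IsPGroup 2 (D.subgroupOf M) := (E.S.2.to_le inf_le_left : IsPGroup 2 D).comap_subtype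
  obtain ⟨T, hDT⟩ := hDp.exists_le_sylow
  set P : Subgroup G := (T : Subgroup M).map M.subtype with hP
  have hDP : D ≤ P := fun x hx => ⟨⟨x, hx.2⟩, hDT (mem_subgroupOf.2 hx), rfl⟩
  have hPM : P ≤ M := map_subtype_le _
  have hPp : IsPGroup 2 P := T.2.map _
  obtain ⟨g, hg⟩ := CfsgLib.Involutions.exists_conj_le_sylow hPp E.S
  have hPab : ∀ x ∈ P, ∀ w ∈ P, x * w = w * x := fun x hx w hw => by
    have h := E.comm (hg x hx) (hg w hw)
    simp only [conj_mul] at h
    exact (MulAut.conj g).injective h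
  set K := centralizer ({t} : Set G) ⊓ centralizer ({b} : Set G) with hK
  have hPK : P ≤ K := fun x hx =>
    ⟨mem_centralizer_singleton_iff.2 (hPab x hx t (hDP ⟨htS, htM⟩)),
      mem_centralizer_singleton_iff.2 (hPab x hx b (hDP ⟨hb, hbM⟩))⟩
  have hSK : S ≤ K := le_inf (E.sylow_le_centralizer htS) (E.sylow_le_centralizer hb)
  have hPD : P = D := by
    obtain ⟨k, hk⟩ := CfsgLib.Involutions.exists_conj_le_sylow
      (hPp.comap_subtype : IsPGroup 2 (P.subgroupOf K)) (E.S.subtype hSK)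
    have hk' : ∀ x ∈ P, (k : G) * x * (k : G)⁻¹ ∈ D := fun x hx => by
      refine ⟨mem_subgroupOf.1 (hk ⟨x, hPK hx⟩ (mem_subgroupOf.2 hx)), mem_centralizer_iff.2 fun w hw => ?_⟩
      have hw' : (k : G)⁻¹ * w * (k : G) ∈ X := by
        refine ⟨by simpa using hZn _ (inv_mem k.2.1) w hw.1, mem_centralizer_singleton_iff.2 ?_⟩
        have hkb : Commute (k : G) b := mem_centralizer_singleton_iff.1 k.2.2
        exact ((hkb.inv_left.mul_left (mem_centralizer_singleton_iff.1 hw.2 : Commute w b)).mul_left hkb).eq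
      have hc := mem_centralizer_iff.1 (hPM hx) _ hw'
      calc w * ((k : G) * x * (k : G)⁻¹) = (k : G) * ((k : G)⁻¹ * w * k * x) * (k : G)⁻¹ := by group
        _ = (k : G) * (x * ((k : G)⁻¹ * w * k)) * (k : G)⁻¹ := by rw [hc]
        _ = (k : G) * x * (k : G)⁻¹ * w := by group
    refine (eq_of_le_of_card_ge hDP ?_).symm
    exact Nat.card_le_card_of_injective (fun x : P => (⟨(k : G) * x * (k : G)⁻¹, hk' x x.2⟩ : D))
      fun x w h => Subtype.ext ((MulAut.conj (k : G)).injective (congrArg Subtype.val h))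
  have hT : ∀ x : M, x ∈ (T : Subgroup M) ↔ (x : G) ∈ D := fun x => by
    rw [← hPD, hP]
    exact (mem_map_iff_mem M.subtype_injective).symm
  set t' : M := ⟨t, htM⟩ with ht'
  set b' : M := ⟨b, hbM⟩ with hb'
  rcases fused_or_complement T (t := t') (b := b') ((hT _).2 ⟨htS, htM⟩) ((hT _).2 ⟨hb, hbM⟩)
    (fun x hx => by
      rcases hDmem x ((hT x).1 hx) with e | e | e | e
      exacts [Or.inl (Subtype.ext e), Or.inr (Or.inl (Subtype.ext e)),
        Or.inr (Or.inr (Or.inl (Subtype.ext e))), Or.inr (Or.inr (Or.inr (Subtype.ext e)))])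
    (fun x hx => Subtype.ext (E.sq x ((hT x).1 hx).1)) (fun e => ht1 (congrArg Subtype.val e))
    (fun e => hb1 (congrArg Subtype.val e)) (fun e => hbtne (congrArg Subtype.val e)) with ⟨m, hm⟩ | hcomp
  swap
  · obtain ⟨k, hk⟩ := hzr
    refine hz1 (eq_one_of_inverted ht hRp hRH honly hRM htM ?_ ⟨k, hk⟩ hzt)
    refine ⟨⟨z, hzX⟩, hcomp _ ?_, rfl⟩
    rw [Subgroup.orderOf_mk]
    exact (hro.pow (n := k)).of_dvd_nat (orderOf_dvd_of_pow_eq_one hk)
  -- `t` is conjugate to `b` in `M`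
  have hmG : (m : G) * t * (m : G)⁻¹ = b := congrArg Subtype.val hm
  have hinvb : ∀ w ∈ coreIn M, (∃ k : ℕ, w ^ r ^ k = 1) → b * w * b = w⁻¹ → w = 1 := by
    intro w hw hwr hwb
    have h := eq_one_of_inverted ht hRp hRH honly hRM htM (z := (m : G)⁻¹ * w * (m : G))
      (by simpa using conj_mem_coreIn (inv_mem m.2) hw) ?_ ?_
    · calc w = (m : G) * ((m : G)⁻¹ * w * (m : G)) * (m : G)⁻¹ := by group
        _ = 1 := by rw [h]; group
    · obtain ⟨k, hk⟩ := hwr
      refine ⟨k, ?_⟩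
      have e := map_pow (MulAut.conj (m : G)⁻¹) w (r ^ k)
      simp only [MulAut.conj_apply, inv_inv, hk, mul_one, inv_mul_cancel] at e
      exact e.symm
    · calc t * ((m : G)⁻¹ * w * m) * t = (m : G)⁻¹ * ((m * t * (m : G)⁻¹) * w * (m * t * (m : G)⁻¹)) * m := by
            group
        _ = ((m : G)⁻¹ * w * m)⁻¹ := by rw [hmG, hwb]; group
  obtain ⟨k₂, hk₂⟩ := exists_pow_orderOf hRp hu₂.1 hu₂1
  obtain ⟨k₃, hk₃⟩ := exists_pow_orderOf hRp hu₃.1 hu₃1
  set v₂ := u₂ ^ k₂ with hv₂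
  set v₃ := u₃ ^ k₃ with hv₃
  have hv₂Z : v₂ ∈ Z := pow_mem hu₂ _
  have hv₃Z : v₃ ∈ Z := pow_mem hu₃ _
  have hv₂b : b * v₂ * b = v₂⁻¹ := by rw [hv₂, conj_pow_of_sq hb2, hu₂b, inv_pow]
  have hv₃b : b * v₃ * b = v₃⁻¹ := by rw [hv₃, conj_pow_of_sq hb2, hu₃b, inv_pow]
  have hv₂c : c * v₂ * c = v₂ := by rw [hv₂, conj_pow_of_sq (E.sq c hcS), hu₂c]
  have hv₃c : c * v₃ * c = v₃⁻¹ := by rw [hv₃, conj_pow_of_sq (E.sq c hcS), hu₃c, inv_pow]
  -- modulo the core
  set π := QuotientGroup.mk' (Cfsg.oddCore M) with hπ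
  have hmem : ∀ x : M, π x = 1 → (x : G) ∈ coreIn M := fun x hx =>
    ⟨x, (QuotientGroup.eq_one_iff x).1 hx, rfl⟩
  have hvM : ∀ v ∈ Z, v ∈ M := fun v hv => hRM (hZR hv)
  have hord : ∀ v (hv : v ∈ Z), orderOf v = r → b * v * b = v⁻¹ → orderOf (π ⟨v, hvM v hv⟩) = r := by
    intro v hv hvr hvb
    refine orderOf_eq_prime ?_ fun e => ?_
    · rw [← map_pow, show (⟨v, hvM v hv⟩ : M) ^ r = 1 from Subtype.ext (by
        simpa using hvr ▸ pow_orderOf_eq_one v), map_one]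
    · have := hinvb v (hmem _ e) (hel v hv.1) hvb
      rw [this, orderOf_one] at hvr
      exact hr.one_lt.ne hvr
  have hbM2 : b' * b' = 1 := Subtype.ext hb2
  have hπb : π b' * π b' = 1 := by rw [← map_mul, hbM2, map_one]
  have hπt : orderOf (π t') = 2 := by
    refine orderOf_eq_prime (by rw [← map_pow, pow_two, show t' * t' = 1 from Subtype.ext ht2, map_one])
      fun e => ?_
    exact ht1 (RankOneInvol.eq_one_of_mem_of_sq (odd_card_coreIn M) (hmem _ e) ht2)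
  have hT4 : Nat.card (T : Subgroup M) = 4 := by
    rw [← card_map_of_injective (f := M.subtype) M.subtype_injective, ← hP, hPD, hDcard]
  obtain ⟨eT⟩ := dihedral_two hT4 fun x => Subtype.ext (Subtype.ext (E.sq _ ((hT x.1).1 x.2).1))
  obtain ⟨T', ⟨eT'⟩⟩ := CfsgLib.InvChar.exists_sylow_quotient_equiv T
  have hsyl : ∀ T'' : Sylow 2 (↥M ⧸ Cfsg.oddCore ↥M), Nat.card (T'' : Subgroup (↥M ⧸ Cfsg.oddCore ↥M)) = 4 ∧
      Nonempty ((T'' : Subgroup (↥M ⧸ Cfsg.oddCore ↥M)) ≃* DihedralGroup 2) := by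
    intro T''
    have e := (Sylow.equiv T'' T').trans (eT'.symm.trans eT)
    exact ⟨by rw [Nat.card_congr e.toEquiv, DihedralGroup.nat_card], ⟨e⟩⟩
  have himg : ∀ v (hv : v ∈ Z), π ⟨v, hvM v hv⟩ * π t' = π t' * π ⟨v, hvM v hv⟩ ∧
      (b * v * b = v⁻¹ → π b' * π ⟨v, hvM v hv⟩ * π b' = (π ⟨v, hvM v hv⟩)⁻¹) := by
    refine fun v hv => ⟨?_, fun h => ?_⟩
    · rw [← map_mul, ← map_mul]; exact congrArg π (Subtype.ext (htZ v hv).symm)
    · rw [← map_mul, ← map_mul, ← map_inv]; exact congrArg π (Subtype.ext h)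
  obtain ⟨i, hi⟩ := mem_zpowers_iff.1 (mem_zpowers_of_top
    (CfsgLib.GW.Main.good_of_simple CfsgLib.GW.Done.isPSLOrA7 (↥M) T 2 (Or.inl ⟨eT⟩)) hsyl hr hro hπt hπb
    (himg v₂ hv₂Z).1 (himg v₃ hv₃Z).1 ((himg v₂ hv₂Z).2 hv₂b) ((himg v₃ hv₃Z).2 hv₃b)
    (hord v₂ hv₂Z hk₂ hv₂b) (hord v₃ hv₃Z hk₃ hv₃b))
  have hd : v₃ * (v₂ ^ i)⁻¹ ∈ coreIn M := by
    have h1 := hmem (⟨v₃, hvM _ hv₃Z⟩ * (⟨v₂, hvM _ hv₂Z⟩ ^ i)⁻¹)
      (by rw [map_mul, map_inv, map_zpow, hi, mul_inv_cancel])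
    simpa using h1
  have hv₂i : ∀ e : G, e * e = 1 → e * v₂ ^ i * e = (e * v₂ * e) ^ i := fun e he => by
    have := map_zpow (MulAut.conj e) v₂ i
    simpa [MulAut.conj_apply, inv_eq_of_mul_eq_one_right he] using this
  have heq : v₃ = v₂ ^ i := by
    rw [← mul_inv_eq_one]
    refine hinvb _ hd (hel _ (mul_mem hv₃Z (inv_mem (zpow_mem hv₂Z i))).1) ?_
    calc b * (v₃ * (v₂ ^ i)⁻¹) * b = (b * v₃ * b) * (b * (v₂ ^ i)⁻¹ * b) := by
          rw [show b * v₃ * b * (b * (v₂ ^ i)⁻¹ * b) = b * v₃ * (b * b) * (v₂ ^ i)⁻¹ * b by group, hb2]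
          group
      _ = v₃⁻¹ * v₂ ^ i := by rw [hv₃b, ← conj_inv_mem hb2, hv₂i b hb2, hv₂b, inv_zpow, inv_inv]
      _ = v₂ ^ i * v₃⁻¹ := hZab _ (inv_mem hv₃Z) _ (zpow_mem hv₂Z i)
      _ = (v₃ * (v₂ ^ i)⁻¹)⁻¹ := by group
  have h3 : v₃ * v₃ = 1 := by
    refine eq_inv_iff_mul_eq_one.1 ?_
    calc v₃ = c * v₃ * c := by rw [heq, hv₂i c (E.sq c hcS), hv₂c]
      _ = v₃⁻¹ := hv₃c
  have := RankOneInvol.eq_one_of_sq_of_odd (hk₃ ▸ hro) h3
  rw [this, orderOf_one] at hk₃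
  exact hr.one_lt.ne hk₃

/-- Step 3 without the order formula. -/
theorem commute_core_free (E : Setup G) (hloc : Local E) {t : G} (htS : t ∈ (E.S : Subgroup G))
    (ht1 : t ≠ 1) (hmax : IsCoatom (centralizer ({t} : Set G))) :
    ∀ w ∈ coreIn (centralizer ({t} : Set G)), ∀ s ∈ (E.S : Subgroup G), s * w = w * s := by
  set H := centralizer ({t} : Set G) with hH
  set W := coreIn H with hW
  have hWn : ∀ h ∈ H, ∀ x ∈ W, h * x * h⁻¹ ∈ W := fun h hh x hx => conj_mem_coreIn hh hx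
  have hSH : (E.S : Subgroup G) ≤ H := E.sylow_le_centralizer htS
  intro w hw s hs
  haveI : Group.IsSolvable W := CfsgLib.PF.oddSolvable _ (odd_card_coreIn H)
  have hs2 := E.sq s hs
  have hsi : s⁻¹ = s := inv_eq_of_mul_eq_one_right hs2
  have hsW : ∀ x ∈ W, s * x * s ∈ W := fun x hx => by simpa [hsi] using hWn s (hSH hs) x hx
  have hsF : ∀ f ∈ Cfsg.fittingSubgroup W, s * (f : G) = (f : G) * s := by
    have : Cfsg.fittingSubgroup W ≤ (centralizer ({s} : Set G)).subgroupOf W := by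
      rw [CfsgLib.Fitting.fitting_eq_iSup_pCore]
      exact iSup_le fun r y hy => mem_subgroupOf.2 (mem_centralizer_singleton_iff.2
        (commute_coreIn E hloc htS ht1 hmax (Nat.prime_of_mem_primeFactors r.2) y ⟨y, hy, rfl⟩ s hs).symm)
    exact fun f hf => (mem_centralizer_singleton_iff.1 (mem_subgroupOf.1 (this hf))).symm
  set c : W := ⟨w, hw⟩⁻¹ * ⟨s * w * s, hsW w hw⟩ with hc
  have hcF : c ∈ Cfsg.fittingSubgroup W := by
    refine CfsgLib.Fitting.centralizer_fitting_le (mem_centralizer_iff.2 fun f hf => Subtype.ext ?_)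
    have hfn : (⟨w, hw⟩ : W) * f * (⟨w, hw⟩ : W)⁻¹ ∈ Cfsg.fittingSubgroup W :=
      CfsgLib.Fitting.fitting_normal.conj_mem f hf _
    have h1 := hsF _ hfn
    have h2 := hsF _ hf
    simp only [Subgroup.coe_mul, InvMemClass.coe_inv, hc] at h1 ⊢
    calc (f : G) * (w⁻¹ * (s * w * s)) = w⁻¹ * (w * f * w⁻¹ * s) * w * s := by group
      _ = w⁻¹ * (s * (w * f * w⁻¹)) * w * s := by rw [← h1]
      _ = w⁻¹ * s * w * ((f : G) * s) := by group
      _ = w⁻¹ * (s * w * s) * (f : G) := by rw [← h2]; group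
  have hcs := hsF _ hcF
  have hodd : Odd (orderOf c) := (odd_card_coreIn H).of_dvd_nat (orderOf_dvd_natCard c)
  have hcc : (c : G) * (c : G) = 1 := by
    have e : s * (c : G) * s = (c : G)⁻¹ := by
      simp only [hc, Subgroup.coe_mul, InvMemClass.coe_inv, mul_inv_rev, inv_inv, hsi]
      calc s * (w⁻¹ * (s * w * s)) * s = s * w⁻¹ * s * w * (s * s) := by group
        _ = s * (w⁻¹ * s) * w := by rw [hs2]; group
        _ = _ := by group
    rw [hcs, mul_assoc, hs2, mul_one] at e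
    exact eq_inv_iff_mul_eq_one.1 e
  have hc1 : c = 1 := CfsgLib.RankOneInvol.eq_one_of_sq_of_odd hodd (Subtype.ext hcc)
  have h3 : s * w * s = w := by
    have := congrArg Subtype.val hc1
    simp only [hc, Subgroup.coe_mul, InvMemClass.coe_inv, OneMemClass.coe_one] at this
    exact (inv_mul_eq_one.1 this).symm
  calc s * w = s * w * s * s := by rw [mul_assoc _ s s, hs2, mul_one]
    _ = w * s := by rw [h3]

end CoreFree

/-- Step D without the order formula: maximal centralisers give `O(C(t)) = 1`. -/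
theorem Setup.W_eq_bot_free (E : Setup G) (hloc : Local E)
    (hmax : ∀ v ∈ (E.S : Subgroup G), v ≠ 1 → IsCoatom (centralizer ({v} : Set G))) : E.W = ⊥ := by
  haveI := E.simple
  obtain ⟨b, hb, hbt⟩ : ∃ b ∈ (E.S : Subgroup G), b ∉ zpowers E.t := by
    by_contra h
    push Not at h
    have := (card_dvd_of_le h)
    rw [E.card_S, Nat.card_zpowers, E.orderOf_t] at this
    norm_num at this
  have hb1 : b ≠ 1 := fun e => hbt (e ▸ one_mem _)
  have hne : E.t ≠ b := fun e => hbt (e ▸ mem_zpowers _)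
  obtain ⟨Bb⟩ := hloc.exists_bar hb hb1 E.mem E.ne hne
  obtain ⟨Bt⟩ := hloc.exists_bar E.mem E.ne hb hb1 hne.symm
  have hbo : orderOf b = 2 := E.orderOf_eq_two hb hb1
  have hct := CoreFree.commute_core_free E hloc E.mem E.ne (hmax _ E.mem E.ne)
  have hcb := CoreFree.commute_core_free E hloc hb hb1 (hmax _ hb hb1)
  have hn : ∀ v : G, ∀ h ∈ centralizer ({v} : Set G), ∀ x ∈ coreIn (centralizer ({v} : Set G)),
      h * x * h⁻¹ ∈ coreIn (centralizer ({v} : Set G)) := fun v h hh x hx => conj_mem_coreIn hh hx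
  have h1 : E.W ≤ coreIn (centralizer ({b} : Set G)) :=
    CoreTrivial.le_core hbo E.orderOf_t hb E.mem Bb (odd_card_coreIn _) hct (hn E.t)
  have h2 : coreIn (centralizer ({b} : Set G)) ≤ E.W :=
    CoreTrivial.le_core E.orderOf_t hbo E.mem hb Bt (odd_card_coreIn _) hcb (hn b)
  by_contra hne'
  have hWb : E.W = coreIn (centralizer ({b} : Set G)) := le_antisymm h1 h2
  have hHt : normalizer (E.W : Set G) = centralizer ({E.t} : Set G) :=
    Cfsg.Tech46.Bender.normalizer_eq_of_isCoatom (hmax _ E.mem E.ne) E.W hne' (coreIn_le _)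
      (le_normalizer_iff.2 (hn E.t))
  have hHb : normalizer (E.W : Set G) = centralizer ({b} : Set G) :=
    Cfsg.Tech46.Bender.normalizer_eq_of_isCoatom (hmax _ hb hb1) E.W hne'
      (hWb ▸ coreIn_le _) (hWb ▸ le_normalizer_iff.2 (hn b))
  exact CoreTrivial.centralizer_ne Bb (hHb.symm.trans hHt)

/-- Maximal involution centralisers have trivial cores. -/
theorem coreFree : CoreFree.{u} := fun _ _ _ E hloc hmax => E.W_eq_bot_free hloc hmax

end CfsgLib.Walter
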