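import Cfsg.Agent.Lib.Walter.TwoTransConsumer
import Cfsg.Agent.Lib.ReeOrder.Small.Reduce
import Cfsg.Agent.Lib.JankoThompson.Small
import Cfsg.Agent.Lib.JankoThompson.Even

/-!
# S4272: the simple groups with abelian Sylow 2-subgroups without doubly transitive action

The rank three case is reduced to `CentData`: small fields give `J₁`, the others the configuration of the
order theorem, where the order is that of a Ree group over the same field.
-/

set_option autoImplicit false
set_option linter.style.haveILetI false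

open Cfsg CfsgLib.ReeType

namespace CfsgLib.Walter

universe u

/-- The order theorem, with the field. -/
def ConfOrder : Prop :=
  ∀ (G : Type u) [Group G] [Fintype G] (F : Type) [Field F] [Fintype F] [DecidableEq F] (t : G)
    (_ : ReeOrder.Conf t F),
    ∃ m : ℕ, 1 ≤ m ∧ Fintype.card F = 3 ^ (2 * m + 1) ∧
      Nat.card G = (3 ^ (2 * m + 1)) ^ 3 * ((3 ^ (2 * m + 1)) ^ 3 + 1) * (3 ^ (2 * m + 1) - 1)

/-- A group of Ree order with that involution centraliser is doubly transitive. -/
def ReeTwoTrans : Prop :=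
  ∀ (G : Type u) [Group G] [Fintype G] (F : Type) [Field F] [Fintype F] [DecidableEq F] (t : G)
    (_ : ReeOrder.Conf t F) (m : ℕ), 1 ≤ m → Fintype.card F = 3 ^ (2 * m + 1) →
      Nat.card G = (3 ^ (2 * m + 1)) ^ 3 * ((3 ^ (2 * m + 1)) ^ 3 + 1) * (3 ^ (2 * m + 1) - 1) →
      (∀ v : G, orderOf v = 2 → IsConj t v) → RankFour.HasTwoTrans G

/-- A rank three configuration is `J₁` or doubly transitive. -/
theorem setup_card_or_twoTrans (hD : CoreFree.{u}) (hF : FieldFree.{u}) (hord : ConfOrder.{u})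
    (htt : ReeTwoTrans.{u}) {G : Type u} [Group G] [Finite G] (E : Setup G) :
    Nat.card G = 175560 ∨ RankFour.HasTwoTrans G := by
  classical
  haveI : Fact (Nat.Prime 2) := ⟨Nat.prime_two⟩
  haveI := E.simple
  obtain ⟨F, iF, iFt, h3, hC⟩ := hF G E E.local_structure
    (hD G E E.local_structure (E.isCoatom_all (smallCore hD G)))
  have hab : ∀ P : Sylow 2 G, ∀ a b : P, a * b = b * a := by
    intro P a b
    obtain ⟨g, hg⟩ := MulAction.exists_smul_eq G E.S P
    have hP : (P : Subgroup G) = (E.S : Subgroup G).map (MulAut.conj g).toMonoidHom := by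
      rw [← hg]; rfl
    obtain ⟨x, hx, hxa⟩ := hP.le a.2
    obtain ⟨y, hy, hyb⟩ := hP.le b.2
    refine Subtype.ext ?_
    show (a : G) * b = b * a
    rw [← hxa, ← hyb, ← map_mul, E.comm hx hy, map_mul]
  by_cases h45 : Fintype.card F = 4 ∨ Fintype.card F = 5
  · exact Or.inl (CfsgLib.JankoThompson.four_five hab h45 E.t E.orderOf_t hC).2
  push Not at h45
  by_cases hq3 : Fintype.card F = 3
  · exact (CfsgLib.JankoThompson.three hab hq3 E.t E.orderOf_t hC).elim
  by_cases h17 : Fintype.card F % 8 = 1 ∨ Fintype.card F % 8 = 7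
  · exact (ReeOrder.Small.q_mod_one_seven hab h17 E.t hC).elim
  push Not at h17
  obtain ⟨p, hp⟩ := CharP.exists F
  haveI : Fact p.Prime := ⟨CharP.char_is_prime F p⟩
  obtain ⟨n, hpp, hn⟩ := FiniteField.card F p
  by_cases h35 : Fintype.card F % 8 = 3 ∨ Fintype.card F % 8 = 5
  · obtain ⟨F', iF', iFt', iD', hcard, ⟨hcd⟩⟩ :=
      ReeOrder.Small.exists_centData (by omega) E.t E.orderOf_t hC
    haveI := Fintype.ofFinite G
    have K : ReeOrder.Conf E.t F' := ⟨hcd, E.simple, hab, by rw [hcard]; omega, by rw [hcard]; exact h35⟩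
    obtain ⟨m, hm, hq, hG⟩ := hord G F' E.t K
    exact Or.inr (htt G F' E.t K m hm hq hG fun v hv =>
      E.local_structure.one_class E.t v E.orderOf_t hv)
  · push Not at h35
    exfalso
    have hev : Fintype.card F % 2 = 0 := by omega
    have hp2 : p = 2 := by
      have h2 : 2 ∣ p ^ (n : ℕ) := by rw [← hn]; omega
      exact ((Nat.prime_dvd_prime_iff_eq Nat.prime_two hpp).1
        (Nat.prime_two.dvd_of_dvd_pow h2)).symm
    subst hp2
    have h3n : 3 ≤ (n : ℕ) := by
      by_contra hlt
      have : (n : ℕ) = 1 ∨ (n : ℕ) = 2 := by have := n.pos; omega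
      rcases this with h | h <;> rw [h] at hn <;> omega
    exact CfsgLib.JankoThompson.even hab h3n hn E.t E.orderOf_t hC

/-- S4272, from the rank three inputs and the action of the Ree groups. -/
theorem card_of_no_twoTrans' (hD : CoreFree.{u}) (hF : FieldFree.{u}) (hord : ConfOrder.{u})
    (htt : ReeTwoTrans.{u}) {G : Type u} [Group G] [Finite G] [IsSimpleGroup G]
    (hG : ¬ IsMulCommutative G) (P : Sylow 2 G) (hP : IsMulCommutative (P : Subgroup G))
    (hno : ∀ (Ω : Type) [Fintype Ω] [MulAction G Ω] [FaithfulSMul G Ω],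
      ¬ MulAction.IsMultiplyPretransitive G Ω 2) :
    Nat.card G = 175560 := by
  have hno' : ¬ RankFour.HasTwoTrans G := by
    rintro ⟨Ω, iF, iA, hf, ht⟩
    exact @hno Ω iF iA hf ht
  have hab : ∀ x ∈ (P : Subgroup G), ∀ y ∈ (P : Subgroup G), x * y = y * x := fun x hx y hy =>
    congrArg Subtype.val (hP.is_comm.comm (⟨x, hx⟩ : (P : Subgroup G)) ⟨y, hy⟩)
  have hgood : RankFour.GoodAt (P : Subgroup G) := RankFour.goodAt_of_smaller hG P hab
    fun Y _ _ _ hY T hT _ => RankFour.good_all hD Y hY T hT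
  rcases RankFour.trichotomy hG P hab hgood with h | h | ⟨h8, hel, hu⟩
  · have hns : ¬ Group.IsSolvable G := fun hs =>
      hG ⟨⟨fun a b => IsSimpleGroup.comm_iff_isSolvable.2 hs a b⟩⟩
    obtain ⟨F, iF, iFt, -, ⟨e⟩⟩ :=
      CfsgLib.SylTwoAbel.exists_psl_of_simple CfsgLib.GW.Done.classification hns P hab h
    exact absurd (RankFour.hasTwoTrans_of_psl F e) hno'
  · obtain ⟨F, iF, iFt, -, ⟨e⟩⟩ := RankFour.exists_psl_of_rank_two hG P hab h
    exact absurd (RankFour.hasTwoTrans_of_psl F e) hno'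
  · obtain ⟨E, -⟩ := RankFour.exists_setup hG P h8 hel hu
    exact (setup_card_or_twoTrans hD hF hord htt E).resolve_right hno'

end CfsgLib.Walter
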