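import Mathlib

/-!
Automorphism groups of odd order of an elementary abelian group of order eight.
-/

set_option autoImplicit false
set_option linter.style.haveILetI false
set_option linter.unusedSectionVars false

namespace CfsgLib.Walter

open MulAction

variable {S : Type*} [Group S] [Finite S] (hsq : ∀ x : S, x * x = 1) (h8 : Nat.card S = 8)

include hsq in
theorem comm_of_sq (x y : S) : x * y = y * x := by
  have hinv : ∀ a : S, a⁻¹ = a := fun a => inv_eq_of_mul_eq_one_right (hsq a)
  calc x * y = (x * y)⁻¹ := (hinv _).symm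
    _ = y * x := by rw [mul_inv_rev, hinv, hinv]

theorem odd_card_orbit {A : Type*} [Group A] [Finite A] [MulAction A S] (hA : Odd (Nat.card A)) (x : S) :
    Odd (Nat.card (orbit A x)) := by
  classical
  haveI := Fintype.ofFinite A
  haveI := Fintype.ofFinite (orbit A x)
  haveI := Fintype.ofFinite (stabilizer A x)
  refine hA.of_dvd_nat ⟨Nat.card (stabilizer A x), ?_⟩
  simp only [Nat.card_eq_fintype_card]
  exact (card_orbit_mul_card_stabilizer_eq_card_group A x).symm

theorem card_orbit_mul (A : Type*) [Group A] [Finite A] [MulAction A S] (x : S) :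
    Nat.card (orbit A x) * Nat.card (stabilizer A x) = Nat.card A := by
  classical
  haveI := Fintype.ofFinite A
  haveI := Fintype.ofFinite (orbit A x)
  haveI := Fintype.ofFinite (stabilizer A x)
  simp only [Nat.card_eq_fintype_card]
  exact card_orbit_mul_card_stabilizer_eq_card_group A x

include hsq h8 in
/-- Two automorphisms fixed points generate: an odd group fixing `a` and `b` is trivial. -/
theorem eq_one_of_fix_two {f : MulAut S} (hf : Odd (orderOf f)) {a b : S} (ha : a ≠ 1) (hb : b ≠ 1)
    (hab : a ≠ b) (hfa : f a = a) (hfb : f b = b) : f = 1 := by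
  classical
  have hc := comm_of_sq hsq
  have hinv : ∀ x : S, x⁻¹ = x := fun x => inv_eq_of_mul_eq_one_right (hsq x)
  let V : Subgroup S :=
    { carrier := {x | x = 1 ∨ x = a ∨ x = b ∨ x = a * b}
      one_mem' := Or.inl rfl
      inv_mem' := fun {x} hx => by rw [hinv]; exact hx
      mul_mem' := fun {x y} hx hy => by
        have e1 : a * (a * b) = b := by rw [← mul_assoc, hsq, one_mul]
        have e2 : b * (a * b) = a := by rw [hc a b, ← mul_assoc, hsq, one_mul]
        rcases hx with h | h | h | h <;> rcases hy with h' | h' | h' | h' <;>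
          simp [h, h', hsq, hc b a, e1, e2, hc (a * b) a, hc (a * b) b] }
  have hfV : ∀ x ∈ V, f x = x := by
    rintro x (rfl | rfl | rfl | rfl)
    exacts [map_one f, hfa, hfb, by rw [map_mul, hfa, hfb]]
  have hV : Nat.card V = 4 := by
    have hab1 : a * b ≠ 1 := fun e => hab (mul_right_cancel (e.trans (hsq b).symm))
    have e1 : (V : Set S) = {1, a, b, a * b} := by ext x; simp [V]
    rw [← SetLike.coe_sort_coe, Nat.card_coe_set_eq, e1]
    rw [Set.ncard_insert_of_notMem, Set.ncard_insert_of_notMem, Set.ncard_pair]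
    · intro e; exact ha (mul_right_cancel ((e.symm.trans (one_mul b).symm)))
    · simp only [Set.mem_insert_iff, Set.mem_singleton_iff, not_or]
      exact ⟨hab, fun e => hb (mul_left_cancel ((e.symm).trans (mul_one a).symm))⟩
    · simp only [Set.mem_insert_iff, Set.mem_singleton_iff, not_or]
      exact ⟨Ne.symm ha, Ne.symm hb, Ne.symm hab1⟩
  have hidx : V.index = 2 := by
    have := V.card_mul_index
    rw [hV, h8] at this
    omega
  have hsq' : f * f = 1 := by
    refine MulEquiv.ext fun x => ?_
    rw [MulAut.mul_apply, MulAut.one_apply]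
    by_cases hx : x ∈ V
    · rw [hfV x hx, hfV x hx]
    · have h1 : f x * x ∈ V := by
        refine (Subgroup.mul_mem_iff_of_index_two hidx).2 ⟨fun h => absurd ?_ hx, fun h => absurd h hx⟩
        have h' : f (f x) = f x := hfV _ h
        exact f.injective h' ▸ h
      have h2 := hfV _ h1
      rw [map_mul] at h2
      have : f (f x) = f x * x * (f x)⁻¹ := eq_mul_inv_iff_mul_eq.2 h2
      rw [this, hc (f x) x, mul_assoc, mul_inv_cancel, mul_one]
  have h2 : orderOf f ∣ 2 := orderOf_dvd_of_pow_eq_one (by rw [pow_two]; exact hsq')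
  rcases (Nat.dvd_prime Nat.prime_two).1 h2 with h | h
  · exact orderOf_eq_one_iff.1 h
  · rw [h] at hf; exact absurd hf (by decide)

include hsq h8 in
/-- The stabiliser of `a ≠ 1` in an odd group of automorphisms has order at most three. -/
theorem card_stabilizer_le {A : Subgroup (MulAut S)} (hA : Odd (Nat.card A)) {a : S} (ha : a ≠ 1) :
    Nat.card (stabilizer A a) ≤ 3 := by
  classical
  set T := stabilizer A a with hT
  have hTodd : Odd (Nat.card T) := hA.of_dvd_nat T.card_subgroup_dvd_card
  have hfix : ∀ g : T, (g.1.1 : MulAut S) a = a := fun g => g.2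
  obtain ⟨b, hb1, hba⟩ : ∃ b : S, b ≠ 1 ∧ a ≠ b := by
    by_contra h
    push Not at h
    have : (Set.univ : Set S) ⊆ {1, a} := fun x _ => by
      by_cases hx : x = 1
      · exact Or.inl hx
      · exact Or.inr (h x hx).symm
    have := Set.ncard_le_ncard this
    rw [Set.ncard_univ, h8, Set.ncard_pair (Ne.symm ha)] at this
    omega
  have hinj : stabilizer T b = ⊥ := by
    rw [Subgroup.eq_bot_iff_forall]
    rintro g hg
    refine Subtype.ext (Subtype.ext (eq_one_of_fix_two hsq h8 ?_ ha hb1 hba (hfix g) hg))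
    refine hTodd.of_dvd_nat ?_
    have h1 := orderOf_dvd_natCard g
    rwa [← Subgroup.orderOf_coe, ← Subgroup.orderOf_coe] at h1
  have hcard := card_orbit_mul T b
  rw [hinj, Subgroup.card_bot, mul_one] at hcard
  have hsub : orbit T b ⊆ ({1, a} : Set S)ᶜ := by
    rintro x ⟨g, rfl⟩ hx
    rcases hx with hx | hx
    · exact hb1 ((g.1.1 : MulAut S).injective (hx.trans (map_one _).symm))
    · exact hba ((g.1.1 : MulAut S).injective ((hfix g).trans hx.symm))
  have h6 : (({1, a} : Set S)ᶜ).ncard = 6 := by
    have := Set.ncard_add_ncard_compl ({1, a} : Set S)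
    rw [Set.ncard_pair (Ne.symm ha), h8] at this
    omega
  have hle : (orbit T b).ncard ≤ 6 := h6 ▸ Set.ncard_le_ncard hsub
  rw [← hcard, Nat.card_coe_set_eq]
  by_contra hgt
  have hodd := hTodd
  rw [← hcard, Nat.card_coe_set_eq, Nat.odd_iff] at hodd
  -- translation by `a` maps the orbit onto another orbit
  have him : (orbit T b).image (· * a) = orbit T (b * a) := by
    ext x
    constructor
    · rintro ⟨_, ⟨g, rfl⟩, rfl⟩
      exact ⟨g, by
        show (g.1.1 : MulAut S) (b * a) = (g.1.1 : MulAut S) b * a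
        rw [map_mul, hfix g]⟩
    · rintro ⟨g, rfl⟩
      exact ⟨_, ⟨g, rfl⟩, by
        show (g.1.1 : MulAut S) b * a = (g.1.1 : MulAut S) (b * a)
        rw [map_mul, hfix g]⟩
  obtain ⟨y, hy1, hy2⟩ : ∃ y, y ∈ orbit T b ∧ y ∈ (orbit T b).image (· * a) := by
    by_contra hno
    push Not at hno
    have hd : Disjoint (orbit T b) ((orbit T b).image (· * a)) :=
      Set.disjoint_left.2 hno
    have h2 : (orbit T b).image (· * a) ⊆ ({1, a} : Set S)ᶜ := by
      rintro _ ⟨x, hx, rfl⟩ h
      rcases h with h | h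
      · exact hsub hx (Or.inr (mul_right_cancel (h.trans (hsq a).symm)))
      · exact hsub hx (Or.inl (mul_right_cancel (h.trans (one_mul a).symm)))
    have := Set.ncard_le_ncard (Set.union_subset hsub h2)
    rw [Set.ncard_union_eq hd, Set.ncard_image_of_injective _ (mul_left_injective a), h6] at this
    omega
  rw [him] at hy2
  have heq : orbit T b = (orbit T b).image (· * a) := by
    rw [him, ← orbit_eq_iff.2 hy1, ← orbit_eq_iff.2 hy2]
  -- a fixed-point-free involution on an odd set
  haveI := Fintype.ofFinite (orbit T b)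
  let σ : orbit T b → orbit T b := fun x =>
    ⟨x.1 * a, heq.ge ⟨x.1, x.2, rfl⟩⟩
  have hinv : Function.Involutive σ := fun x => Subtype.ext (by simp [σ, mul_assoc, hsq])
  let e : Equiv.Perm (orbit T b) := hinv.toPerm
  have he : e ^ 2 ^ 1 = 1 := Equiv.ext fun x => by simp [e, pow_succ, hinv x]
  have hnd : ¬ 2 ∣ Fintype.card (orbit T b) := by
    rw [← Nat.card_eq_fintype_card, Nat.card_coe_set_eq]; omega
  haveI : Fact (Nat.Prime 2) := ⟨Nat.prime_two⟩
  obtain ⟨x, hx⟩ := Equiv.Perm.exists_fixed_point_of_prime (p := 2) hnd he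
  exact ha (by simpa [e, σ] using congrArg Subtype.val hx)

include hsq h8 in
/-- An odd group of automorphisms moving every non-trivial element, one stabiliser non-trivial, is transitive
of order 21. -/
theorem transitive_of_odd {A : Subgroup (MulAut S)} (hA : Odd (Nat.card A)) {a : S} (ha : a ≠ 1)
    {f : MulAut S} (hf : f ∈ A) (hf1 : f ≠ 1) (hfa : f a = a)
    (hmove : ¬ ∀ g ∈ A, (g : MulAut S) a = a) :
    Nat.card A = 21 ∧ ∀ b : S, b ≠ 1 → ∃ g ∈ A, (g : MulAut S) a = b := by
  classical
  have hT3 : Nat.card (stabilizer A a) = 3 := by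
    have h1 := card_stabilizer_le hsq h8 hA ha
    have h2 : Odd (Nat.card (stabilizer A a)) := hA.of_dvd_nat (Subgroup.card_subgroup_dvd_card _)
    rw [Nat.odd_iff] at h2
    have h3 : Nat.card (stabilizer A a) ≠ 1 := fun e => hf1 (by
      have := Subgroup.card_eq_one.1 e
      have hm : (⟨f, hf⟩ : A) ∈ stabilizer A a := hfa
      rw [this, Subgroup.mem_bot] at hm
      exact congrArg Subtype.val hm)
    omega
  have hmul := card_orbit_mul A a
  rw [hT3] at hmul
  -- no orbit of size one off the identity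
  have hbig : ∀ x : S, x ≠ 1 → 3 ≤ Nat.card (orbit A x) := by
    intro x hx
    have h1 := odd_card_orbit hA x
    rw [Nat.odd_iff] at h1
    by_contra h
    have h' : Nat.card (orbit A x) = 1 := by omega
    have h2 := card_orbit_mul A x
    have h3 := card_stabilizer_le hsq h8 hA hx
    rw [h', one_mul] at h2
    have h4 : Nat.card (orbit A a) = 1 := by
      haveI : Nonempty (orbit A a) := ⟨⟨a, mem_orbit_self a⟩⟩
      have : 1 ≤ Nat.card (orbit A a) := Nat.one_le_iff_ne_zero.2 Nat.card_pos.ne'
      omega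
    refine hmove fun g hg => ?_
    haveI := (Nat.card_eq_one_iff_unique.1 h4).1
    exact congrArg Subtype.val (Subsingleton.elim (⟨g a, ⟨g, hg⟩, rfl⟩ : orbit A a) ⟨a, mem_orbit_self a⟩)
  have hne1 : ∀ x : S, x ≠ 1 → ∀ y ∈ orbit A x, y ≠ (1 : S) := by
    rintro x hx _ ⟨g, rfl⟩ e
    exact hx ((g.1 : MulAut S).injective (e.trans (map_one _).symm))
  have h7 : (({1} : Set S)ᶜ).ncard = 7 := by
    have := Set.ncard_add_ncard_compl ({1} : Set S)
    rw [Set.ncard_singleton, h8] at this
    omega
  have htrans : ∀ b : S, b ≠ 1 → b ∈ orbit A a := by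
    intro b hb
    by_contra hno
    have hd : Disjoint (orbit A a) (orbit A b) := by
      rw [Set.disjoint_left]
      intro y hya hyb
      refine hno ?_
      rw [← orbit_eq_iff.2 hya, orbit_eq_iff.2 hyb]
      exact mem_orbit_self b
    have ha3 := hbig a ha
    have hb3 := hbig b hb
    have hao := odd_card_orbit hA a
    have hbo := odd_card_orbit hA b
    rw [Nat.card_coe_set_eq] at ha3 hb3 hao hbo
    rw [Nat.odd_iff] at hao hbo
    have hsub : orbit A a ∪ orbit A b ⊆ ({1} : Set S)ᶜ :=
      Set.union_subset (fun y hy => hne1 a ha y hy) fun y hy => hne1 b hb y hy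
    have hle := Set.ncard_le_ncard hsub
    rw [Set.ncard_union_eq hd, h7] at hle
    obtain ⟨c, hc1, hc2⟩ : ∃ c ∈ ({1} : Set S)ᶜ, c ∉ orbit A a ∪ orbit A b :=
      Set.exists_mem_notMem_of_ncard_lt_ncard (by rw [h7, Set.ncard_union_eq hd]; omega)
    rw [Set.mem_union, not_or] at hc2
    have hdc : Disjoint (orbit A a ∪ orbit A b) (orbit A c) := by
      rw [Set.disjoint_left]
      rintro y (hy | hy) hyc
      · exact hc2.1 (by rw [← orbit_eq_iff.2 hy, orbit_eq_iff.2 hyc]; exact mem_orbit_self c)
      · exact hc2.2 (by rw [← orbit_eq_iff.2 hy, orbit_eq_iff.2 hyc]; exact mem_orbit_self c)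
    have hc3 := hbig c hc1
    rw [Nat.card_coe_set_eq] at hc3
    have hle2 := Set.ncard_le_ncard (Set.union_subset hsub (fun y hy => hne1 c hc1 y hy) :
      orbit A a ∪ orbit A b ∪ orbit A c ⊆ ({1} : Set S)ᶜ)
    rw [Set.ncard_union_eq hdc, Set.ncard_union_eq hd, h7] at hle2
    omega
  refine ⟨?_, fun b hb => ?_⟩
  · have : orbit A a = ({1} : Set S)ᶜ := Set.eq_of_subset_of_subset (fun y hy => hne1 a ha y hy) htrans
    rw [Nat.card_coe_set_eq, this, h7] at hmul
    omega
  · obtain ⟨g, hg⟩ := htrans b hb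
    exact ⟨g.1, g.2, hg⟩

end CfsgLib.Walter
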