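import Cfsg.Agent.Lib.Walter.Setup
import Cfsg.Agent.Lib.Walter.EightAuto
import Cfsg.Agent.Lib.Transfer.NormalComplement
import Cfsg.Agent.Lib.FTCons.Basic

/-!
Fusion in a simple group with elementary Sylow 2-subgroup of order eight and a non-solvable involution
centraliser: the normaliser induces a group of order 21 and there is one class of involutions.
-/

set_option autoImplicit false
set_option linter.style.haveILetI false

namespace CfsgLib.Walter

open Subgroup

universe u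

variable {G : Type u} [Group G] [Finite G]

namespace Setup

variable (E : Setup G)

/-- Some element of `N(S)` fixing `t` acts non-trivially on `S`. -/
theorem exists_rot (hFT : CfsgLib.FTCons.OddSolvable.{u}) :
    ∃ h ∈ normalizer ((E.S : Subgroup G) : Set G), h * E.t = E.t * h ∧
      h ∉ centralizer ((E.S : Subgroup G) : Set G) := by
  classical
  haveI : Fact (Nat.Prime 2) := ⟨Nat.prime_two⟩
  by_contra hno
  push Not at hno
  refine E.nonsolv ?_
  set C := centralizer ({E.t} : Set G)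
  set P : Sylow 2 ↥C := E.S.subtype (E.sylow_le_centralizer E.mem)
  have hP : ∀ y : ↥C, y ∈ (P : Subgroup ↥C) ↔ (y : G) ∈ (E.S : Subgroup G) := fun y => Iff.rfl
  have hle : normalizer ((P : Subgroup ↥C) : Set ↥C) ≤ centralizer ((P : Subgroup ↥C) : Set ↥C) := by
    intro x hx
    have hxN : (x : G) ∈ normalizer ((E.S : Subgroup G) : Set G) := by
      rw [Subgroup.mem_normalizer_iff] at hx ⊢
      intro y
      refine ⟨fun hy => ?_, fun hy => ?_⟩
      · exact (hP _).1 ((hx ⟨y, E.sylow_le_centralizer E.mem hy⟩).1 ((hP _).2 hy))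
      · have hy' : y ∈ C := by
          have h1 := mul_mem (mul_mem (inv_mem x.2) (E.sylow_le_centralizer E.mem hy)) x.2
          simpa [mul_assoc] using h1
        exact (hP _).1 ((hx ⟨y, hy'⟩).2 ((hP _).2 hy))
    have hc := hno x hxN (mem_centralizer_singleton_iff.1 x.2)
    exact mem_centralizer_iff.2 fun y hy => Subtype.ext (mem_centralizer_iff.1 hc _ ((hP y).1 hy))
  obtain ⟨Q, K, hKn, hKc⟩ := CfsgLib.Transfer.hasNormalPComplement_of_normalizer_le P hle
  haveI := hKn
  have hK : Odd (Nat.card ↥K) := by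
    rw [← hKc.index_eq_card, ← Nat.not_even_iff_odd, even_iff_two_dvd]
    exact Q.not_dvd_index
  haveI : Group.IsSolvable ↥K := hFT ↥K hK
  have hq : IsPGroup 2 (↥C ⧸ K) :=
    Q.2.of_equiv hKc.symm.QuotientMulEquiv.symm
  haveI : Group.IsNilpotent (↥C ⧸ K) := hq.isNilpotent
  exact Group.isSolvable_of_ker_le_range K.subtype (QuotientGroup.mk' K) (by simp)

/-- The action of `N(S)` on `S`. -/
def autoGroup : Subgroup (MulAut ↥(E.S : Subgroup G)) := (E.S : Subgroup G).normalizerMonoidHom.range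

theorem odd_autoGroup : Odd (Nat.card E.autoGroup) := by
  haveI : Fact (Nat.Prime 2) := ⟨Nat.prime_two⟩
  set N := normalizer ((E.S : Subgroup G) : Set G)
  rw [autoGroup, ← Subgroup.index_ker, Subgroup.normalizerMonoidHom_ker, ← Nat.not_even_iff_odd,
    even_iff_two_dvd]
  intro h
  have h1 : (E.S : Subgroup G) ≤ centralizer ((E.S : Subgroup G) : Set G) := fun x hx =>
    mem_centralizer_iff.2 fun y hy => E.comm hy hx
  exact E.S.not_dvd_index ((h.trans (relIndex_dvd_of_le_left N h1)).trans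
    (relIndex_dvd_index_of_le le_normalizer))

theorem auto_apply (n : ↥(normalizer ((E.S : Subgroup G) : Set G))) (x : ↥(E.S : Subgroup G)) :
    (((E.S : Subgroup G).normalizerMonoidHom n x : ↥(E.S : Subgroup G)) : G) = n * x * (n : G)⁻¹ := rfl

theorem moves_t (hFT : CfsgLib.FTCons.OddSolvable.{u}) :
    ¬ ∀ g ∈ E.autoGroup, (g : MulAut ↥(E.S : Subgroup G)) ⟨E.t, E.mem⟩ = ⟨E.t, E.mem⟩ := by
  classical
  haveI : Fact (Nat.Prime 2) := ⟨Nat.prime_two⟩
  haveI := E.simple
  intro hall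
  obtain ⟨h, hhN, hht, hhC⟩ := E.exists_rot hFT
  have hsq : ∀ x : ↥(E.S : Subgroup G), x * x = 1 := fun x => Subtype.ext (E.sq x x.2)
  have ha : (⟨E.t, E.mem⟩ : ↥(E.S : Subgroup G)) ≠ 1 := fun e => E.ne (congrArg Subtype.val e)
  set A := E.autoGroup
  have h3 : Nat.card A ≤ 3 := by
    have e : MulAction.stabilizer A (⟨E.t, E.mem⟩ : ↥(E.S : Subgroup G)) = ⊤ :=
      top_le_iff.1 fun g _ => hall g g.2
    have := card_stabilizer_le hsq E.card_S E.odd_autoGroup ha
    rwa [e, Subgroup.card_top] at this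
  set f := (E.S : Subgroup G).normalizerMonoidHom ⟨h, hhN⟩
  have hfA : f ∈ A := ⟨_, rfl⟩
  have hf1 : f ≠ 1 := fun e => hhC (mem_centralizer_iff.2 fun y hy => by
    have := congrArg Subtype.val (DFunLike.congr_fun e (⟨y, hy⟩ : ↥(E.S : Subgroup G)))
    rw [E.auto_apply] at this
    exact (mul_inv_eq_iff_eq_mul.1 this).symm)
  have hgen : ∀ g ∈ A, g = 1 ∨ g = f ∨ g = f * f := by
    intro g hg
    have hle : zpowers (⟨f, hfA⟩ : A) = ⊤ := by
      refine eq_top_of_card_eq _ ?_
      rw [Nat.card_zpowers]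
      have h1 : orderOf (⟨f, hfA⟩ : A) ∣ Nat.card A := orderOf_dvd_natCard _
      have h2 : orderOf (⟨f, hfA⟩ : A) ≠ 1 := fun e =>
        hf1 (congrArg Subtype.val (orderOf_eq_one_iff.1 e))
      have hd : Odd (Nat.card A) := E.odd_autoGroup
      rw [Nat.odd_iff] at hd
      have := Nat.le_of_dvd Nat.card_pos h1
      have := orderOf_pos (⟨f, hfA⟩ : A)
      have : orderOf (⟨f, hfA⟩ : A) ≠ 2 := fun e => by
        rw [e] at h1
        omega
      omega
    obtain ⟨j, hj⟩ := (mem_zpowers_iff_mem_range_orderOf (x := (⟨f, hfA⟩ : A))).1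
      (hle ▸ mem_top (⟨g, hg⟩ : A)) |> Finset.mem_image.1
    have hj3 : j < 3 := lt_of_lt_of_le (Finset.mem_range.1 hj.1)
      ((Nat.le_of_dvd Nat.card_pos (orderOf_dvd_natCard _)).trans h3)
    have e := congrArg Subtype.val hj.2
    simp only [SubgroupClass.coe_pow] at e
    interval_cases j
    · exact Or.inl (by simpa using e.symm)
    · exact Or.inr (Or.inl (by simpa using e.symm))
    · exact Or.inr (Or.inr (by simpa [pow_two] using e.symm))
  -- the image of `x ↦ x⁻¹ * f x`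
  let φ : ↥(E.S : Subgroup G) →* ↥(E.S : Subgroup G) :=
    { toFun := fun x => f x * x
      map_one' := by simp
      map_mul' := fun x y => by
        simp only [map_mul]
        rw [mul_assoc, ← mul_assoc (f y) x y, comm_of_sq hsq (f y) x]
        simp [mul_assoc] }
  have hR : φ.range ≠ ⊤ := by
    intro e
    have hcard : Nat.card φ.range = 8 := by rw [e, Subgroup.card_top, E.card_S]
    have hker := φ.ker.card_mul_index
    rw [Subgroup.index_ker, hcard, E.card_S] at hker
    have hb : φ.ker = ⊥ := Subgroup.card_eq_one.1 (by omega)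
    have hm : (⟨E.t, E.mem⟩ : ↥(E.S : Subgroup G)) ∈ φ.ker := by
      rw [MonoidHom.mem_ker]
      show f _ * _ = 1
      rw [hall f hfA]; exact hsq _
    rw [hb, mem_bot] at hm
    exact ha hm
  refine hR (top_le_iff.1 fun x _ => ?_)
  have hfoc : ((E.S : Subgroup G)).focalSubgroup ≤ φ.range.map (E.S : Subgroup G).subtype := by
    refine (CfsgLib.Transfer.focalSubgroup_le_of_controls (K := normalizer ((E.S : Subgroup G) : Set G))
      fun y hy g hgy => ?_).trans ?_
    · haveI : IsMulCommutative ↥(E.S : Subgroup G) := ⟨⟨fun a b => Subtype.ext (E.comm a.2 b.2)⟩⟩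
      obtain ⟨n, hn, e⟩ := E.S.conj_eq_normalizer_conj_of_mem y g⁻¹ hy (by rwa [inv_inv])
      exact ⟨n⁻¹, inv_mem hn, by rw [inv_inv] at *; exact e.symm⟩
    · rw [Subgroup.commutator_le]
      intro y hy n hn
      obtain ⟨r, hr⟩ : ∃ r, r ∈ φ.range ∧ (r : G) = n * y * n⁻¹ * y := by
        refine ⟨(E.S : Subgroup G).normalizerMonoidHom ⟨n, hn⟩ ⟨y, hy⟩ * ⟨y, hy⟩, ?_,
          by rw [Subgroup.coe_mul, E.auto_apply]⟩
        rcases hgen _ ⟨⟨n, hn⟩, rfl⟩ with e | e | e <;> rw [e]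
        · rw [MulAut.one_apply, hsq]; exact one_mem _
        · exact ⟨_, rfl⟩
        · rw [MulAut.mul_apply]
          have : f (f ⟨y, hy⟩) * ⟨y, hy⟩ = (f (f ⟨y, hy⟩) * f ⟨y, hy⟩) * (f ⟨y, hy⟩ * ⟨y, hy⟩) := by
            rw [mul_assoc (f (f ⟨y, hy⟩)), ← mul_assoc (f ⟨y, hy⟩) (f ⟨y, hy⟩), hsq, one_mul]
          rw [this]
          exact mul_mem ⟨_, rfl⟩ ⟨_, rfl⟩
      refine ⟨r, hr.1, ?_⟩
      show (r : G) = _
      rw [hr.2, commutatorElement_def]
      have hyinv : y⁻¹ = y := inv_eq_of_mul_eq_one_right (E.sq y hy)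
      have hn' : n * y * n⁻¹ ∈ (E.S : Subgroup G) := ((Subgroup.mem_normalizer_iff.1 hn) y).1 hy
      rw [E.comm hn' hy, hyinv]
      group
  have hperf : (E.S : Subgroup G) ≤ ((E.S : Subgroup G)).focalSubgroup := by
    rw [← Subgroup.commutator_inf_eq_focalSubgroup E.S]
    refine le_inf ?_ le_rfl
    rw [(Subgroup.Normal.eq_bot_or_eq_top (show (commutator G).Normal by infer_instance)).resolve_left
      fun h => E.noncomm ⟨⟨fun a b => by
        rw [← commutatorElement_eq_one_iff_mul_comm, ← Subgroup.mem_bot, ← h]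
        exact Subgroup.commutator_mem_commutator (Subgroup.mem_top _) (Subgroup.mem_top _)⟩⟩]
    exact le_top
  obtain ⟨r, hr, e⟩ := hfoc (hperf x.2)
  exact (Subtype.ext e : r = x) ▸ hr

theorem auto_transitive (hFT : CfsgLib.FTCons.OddSolvable.{u}) :
    (centralizer ((E.S : Subgroup G) : Set G)).relIndex (normalizer ((E.S : Subgroup G) : Set G)) = 21 ∧
      ∀ b ∈ (E.S : Subgroup G), b ≠ 1 → ∃ n ∈ normalizer ((E.S : Subgroup G) : Set G),
        n * E.t * n⁻¹ = b := by
  obtain ⟨h, hhN, hht, hhC⟩ := E.exists_rot hFT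
  have hsq : ∀ x : ↥(E.S : Subgroup G), x * x = 1 := fun x => Subtype.ext (E.sq x x.2)
  have ha : (⟨E.t, E.mem⟩ : ↥(E.S : Subgroup G)) ≠ 1 := fun e => E.ne (congrArg Subtype.val e)
  obtain ⟨h21, htr⟩ := transitive_of_odd hsq E.card_S E.odd_autoGroup ha
    (f := (E.S : Subgroup G).normalizerMonoidHom ⟨h, hhN⟩) ⟨_, rfl⟩
    (fun e => hhC (mem_centralizer_iff.2 fun y hy => by
      have := congrArg Subtype.val (DFunLike.congr_fun e (⟨y, hy⟩ : ↥(E.S : Subgroup G)))
      rw [E.auto_apply] at this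
      exact (mul_inv_eq_iff_eq_mul.1 this).symm))
    (Subtype.ext (by rw [E.auto_apply]; exact mul_inv_eq_of_eq_mul hht))
    (E.moves_t hFT)
  refine ⟨?_, fun b hb hb1 => ?_⟩
  · rw [autoGroup, ← Subgroup.index_ker, Subgroup.normalizerMonoidHom_ker] at h21
    exact h21
  · obtain ⟨g, ⟨n, rfl⟩, hg⟩ := htr ⟨b, hb⟩ fun e => hb1 (congrArg Subtype.val e)
    exact ⟨n, n.2, congrArg Subtype.val hg⟩

/-- All involutions are conjugate. -/
theorem isConj_t (hFT : CfsgLib.FTCons.OddSolvable.{u}) {x : G} (hx : orderOf x = 2) : IsConj E.t x := by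
  haveI : Fact (Nat.Prime 2) := ⟨Nat.prime_two⟩
  have h2 : IsPGroup 2 ↥(zpowers x) := IsPGroup.of_card (n := 1) (by rw [Nat.card_zpowers, hx, pow_one])
  obtain ⟨R, hR⟩ := h2.exists_le_sylow
  obtain ⟨g, hg⟩ := MulAction.exists_smul_eq G R E.S
  have hmem : g * x * g⁻¹ ∈ (E.S : Subgroup G) := by
    rw [← hg, Sylow.coe_subgroup_smul]
    exact ⟨x, hR (mem_zpowers x), rfl⟩
  have hne : g * x * g⁻¹ ≠ 1 := fun h => by
    rw [conj_eq_one_iff] at h; simp [h] at hx
  obtain ⟨n, -, hn⟩ := (E.auto_transitive hFT).2 _ hmem hne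
  exact (isConj_iff.2 ⟨n, hn⟩).trans (isConj_iff.2 ⟨g, rfl⟩).symm

end Setup

end CfsgLib.Walter
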