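import Cfsg.Agent.Lib.Involutions.BrauerSuzuki
import Cfsg.Agent.Lib.Involutions.Fusion
import Cfsg.Agent.Lib.GW.Basic

/-!
Walter, rank 3: the action of a group on an elementary abelian Sylow 2-subgroup of order eight.
-/

set_option autoImplicit false
set_option linter.style.haveILetI false
set_option linter.unusedSectionVars false

namespace CfsgLib.Walter

open Subgroup

universe u

variable {G : Type u} [Group G]

/-- An elementary abelian Sylow 2-subgroup of order eight. -/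
structure ActEight (S : Sylow 2 G) : Prop where
  card : Nat.card (S : Subgroup G) = 8
  sq : ∀ x ∈ (S : Subgroup G), x * x = 1

variable [Finite G] {S : Sylow 2 G}

namespace ActEight

variable (h : ActEight S)
include h

theorem comm {x y : G} (hx : x ∈ (S : Subgroup G)) (hy : y ∈ (S : Subgroup G)) : x * y = y * x := by
  calc x * y = (x * y) * ((y * x) * (y * x)) := by rw [h.sq _ (mul_mem hy hx), mul_one]
    _ = x * (y * y) * x * (y * x) := by group
    _ = y * x := by rw [h.sq y hy, mul_one, h.sq x hx, one_mul]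

theorem inv_eq {x : G} (hx : x ∈ (S : Subgroup G)) : x⁻¹ = x :=
  inv_eq_of_mul_eq_one_right (h.sq x hx)

theorem orderOf_eq {x : G} (hx : x ∈ (S : Subgroup G)) (hx1 : x ≠ 1) : orderOf x = 2 :=
  CfsgLib.Involutions.orderOf_eq_two_iff_mul.2 ⟨hx1, h.sq x hx⟩

/-- The 2-subgroups are commutative. -/
theorem pgroup_comm {Q : Subgroup G} (hQ : IsPGroup 2 Q) {x y : G} (hx : x ∈ Q) (hy : y ∈ Q) :
    x * y = y * x := by
  haveI : Fact (Nat.Prime 2) := ⟨Nat.prime_two⟩
  obtain ⟨g, hg⟩ := CfsgLib.Involutions.exists_conj_le_sylow hQ S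
  have := h.comm (hg x hx) (hg y hy)
  exact (MulAut.conj g).injective (by simpa [mul_assoc] using this)

/-- The 2-subgroups have exponent two. -/
theorem pgroup_sq {Q : Subgroup G} (hQ : IsPGroup 2 Q) {x : G} (hx : x ∈ Q) : x * x = 1 := by
  haveI : Fact (Nat.Prime 2) := ⟨Nat.prime_two⟩
  obtain ⟨g, hg⟩ := CfsgLib.Involutions.exists_conj_le_sylow hQ S
  have := h.sq _ (hg x hx)
  exact (MulAut.conj g).injective (by simpa [mul_assoc] using this)

theorem odd_card_range :
    Odd (Nat.card ((S : Subgroup G).normalizerMonoidHom).range) := by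
  haveI : Fact (Nat.Prime 2) := ⟨Nat.prime_two⟩
  set N := normalizer ((S : Subgroup G) : Set G)
  have h1 : ((S : Subgroup G).subgroupOf N) ≤ (S : Subgroup G).normalizerMonoidHom.ker := by
    rw [normalizerMonoidHom_ker]
    exact fun x hx => mem_subgroupOf.2 (mem_centralizer_iff.2 fun y hy =>
      h.comm hy (mem_subgroupOf.1 hx))
  rw [← Subgroup.index_ker]
  refine Odd.of_dvd_nat ?_ (index_dvd_of_le h1)
  rw [Nat.odd_iff]
  exact Nat.two_dvd_ne_zero.1 (S.subtype le_normalizer).not_dvd_index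

theorem exists_fix_pow {n : G} (hn : n ∈ normalizer ((S : Subgroup G) : Set G)) :
    ∃ m : ℕ, ∀ x ∈ (S : Subgroup G), n ^ (2 * m + 1) * x * (n ^ (2 * m + 1))⁻¹ = x := by
  set φ := (S : Subgroup G).normalizerMonoidHom
  obtain ⟨m, hm⟩ : Odd (orderOf (φ ⟨n, hn⟩)) := h.odd_card_range.of_dvd_nat
    (Subgroup.orderOf_dvd_natCard _ ⟨_, rfl⟩)
  refine ⟨m, fun x hx => ?_⟩
  have h1 : φ (⟨n, hn⟩ ^ (2 * m + 1)) ⟨x, hx⟩ = ⟨x, hx⟩ := by
    rw [map_pow, ← hm, pow_orderOf_eq_one]; rfl
  exact congrArg Subtype.val h1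

/-- The automorphisms induced on `S` have odd order. -/
theorem fix_of_fix_sq {n x : G} (hn : n ∈ normalizer ((S : Subgroup G) : Set G))
    (hx : x ∈ (S : Subgroup G)) (h2 : n * n * x * (n * n)⁻¹ = x) : n * x * n⁻¹ = x := by
  obtain ⟨m, hm⟩ := h.exists_fix_pow hn
  have h1 : Commute ((n * n) ^ (m + 1)) x :=
    (show Commute (n * n) x from mul_inv_eq_iff_eq_mul.1 h2).pow_left _
  have h3 : Commute (n ^ (2 * m + 1)) x := mul_inv_eq_iff_eq_mul.1 (hm x hx)
  have e : n = (n * n) ^ (m + 1) * (n ^ (2 * m + 1))⁻¹ := by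
    rw [← pow_two, ← pow_mul, eq_mul_inv_iff_mul_eq, ← pow_succ']
    congr 1
  rw [e]
  exact mul_inv_eq_iff_eq_mul.2 (h1.mul_left h3.inv_left).eq

/-- No induced automorphism exchanges two elements. -/
theorem no_swap {n x y : G} (hn : n ∈ normalizer ((S : Subgroup G) : Set G))
    (hx : x ∈ (S : Subgroup G)) (h1 : n * x * n⁻¹ = y) (h2 : n * y * n⁻¹ = x) : x = y := by
  rw [← h1]
  refine (h.fix_of_fix_sq hn hx ?_).symm
  rw [show n * n * x * (n * n)⁻¹ = n * (n * x * n⁻¹) * n⁻¹ by group, h1, h2]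

omit h in
theorem conj_mem {n x : G} (hn : n ∈ normalizer ((S : Subgroup G) : Set G))
    (hx : x ∈ (S : Subgroup G)) : n * x * n⁻¹ ∈ (S : Subgroup G) :=
  (mem_normalizer_iff.1 hn x).1 hx

omit h in
theorem conj_mem' {n x : G} (hn : n ∈ normalizer ((S : Subgroup G) : Set G))
    (hx : x ∈ (S : Subgroup G)) : n⁻¹ * x * n ∈ (S : Subgroup G) := by
  simpa using conj_mem (inv_mem hn) hx

/-- `S` is exhausted by a four-group and one further coset. -/
theorem cases_of_four {t b c x : G} (htS : t ∈ (S : Subgroup G)) (hbS : b ∈ (S : Subgroup G))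
    (hcS : c ∈ (S : Subgroup G)) (ht : t ≠ 1) (hb : b ≠ 1) (hbt : b ≠ t)
    (hc : c ∉ ({1, t, b, b * t} : Set G)) (hx : x ∈ (S : Subgroup G)) :
    x ∈ ({1, t, b, b * t} : Set G) ∨ x ∈ ({c, c * t, c * b, c * (b * t)} : Set G) := by
  classical
  haveI := Fintype.ofFinite G
  simp only [Set.mem_insert_iff, Set.mem_singleton_iff, not_or] at hc
  obtain ⟨hc1, hc2, hc3, hc4⟩ := hc
  have hbt' : b * t ≠ 1 := fun e => hbt (by rw [eq_inv_of_mul_eq_one_left e, h.inv_eq htS])
  have key : ({1, t, b, b * t, c, c * t, c * b, c * (b * t)} : Finset G) =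
      Finset.univ.filter (fun y => y ∈ (S : Subgroup G)) := by
    refine Finset.eq_of_subset_of_card_le ?_ ?_
    · intro y hy
      rw [Finset.mem_filter]
      refine ⟨Finset.mem_univ _, ?_⟩
      simp only [Finset.mem_insert, Finset.mem_singleton] at hy
      rcases hy with rfl | rfl | rfl | rfl | rfl | rfl | rfl | rfl
      exacts [one_mem _, htS, hbS, mul_mem hbS htS, hcS, mul_mem hcS htS, mul_mem hcS hbS,
        mul_mem hcS (mul_mem hbS htS)]
    · have e8 : (Finset.univ.filter (fun y => y ∈ (S : Subgroup G))).card = 8 := by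
        rw [← h.card, ← Fintype.card_subtype, Nat.card_eq_fintype_card]
      have h1 : t ≠ b * t := fun e => hb (by simpa using e)
      have h2 : b ≠ b * t := fun e => ht (by simpa using e)
      have ci := h.inv_eq hcS
      have d1 : c * t ≠ 1 := fun e => hc2 (by rw [eq_inv_of_mul_eq_one_left e, h.inv_eq htS])
      have d2 : c * b ≠ 1 := fun e => hc3 (by rw [eq_inv_of_mul_eq_one_left e, h.inv_eq hbS])
      have d3 : c * (b * t) ≠ 1 := fun e => hc4 (by
        rw [eq_inv_of_mul_eq_one_left e, h.inv_eq (mul_mem hbS htS)])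
      have d4 : c * t ≠ t := fun e => hc1 (by simpa using e)
      have d5 : c * b ≠ t := fun e => hc4 (by
        rw [h.comm hbS htS, ← e, mul_assoc, h.sq b hbS, mul_one])
      have d6 : c * (b * t) ≠ t := fun e => hc3 (by
        rw [← mul_assoc] at e
        have e' : c * b = 1 := by simpa using e
        rw [eq_inv_of_mul_eq_one_left e', h.inv_eq hbS])
      have d7 : c * t ≠ b := fun e => hc4 (by rw [← e, mul_assoc, h.sq t htS, mul_one])
      have d8 : c * b ≠ b := fun e => hc1 (by simpa using e)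
      have d9 : c * (b * t) ≠ b := fun e => hc2 (by
        rw [h.comm hbS htS, ← mul_assoc] at e
        have e' : c * t = 1 := by simpa using e
        rw [eq_inv_of_mul_eq_one_left e', h.inv_eq htS])
      have d10 : c * t ≠ b * t := fun e => hc3 (mul_right_cancel e)
      have d11 : c * b ≠ b * t := fun e => hc2 (by
        rw [h.comm hbS htS] at e; exact mul_right_cancel e)
      have d12 : c * (b * t) ≠ b * t := fun e => hc1 (by simpa using e)
      have d13 : c ≠ c * t := fun e => ht (by simpa using e)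
      have d14 : c ≠ c * b := fun e => hb (by simpa using e)
      have d15 : c ≠ c * (b * t) := fun e => hbt' (left_eq_mul.1 e)
      have d16 : c * t ≠ c * b := fun e => hbt (mul_left_cancel e).symm
      have d17 : c * t ≠ c * (b * t) := fun e => h1 (mul_left_cancel e)
      have d18 : c * b ≠ c * (b * t) := fun e => h2 (mul_left_cancel e)
      rw [e8, Finset.card_insert_of_notMem, Finset.card_insert_of_notMem, Finset.card_insert_of_notMem,
        Finset.card_insert_of_notMem, Finset.card_insert_of_notMem, Finset.card_insert_of_notMem,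
        Finset.card_insert_of_notMem, Finset.card_singleton]
      all_goals simp only [Finset.mem_insert, Finset.mem_singleton, not_or]
      exacts [d18, ⟨d16, d17⟩, ⟨d13, d14, d15⟩, ⟨Ne.symm hc4, d10.symm, d11.symm, d12.symm⟩,
        ⟨h2, Ne.symm hc3, d7.symm, d8.symm, d9.symm⟩,
        ⟨Ne.symm hbt, h1, Ne.symm hc2, d4.symm, d5.symm, d6.symm⟩,
        ⟨Ne.symm ht, Ne.symm hb, Ne.symm hbt', Ne.symm hc1, d1.symm, d2.symm, d3.symm⟩]
  have hx' : x ∈ Finset.univ.filter (fun y => y ∈ (S : Subgroup G)) :=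
    Finset.mem_filter.2 ⟨Finset.mem_univ _, hx⟩
  rw [← key] at hx'
  simp only [Finset.mem_insert, Finset.mem_singleton] at hx'
  simp only [Set.mem_insert_iff, Set.mem_singleton_iff]
  tauto

/-- A non-trivially acting element fixing `t` fixes only `1` and `t`. -/
theorem eq_of_fixed {n t v : G} (hn : n ∈ normalizer ((S : Subgroup G) : Set G))
    (htS : t ∈ (S : Subgroup G)) (ht : t ≠ 1) (hnt : n * t * n⁻¹ = t)
    (hmove : ∃ x ∈ (S : Subgroup G), n * x * n⁻¹ ≠ x) (hv : v ∈ (S : Subgroup G))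
    (hnv : n * v * n⁻¹ = v) : v = 1 ∨ v = t := by
  by_contra hne
  push Not at hne
  obtain ⟨x, hx, hxm⟩ := hmove
  have fix4 : ∀ y, y ∈ ({1, t, v, v * t} : Set G) → n * y * n⁻¹ = y := by
    intro y hy
    simp only [Set.mem_insert_iff, Set.mem_singleton_iff] at hy
    rcases hy with rfl | rfl | rfl | rfl
    · simp
    · exact hnt
    · exact hnv
    · rw [show n * (v * t) * n⁻¹ = (n * v * n⁻¹) * (n * t * n⁻¹) by group, hnv, hnt]
  have hx4 : x ∉ ({1, t, v, v * t} : Set G) := fun e => hxm (fix4 x e)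
  have hnx := conj_mem hn hx
  refine hxm (h.fix_of_fix_sq hn hx ?_)
  rcases h.cases_of_four htS hv hx ht hne.1 hne.2 hx4 hnx with e | e
  · refine absurd ?_ hx4
    have := fix4 _ e
    have e2 : n * x * n⁻¹ = x := (MulAut.conj n).injective (by simpa using this)
    rwa [e2] at e
  obtain ⟨w, hw, ew⟩ : ∃ w ∈ ({1, t, v, v * t} : Set G), n * x * n⁻¹ = x * w := by
    simp only [Set.mem_insert_iff, Set.mem_singleton_iff] at e ⊢
    rcases e with e | e | e | e
    exacts [⟨1, Or.inl rfl, by rw [e, mul_one]⟩, ⟨t, by simp, e⟩, ⟨v, by simp, e⟩,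
      ⟨v * t, by simp, e⟩]
  have hwS : w ∈ (S : Subgroup G) := by
    have e3 : w = x⁻¹ * (n * x * n⁻¹) := by rw [ew]; group
    rw [e3]; exact mul_mem (inv_mem hx) hnx
  calc n * n * x * (n * n)⁻¹ = n * (n * x * n⁻¹) * n⁻¹ := by group
    _ = n * (x * w) * n⁻¹ := by rw [ew]
    _ = (n * x * n⁻¹) * (n * w * n⁻¹) := by group
    _ = x * (w * w) := by rw [ew, fix4 w hw, mul_assoc]
    _ = x := by rw [h.sq w hwS, mul_one]

/-- An element fixing `t` and acting non-trivially has two orbits of length three off `⟨t⟩`. -/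
theorem orbit_cover {n t b v : G} (hn : n ∈ normalizer ((S : Subgroup G) : Set G))
    (htS : t ∈ (S : Subgroup G)) (ht : t ≠ 1) (hnt : n * t * n⁻¹ = t)
    (hmove : ∃ x ∈ (S : Subgroup G), n * x * n⁻¹ ≠ x) (hbS : b ∈ (S : Subgroup G)) (hb : b ≠ 1)
    (hbt : b ≠ t) (hv : v ∈ (S : Subgroup G)) :
    v = 1 ∨ v = t ∨ v = b ∨ v = b * t ∨ v = n * b * n⁻¹ ∨ v = n * b * n⁻¹ * t ∨
      v = n * n * b * (n * n)⁻¹ ∨ v = n * n * b * (n * n)⁻¹ * t := by
  have e1 : ∀ y, n * (y * t) * n⁻¹ = n * y * n⁻¹ * t := fun y => by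
    rw [show n * (y * t) * n⁻¹ = (n * y * n⁻¹) * (n * t * n⁻¹) by group, hnt]
  have e2 : n * n * t * (n * n)⁻¹ = t := by
    rw [show n * n * t * (n * n)⁻¹ = n * (n * t * n⁻¹) * n⁻¹ by group, hnt, hnt]
  have hb' : n * b * n⁻¹ ≠ b := fun e => by
    rcases h.eq_of_fixed hn htS ht hnt hmove hbS e with e' | e'
    exacts [hb e', hbt e']
  set c := n * b * n⁻¹ with hc
  have hcS : c ∈ (S : Subgroup G) := conj_mem hn hbS
  have hc4 : c ∉ ({1, t, b, b * t} : Set G) := by
    simp only [Set.mem_insert_iff, Set.mem_singleton_iff, not_or]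
    refine ⟨fun e => hb (conj_eq_one_iff.1 e),
      fun e => hbt ((MulAut.conj n).injective (e.trans hnt.symm)), hb', fun e => hb' ?_⟩
    refine h.fix_of_fix_sq hn hbS ?_
    rw [show n * n * b * (n * n)⁻¹ = n * (n * b * n⁻¹) * n⁻¹ by group, ← hc, e, e1, ← hc, e,
      mul_assoc, h.sq t htS, mul_one]
  set d := n * n * b * (n * n)⁻¹ with hd
  have hdS : d ∈ (S : Subgroup G) := conj_mem (mul_mem hn hn) hbS
  have hdc : d = n * c * n⁻¹ := by rw [hd, hc]; group
  have hd' : d ≠ b := fun e => hb' (h.fix_of_fix_sq hn hbS e)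
  have hdb : d ≠ b * t := fun e => hd' (by
    refine h.fix_of_fix_sq (mul_mem hn hn) hbS ?_
    rw [show n * n * (n * n) * b * (n * n * (n * n))⁻¹ = n * n * d * (n * n)⁻¹ by rw [hd]; group, e,
      show n * n * (b * t) * (n * n)⁻¹ = d * (n * n * t * (n * n)⁻¹) by rw [hd]; group, e2, e,
      mul_assoc, h.sq t htS, mul_one])
  have hd1 : d ≠ 1 := fun e => hb (conj_eq_one_iff.1 e)
  have hdt : d ≠ t := fun e => hbt ((MulAut.conj (n * n)).injective (e.trans e2.symm))
  have hdcne : d ≠ c := fun e => hb' ((MulAut.conj n).injective (show n * c * n⁻¹ = n * b * n⁻¹ by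
    rw [← hdc, e]))
  have hdct : d ≠ c * t := fun e => by
    have h1 : c = b * t := (MulAut.conj n).injective (show n * c * n⁻¹ = n * (b * t) * n⁻¹ by
      rw [← hdc, e, e1])
    exact hc4 (by simp [h1])
  have key : d = c * b ∨ d = c * (b * t) := by
    rcases h.cases_of_four htS hbS hcS ht hb hbt hc4 hdS with e | e <;>
      simp only [Set.mem_insert_iff, Set.mem_singleton_iff] at e <;> tauto
  rcases h.cases_of_four htS hbS hcS ht hb hbt hc4 hv with e | e <;>
    simp only [Set.mem_insert_iff, Set.mem_singleton_iff] at e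
  · tauto
  rcases e with e | e | e | e
  · tauto
  · tauto
  · rcases key with k | k
    · exact Or.inr (Or.inr (Or.inr (Or.inr (Or.inr (Or.inr (Or.inl (e.trans k.symm)))))))
    · refine Or.inr (Or.inr (Or.inr (Or.inr (Or.inr (Or.inr (Or.inr ?_))))))
      rw [e, k, mul_assoc c (b * t), mul_assoc b, h.sq t htS, mul_one]
  · rcases key with k | k
    · refine Or.inr (Or.inr (Or.inr (Or.inr (Or.inr (Or.inr (Or.inr ?_))))))
      rw [e, k, mul_assoc c b t]
    · exact Or.inr (Or.inr (Or.inr (Or.inr (Or.inr (Or.inr (Or.inl (e.trans k.symm)))))))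

/-- Either a non-trivial element is fixed by the normaliser of `S` in `X`, or that normaliser is
transitive. -/
theorem fixed_or_transitive (X : Subgroup G) :
    (∃ z ∈ (S : Subgroup G), z ≠ 1 ∧ ∀ n ∈ X, n ∈ normalizer ((S : Subgroup G) : Set G) →
      n * z * n⁻¹ = z) ∨
    ∀ x ∈ (S : Subgroup G), ∀ y ∈ (S : Subgroup G), x ≠ 1 → y ≠ 1 →
      ∃ n ∈ X, n ∈ normalizer ((S : Subgroup G) : Set G) ∧ n * x * n⁻¹ = y := by
  classical
  refine or_iff_not_imp_left.2 fun hfix => ?_
  push Not at hfix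
  set N := normalizer ((S : Subgroup G) : Set G)
  set φ := (S : Subgroup G).normalizerMonoidHom
  set A : Subgroup (MulAut (S : Subgroup G)) := (X.subgroupOf N).map φ with hA
  have hAodd : Odd (Nat.card A) := h.odd_card_range.of_dvd_nat
    (card_dvd_of_le (map_le_range φ _))
  haveI := Fintype.ofFinite (S : Subgroup G)
  let O : ↥(S : Subgroup G) → Finset ↥(S : Subgroup G) := fun x =>
    Finset.univ.filter fun y => y ∈ MulAction.orbit A x
  have hOmem : ∀ x y, y ∈ O x ↔ y ∈ MulAction.orbit A x := fun x y => by simp [O]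
  have hodd : ∀ x, Odd (O x).card := fun x => by
    have e : (O x).card = Nat.card (MulAction.orbit A x) := by
      rw [Nat.card_eq_fintype_card, Fintype.card_ofFinset]
    rw [e]
    refine hAodd.of_dvd_nat ⟨Nat.card (MulAction.stabilizer A x), ?_⟩
    haveI := Fintype.ofFinite A
    haveI := Fintype.ofFinite (MulAction.orbit A x)
    haveI := Fintype.ofFinite (MulAction.stabilizer A x)
    simp only [Nat.card_eq_fintype_card]
    exact (MulAction.card_orbit_mul_card_stabilizer_eq_card_group A x).symm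
  have hthree : ∀ x, x ≠ 1 → 3 ≤ (O x).card := fun x hx => by
    obtain ⟨m, hm⟩ := hodd x
    suffices 1 < (O x).card by omega
    obtain ⟨n, hnX, hnN, hne⟩ := hfix x x.2 (fun e => hx (Subtype.ext e))
    refine Finset.one_lt_card.2 ⟨x, (hOmem x x).2 (MulAction.mem_orbit_self x),
      φ ⟨n, hnN⟩ x, (hOmem x _).2 ⟨⟨φ ⟨n, hnN⟩, mem_map_of_mem φ (mem_subgroupOf.2 hnX)⟩, rfl⟩, ?_⟩
    exact fun e => hne (congrArg Subtype.val e).symm
  have hone : ∀ x, x ≠ 1 → (1 : (S : Subgroup G)) ∉ O x := fun x hx e => by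
    obtain ⟨a, ha⟩ := (hOmem x 1).1 e
    exact hx (a.1.injective (ha.trans (map_one a.1).symm))
  have hdisj : ∀ x y, y ∉ O x → Disjoint (O x) (O y) := fun x y hy =>
    Finset.disjoint_left.2 fun z h1 h2 => hy ((hOmem x y).2 (by
      rw [← MulAction.orbit_eq_iff.2 ((hOmem x z).1 h1), MulAction.orbit_eq_iff.2 ((hOmem y z).1 h2)]
      exact MulAction.mem_orbit_self y))
  have hall : ∀ x y, x ≠ 1 → y ≠ 1 → y ∈ O x := by
    intro x y hx hy
    by_contra hne
    have h8 : (Finset.univ : Finset (S : Subgroup G)).card = 8 := by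
      rw [Finset.card_univ, ← Nat.card_eq_fintype_card, h.card]
    set U := insert 1 (O x ∪ O y) with hU
    have h1 : (1 : (S : Subgroup G)) ∉ O x ∪ O y := by
      rw [Finset.mem_union, not_or]; exact ⟨hone x hx, hone y hy⟩
    have hUc : U.card = 1 + (O x).card + (O y).card := by
      rw [hU, Finset.card_insert_of_notMem h1, Finset.card_union_of_disjoint (hdisj x y hne)]; omega
    obtain ⟨a, ha⟩ := hodd x
    obtain ⟨c, hc⟩ := hodd y
    by_cases hz : U = Finset.univ
    · rw [hz, h8] at hUc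
      omega
    obtain ⟨z, -, hzU⟩ := Finset.exists_of_ssubset (Finset.ssubset_univ_iff.2 hz)
    simp only [hU, Finset.mem_insert, Finset.mem_union, not_or] at hzU
    have h3 := Finset.card_le_univ (insert 1 ((O x ∪ O y) ∪ O z))
    rw [Finset.card_insert_of_notMem (by
        rw [Finset.mem_union, not_or]; exact ⟨h1, hone z hzU.1⟩),
      Finset.card_union_of_disjoint (Finset.disjoint_union_left.2
        ⟨hdisj x z hzU.2.1, hdisj y z hzU.2.2⟩),
      Finset.card_union_of_disjoint (hdisj x y hne), ← Nat.card_eq_fintype_card, h.card] at h3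
    have := hthree x hx
    have := hthree y hy
    have := hthree z hzU.1
    omega
  intro x hx y hy hx1 hy1
  obtain ⟨⟨a, ha⟩, hae⟩ := (hOmem _ _).1 (hall ⟨x, hx⟩ ⟨y, hy⟩ (fun e => hx1 (congrArg Subtype.val e))
    fun e => hy1 (congrArg Subtype.val e))
  obtain ⟨⟨n, hnN⟩, hnX, rfl⟩ := ha
  exact ⟨n, mem_subgroupOf.1 hnX, hnN, congrArg Subtype.val hae⟩

/-- Burnside: fusion in `S` inside `X ≥ S` is controlled by the normaliser of `S`. -/
theorem exists_normalizer {X : Subgroup G} (hSX : (S : Subgroup G) ≤ X) {g x : G} (hg : g ∈ X)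
    (hx : x ∈ (S : Subgroup G)) (hy : g * x * g⁻¹ ∈ (S : Subgroup G)) :
    ∃ n ∈ X, n ∈ normalizer ((S : Subgroup G) : Set G) ∧ n * x * n⁻¹ = g * x * g⁻¹ := by
  haveI : IsMulCommutative ((S.subtype hSX : Sylow 2 X) : Subgroup X) :=
    ⟨⟨fun a b => Subtype.ext (Subtype.ext (h.comm (mem_subgroupOf.1 a.2) (mem_subgroupOf.1 b.2)))⟩⟩
  obtain ⟨n, hn, he⟩ : ∃ n ∈ normalizer (((S.subtype hSX : Sylow 2 X) : Subgroup X) : Set X),
      n * ⟨x, hSX hx⟩ * n⁻¹ = (⟨g, hg⟩ : X) * ⟨x, hSX hx⟩ * (⟨g, hg⟩ : X)⁻¹ := by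
    obtain ⟨n, hn, he⟩ := Sylow.conj_eq_normalizer_conj_of_mem (S.subtype hSX) (⟨x, hSX hx⟩ : X)
      (⟨g, hg⟩ : X)⁻¹ (mem_subgroupOf.2 hx) (by rw [inv_inv]; exact mem_subgroupOf.2 hy)
    exact ⟨n⁻¹, inv_mem hn, by rw [inv_inv] at he ⊢; exact he.symm⟩
  refine ⟨n, n.2, mem_normalizer_iff.2 fun a => ⟨fun ha => ?_, fun ha => ?_⟩, congrArg Subtype.val he⟩
  · exact mem_subgroupOf.1 ((mem_normalizer_iff.1 hn ⟨a, hSX ha⟩).1 (mem_subgroupOf.2 ha))
  · have haX : a ∈ X := by
      have := mul_mem (mul_mem (inv_mem n.2) (hSX ha)) n.2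
      simpa [mul_assoc] using this
    exact mem_subgroupOf.1 ((mem_normalizer_iff.1 hn ⟨a, haX⟩).2 (mem_subgroupOf.2 ha))

/-- An element fixed by the normaliser of `S` in `X ≥ S` is isolated in `X`. -/
theorem conj_eq_of_fixed {X : Subgroup G} (hSX : (S : Subgroup G) ≤ X) {z : G}
    (hz : z ∈ (S : Subgroup G))
    (hfix : ∀ n ∈ X, n ∈ normalizer ((S : Subgroup G) : Set G) → n * z * n⁻¹ = z) {g : G} (hg : g ∈ X)
    (hgz : g * z * g⁻¹ ∈ (S : Subgroup G)) : g * z * g⁻¹ = z := by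
  obtain ⟨n, hnX, hnN, hne⟩ := h.exists_normalizer hSX hg hz hgz
  rw [← hne, hfix n hnX hnN]

/-- An element fixed by the normaliser of `S` in `X ≥ S` is central modulo the odd core. -/
theorem mem_coreIn_of_fixed {X : Subgroup G} (hSX : (S : Subgroup G) ≤ X) {z : G}
    (hz : z ∈ (S : Subgroup G)) (hz1 : z ≠ 1)
    (hfix : ∀ n ∈ X, n ∈ normalizer ((S : Subgroup G) : Set G) → n * z * n⁻¹ = z) {k : G} (hk : k ∈ X) :
    k * z * k⁻¹ * z⁻¹ ∈ CfsgLib.GW.coreIn X := by
  haveI : Fact (Nat.Prime 2) := ⟨Nat.prime_two⟩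
  have hiso : Cfsg.IsIsolatedInvolution (⟨z, hSX hz⟩ : X) := by
    refine ⟨by rw [Subgroup.orderOf_mk, h.orderOf_eq hz hz1], fun g hg => Subtype.ext ?_⟩
    show (g : G) * z * (g : G)⁻¹ = z
    set w := (g : G) * z * (g : G)⁻¹ with hw
    have hzw : z * w = w * z := congrArg Subtype.val hg.eq
    -- conjugate `w` into `S` inside the centraliser of `z`
    set C := X ⊓ centralizer ({z} : Set G) with hC
    have hSC : (S : Subgroup G) ≤ C := fun s hs =>
      ⟨hSX hs, mem_centralizer_singleton_iff.2 (h.comm hs hz)⟩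
    have hwC : w ∈ C := ⟨X.mul_mem (X.mul_mem g.2 (hSX hz)) (X.inv_mem g.2),
      mem_centralizer_singleton_iff.2 hzw.symm⟩
    have hw2 : w * w = 1 := by
      rw [hw, show (g : G) * z * (g : G)⁻¹ * ((g : G) * z * (g : G)⁻¹) = (g : G) * (z * z) * (g : G)⁻¹ by group,
        h.sq z hz, mul_one, mul_inv_cancel]
    have hp : IsPGroup 2 (zpowers (⟨w, hwC⟩ : C)) := fun ⟨a, ha⟩ => by
      obtain ⟨i, rfl⟩ := mem_zpowers_iff.1 ha
      refine ⟨1, Subtype.ext ?_⟩
      have e : ((⟨w, hwC⟩ : C) : C) ^ (2 : ℕ) = 1 := Subtype.ext (by simpa [pow_two] using hw2)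
      simp only [pow_one, SubmonoidClass.coe_pow, OneMemClass.coe_one]
      rw [← zpow_natCast, ← zpow_mul, mul_comm, zpow_mul, zpow_natCast, e, one_zpow]
    obtain ⟨c, hc⟩ := CfsgLib.Involutions.exists_conj_le_sylow hp (S.subtype hSC)
    have hcw : (c : G) * w * (c : G)⁻¹ ∈ (S : Subgroup G) :=
      mem_subgroupOf.1 (hc _ (mem_zpowers _))
    have hcz : (c : G) * z * (c : G)⁻¹ = z :=
      mul_inv_eq_iff_eq_mul.2 (mem_centralizer_singleton_iff.1 c.2.2)
    have h1 : (c : G) * g * z * ((c : G) * g)⁻¹ ∈ (S : Subgroup G) := by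
      simpa [hw, mul_assoc] using hcw
    have h2 := h.conj_eq_of_fixed hSX hz hfix (mul_mem c.2.1 g.2) h1
    exact (MulAut.conj (c : G)).injective (show (c : G) * w * (c : G)⁻¹ = c * z * (c : G)⁻¹ by
      rw [hcz]
      conv_rhs => rw [← h2]
      rw [hw]; group)
  exact ⟨_, CfsgLib.Involutions.zstar X _ hiso ⟨k, hk⟩, rfl⟩

end ActEight

end CfsgLib.Walter
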