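import Cfsg.Agent.Lib.Walter.TwoTransRee
import Cfsg.Agent.Lib.ReeOrder.Assembly
import Cfsg.Agent.Lib.ReeOrder.Block.Main
import Cfsg.Agent.Lib.ReeOrder.Torus.Main
import Cfsg.Agent.Lib.ReeOrder.Local.GoodThree
import Cfsg.Agent.Lib.ReeOrder.Local.AllGood
import Cfsg.Agent.Lib.ReeOrder.Local.AType
import Cfsg.Agent.Lib.ReeOrder.Local.ThreeFree
import Cfsg.Agent.Lib.ReeOrder.Local.NoU
import Cfsg.Agent.Lib.ReeOrder.Local.NoB

/-!
# The order theorem with the field, as used by the consumer of S4272
-/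

set_option autoImplicit false

namespace CfsgLib.Walter

open CfsgLib.ReeOrder

universe u

theorem confOrder : ConfOrder.{u} := by
  intro G _ _ F _ _ _ t K
  have h3 := K.threeFree
  have g3 := K.goodThree h3
  have hNB : ∀ (t' w x : G), K.IsBFrame t' w x → (orderOf x).Prime → K.Good (orderOf x) → K.NoB t' w x :=
    fun t' w x h hp hG => K.noB_of_good hp hG h dvd_rfl
  have hU := K.noUData (K.aTypeData_of h3 g3 hNB)
  have hT := K.torusCentralizers_of (K.allGood h3 g3 hU) hNB hU
  exact K.order_of (blockData K) hT (K.torusData hT)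

end CfsgLib.Walter
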