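import Cfsg.Agent.Lib.GW.Field
import Cfsg.Agent.Lib.GW.Basic
import Cfsg.Agent.Lib.PF.OddOrder
import Cfsg.Agent.Lib.Tech46.Bender

/-!
Abelian Sylow 2-subgroups of order eight, step D: if the centraliser `C(t)` is maximal and Brauer's
order formula holds, then `O(C(t))` is centralised by the Sylow 2-subgroup and is trivial.
-/

set_option autoImplicit false
set_option linter.style.haveILetI false

namespace CfsgLib.Walter.CoreTrivial

open Subgroup CfsgLib.GW

universe u

variable {G : Type u} [Group G] [Finite G]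

/-- A Sylow subgroup of `C(t)` containing a normal subgroup with centraliser having `t` as only
involution is a Sylow subgroup of the whole group. -/
theorem not_dvd_index {t : G} (ht : orderOf t = 2) {r : ℕ} [Fact r.Prime] {R : Subgroup G}
    (hR : IsPGroup r R) (hRH : R ≤ centralizer ({t} : Set G))
    (honly : ∀ x : G, x ∈ centralizer (R : Set G) → orderOf x = 2 → x = t) :
    ¬ r ∣ (centralizer ({t} : Set G)).index := by
  set H := centralizer ({t} : Set G) with hH
  have hR' : IsPGroup r (R.subgroupOf H) := hR.comap_subtype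
  obtain ⟨P0, hP0⟩ := hR'.exists_le_sylow
  set P : Subgroup G := (P0 : Subgroup H).map H.subtype with hP
  have hRP : R ≤ P := fun x hx => ⟨⟨x, hRH hx⟩, hP0 (mem_subgroupOf.2 hx), rfl⟩
  have hPH : P ≤ H := map_subtype_le _
  obtain ⟨Q, hPQ⟩ := (P0.2.map H.subtype).exists_le_sylow
  have hQP : (Q : Subgroup G) ≤ P := by
    by_contra hnot
    have hnil : Group.IsNilpotent (Q : Subgroup G) := Q.2.isNilpotent
    set A := P.subgroupOf (Q : Subgroup G) with hA
    have hAtop : A ≠ ⊤ := fun h => hnot (subgroupOf_eq_top.1 h)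
    obtain ⟨n, hnN, hnA⟩ := SetLike.exists_of_lt
      ((Group.normalizerCondition_of_isNilpotent : NormalizerCondition (Q : Subgroup G)) A
        (lt_top_iff_ne_top.2 hAtop))
    have hconj : ∀ y ∈ P, (n : G)⁻¹ * y * (n : G) ∈ P := by
      intro y hy
      have h := (mem_normalizer_iff.1 (inv_mem hnN) ⟨y, hPQ hy⟩).1 (mem_subgroupOf.2 hy)
      simpa using mem_subgroupOf.1 h
    have htn : (n : G) * t * (n : G)⁻¹ = t := by
      refine honly _ (mem_centralizer_iff.2 fun y hy => ?_) ?_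
      · have hc := mem_centralizer_singleton_iff.1 (hPH (hconj y (hRP hy)))
        calc y * ((n : G) * t * (n : G)⁻¹) = (n : G) * ((n : G)⁻¹ * y * n * t) * (n : G)⁻¹ := by group
          _ = (n : G) * (t * ((n : G)⁻¹ * y * n)) * (n : G)⁻¹ := by rw [hc]
          _ = (n : G) * t * (n : G)⁻¹ * y := by group
      · rw [← MulAut.conj_apply, MulEquiv.orderOf_eq, ht]
    have hnH : (n : G) ∈ H := mem_centralizer_singleton_iff.2 (mul_inv_eq_iff_eq_mul.1 htn)
    have hp : IsPGroup r ((Q : Subgroup G).subgroupOf H) := Q.2.comap_subtype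
    have heq := P0.is_maximal' hp (fun y hy => mem_subgroupOf.2 (hPQ (mem_map_of_mem _ hy)))
    exact hnA (mem_subgroupOf.2 ⟨⟨n, hnH⟩, heq ▸ mem_subgroupOf.2 n.2, rfl⟩)
  exact fun h => Q.not_dvd_index (h.trans (index_dvd_of_le (hQP.trans hPH)))

/-- A normal `r`-subgroup not inside a subgroup forces `r` into its index. -/
theorem dvd_index_of_not_le {K : Type u} [Group K] [Finite K] {r : ℕ} [hr : Fact r.Prime]
    {R C : Subgroup K} [hN : R.Normal] (hR : IsPGroup r R) (hle : ¬ R ≤ C) : r ∣ C.index := by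
  by_contra h
  obtain ⟨q, hq⟩ := hR.nonempty_fixed_point_of_prime_not_dvd_card (K ⧸ C)
    (by rwa [← index_eq_card])
  obtain ⟨w, rfl⟩ := QuotientGroup.mk_surjective q
  refine hle fun x hx => ?_
  have hx' : w * x * w⁻¹ ∈ R := hN.conj_mem x hx w
  have h1 := hq ⟨w * x * w⁻¹, hx'⟩
  change ((w * x * w⁻¹ * w : K) : K ⧸ C) = (w : K ⧸ C) at h1
  rw [eq_comm, QuotientGroup.eq] at h1
  simpa [mul_assoc] using h1

variable (S : Sylow 2 G)

/-- Step 3: the odd core of a maximal `C(t)` is centralised by the Sylow 2-subgroup. -/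
theorem commute_core [IsSimpleGroup G] (hel : ∀ s ∈ (S : Subgroup G), s * s = 1)
    (hab : ∀ x ∈ (S : Subgroup G), ∀ y ∈ (S : Subgroup G), x * y = y * x)
    {t : G} (ht : orderOf t = 2) (htS : t ∈ (S : Subgroup G))
    (hmax : IsCoatom (centralizer ({t} : Set G)))
    (hirr : ∀ Y : Subgroup G, Y ≤ (S : Subgroup G) → t ∈ Y →
      (∀ n ∈ normalizer ((S : Subgroup G) : Set G), n * t = t * n → ∀ y ∈ Y, n * y * n⁻¹ ∈ Y) →
        Y ≤ zpowers t ∨ (S : Subgroup G) ≤ Y)
    (hdvd : ∀ b ∈ (S : Subgroup G), b ∉ zpowers t →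
      Nat.card (coreIn (centralizer ({t} : Set G))) ^ 2 ∣ (centralizer ({t} : Set G)).index *
        Nat.card (coreIn (centralizer ({t} : Set G)) ⊓ centralizer ({b} : Set G) : Subgroup G) ^ 2) :
    ∀ w ∈ coreIn (centralizer ({t} : Set G)), ∀ s ∈ (S : Subgroup G), s * w = w * s := by
  haveI : Fact (Nat.Prime 2) := ⟨Nat.prime_two⟩
  set H := centralizer ({t} : Set G) with hH
  set W := coreIn H with hW
  have hWH : W ≤ H := coreIn_le H
  have hSH : (S : Subgroup G) ≤ H := fun s hs =>
    mem_centralizer_singleton_iff.2 (hab s hs t htS)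
  have hWn : ∀ h ∈ H, ∀ x ∈ W, h * x * h⁻¹ ∈ W := fun h hh x hx => conj_mem_coreIn hh hx
  -- the primes one at a time
  have hR : ∀ r : ℕ, r.Prime → ∀ y ∈ Cfsg.Agent.S1312.coreIn r W, ∀ s ∈ (S : Subgroup G),
      s * y = y * s := by
    intro r hr
    haveI := Fact.mk hr
    set R := Cfsg.Agent.S1312.coreIn r W with hRdef
    have hRW : R ≤ W := Cfsg.Agent.S1312.coreIn_le r W
    have hRH : R ≤ H := hRW.trans hWH
    have hRp : IsPGroup r R := Cfsg.Tech46.Bender.coreIn_isPGroup hr W
    have hHW : H ≤ normalizer (W : Set G) := le_normalizer_iff.2 hWn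
    have hRn : H ≤ normalizer (R : Set G) := by
      refine le_normalizer_iff.2 ?_
      rintro h hh _ ⟨y, hy, rfl⟩
      let e : W ≃* W :=
        { toFun := fun x => ⟨h * x * h⁻¹, hWn h hh x x.2⟩
          invFun := fun x => ⟨h⁻¹ * x * h, by simpa using hWn h⁻¹ (inv_mem hh) x x.2⟩
          left_inv := fun x => Subtype.ext (by simp [mul_assoc])
          right_inv := fun x => Subtype.ext (by simp [mul_assoc])
          map_mul' := fun x y => Subtype.ext (by simp [mul_assoc]) }
      refine ⟨e y, ?_, rfl⟩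
      rw [← CfsgLib.Fitting.pCore_map_mulEquiv r e]
      exact mem_map_of_mem e.toMonoidHom hy
    by_contra hnc
    push Not at hnc
    obtain ⟨y, hy, s, hs, hsy⟩ := hnc
    set Y := (S : Subgroup G) ⊓ centralizer (R : Set G) with hY
    have htY : t ∈ Y := ⟨htS, mem_centralizer_iff.2 fun z hz =>
      mem_centralizer_singleton_iff.1 (hRH hz)⟩
    have hYle : Y ≤ zpowers t := by
      refine (hirr Y inf_le_left htY fun n hn hnt z hz => ⟨(mem_normalizer_iff.1 hn z).1 hz.1,
        mem_centralizer_iff.2 fun x hx => ?_⟩).resolve_right fun h =>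
          hsy (mem_centralizer_iff.1 (h hs).2 y hy).symm
      have hnH : n ∈ H := mem_centralizer_singleton_iff.2 hnt
      have hx' := (mem_normalizer_iff.1 (hRn (inv_mem hnH)) x).1 hx
      rw [inv_inv] at hx'
      have hc := mem_centralizer_iff.1 hz.2 _ hx'
      calc x * (n * z * n⁻¹) = n * (n⁻¹ * x * n * z) * n⁻¹ := by group
        _ = n * (z * (n⁻¹ * x * n)) * n⁻¹ := by rw [hc]
        _ = n * z * n⁻¹ * x := by group
    have hRne : R ≠ ⊥ := fun h => by
      rw [h, mem_bot] at hy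
      exact hsy (by rw [hy, mul_one, one_mul])
    have hNR : normalizer (R : Set G) = H :=
      Cfsg.Tech46.Bender.normalizer_eq_of_isCoatom hmax R hRne hRH hRn
    have honly : ∀ x : G, x ∈ centralizer (R : Set G) → orderOf x = 2 → x = t := by
      intro x hx hx2
      have hxH : x ∈ H := hNR ▸ centralizer_le_normalizer _ hx
      have hp : IsPGroup 2 (zpowers (⟨x, hxH⟩ : H)) :=
        IsPGroup.of_card (n := 1) (by rw [Nat.card_zpowers, Subgroup.orderOf_mk, hx2, pow_one])
      obtain ⟨h, hh⟩ := CfsgLib.Involutions.exists_conj_le_sylow hp (S.subtype hSH)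
      have h1 : (h : G) * x * (h : G)⁻¹ ∈ (S : Subgroup G) :=
        mem_subgroupOf.1 (hh ⟨x, hxH⟩ (mem_zpowers _))
      have h2 : (h : G) * x * (h : G)⁻¹ ∈ Y := by
        refine ⟨h1, mem_centralizer_iff.2 fun z hz => ?_⟩
        have hz' := (mem_normalizer_iff.1 (hRn (inv_mem h.2)) z).1 hz
        rw [inv_inv] at hz'
        have hc := mem_centralizer_iff.1 hx _ hz'
        calc z * ((h : G) * x * (h : G)⁻¹) = (h : G) * ((h : G)⁻¹ * z * h * x) * (h : G)⁻¹ := by group
          _ = (h : G) * (x * ((h : G)⁻¹ * z * h)) * (h : G)⁻¹ := by rw [hc]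
          _ = (h : G) * x * (h : G)⁻¹ * z := by group
      have ht2 : t * t = 1 := hel t htS
      have h4 : ∀ v ∈ zpowers t, v = 1 ∨ v = t := by
        rintro _ ⟨i, rfl⟩
        rcases Int.even_or_odd i with ⟨j, rfl⟩ | ⟨j, rfl⟩
        · left; show t ^ (j + j) = 1; rw [← two_mul, zpow_mul, zpow_two, ht2, one_zpow]
        · right; show t ^ (2 * j + 1) = t
          rw [zpow_add, zpow_mul, zpow_two, ht2, one_zpow, one_mul, zpow_one]
      rcases h4 _ (hYle h2) with e | e
      · rw [conj_eq_one_iff] at e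
        rw [e, orderOf_one] at hx2
        exact absurd hx2 (by norm_num)
      · calc x = (h : G)⁻¹ * ((h : G) * x * (h : G)⁻¹) * h := by group
          _ = (h : G)⁻¹ * (t * h) := by rw [e, mul_assoc]
          _ = (h : G)⁻¹ * ((h : G) * t) := by rw [mem_centralizer_singleton_iff.1 h.2]
          _ = t := by rw [inv_mul_cancel_left]
    have hst : s ∉ zpowers t := fun h => by
      obtain ⟨i, rfl⟩ := h
      exact hsy ((show Commute t y from
        (mem_centralizer_singleton_iff.1 (hRH hy)).symm).zpow_left i).eq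
    refine not_dvd_index ht hRp hRH honly ?_
    set C := (centralizer ({s} : Set G)).subgroupOf W with hC
    have hrC : r ∣ C.index := by
      haveI := Cfsg.pCore_normal r W
      refine dvd_index_of_not_le (R := Cfsg.pCore r W) CfsgLib.PCore.pCore_isPGroup fun hle => ?_
      obtain ⟨y', hy', rfl⟩ := hy
      exact hsy (mem_centralizer_singleton_iff.1 (mem_subgroupOf.1 (hle hy'))).symm
    have hcard : Nat.card (W ⊓ centralizer ({s} : Set G) : Subgroup G) = Nat.card C := by
      rw [hC, ← inf_subgroupOf_left]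
      exact (Nat.card_congr (subgroupOfEquivOfLe inf_le_left).toEquiv).symm
    have h := hdvd s hs hst
    rw [hcard, ← C.card_mul_index, mul_pow, mul_comm ((centralizer ({t} : Set G)).index)] at h
    exact (hrC.trans (dvd_pow_self _ two_ne_zero)).trans
      (Nat.dvd_of_mul_dvd_mul_left (pow_pos Nat.card_pos 2) h)
  -- the whole core
  intro w hw s hs
  haveI : Group.IsSolvable W := CfsgLib.PF.oddSolvable _ (odd_card_coreIn H)
  have hs2 := hel s hs
  have hsi : s⁻¹ = s := inv_eq_of_mul_eq_one_right hs2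
  have hsW : ∀ x ∈ W, s * x * s ∈ W := fun x hx => by simpa [hsi] using hWn s (hSH hs) x hx
  have hsF : ∀ f ∈ Cfsg.fittingSubgroup W, s * (f : G) = (f : G) * s := by
    have : Cfsg.fittingSubgroup W ≤ (centralizer ({s} : Set G)).subgroupOf W := by
      rw [CfsgLib.Fitting.fitting_eq_iSup_pCore]
      exact iSup_le fun r y hy => mem_subgroupOf.2 (mem_centralizer_singleton_iff.2
        (hR r (Nat.prime_of_mem_primeFactors r.2) y ⟨y, hy, rfl⟩ s hs).symm)
    exact fun f hf => (mem_centralizer_singleton_iff.1 (mem_subgroupOf.1 (this hf))).symm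
  set c : W := ⟨w, hw⟩⁻¹ * ⟨s * w * s, hsW w hw⟩ with hc
  have hcF : c ∈ Cfsg.fittingSubgroup W := by
    refine CfsgLib.Fitting.centralizer_fitting_le (mem_centralizer_iff.2 fun f hf => Subtype.ext ?_)
    have hfn : (⟨w, hw⟩ : W) * f * (⟨w, hw⟩ : W)⁻¹ ∈ Cfsg.fittingSubgroup W :=
      CfsgLib.Fitting.fitting_normal.conj_mem f hf _
    have h1 := hsF _ hfn
    have h2 := hsF _ hf
    simp only [Subgroup.coe_mul, InvMemClass.coe_inv, hc] at h1 ⊢
    calc (f : G) * (w⁻¹ * (s * w * s)) = w⁻¹ * (w * f * w⁻¹ * s) * w * s := by group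
      _ = w⁻¹ * (s * (w * f * w⁻¹)) * w * s := by rw [← h1]
      _ = w⁻¹ * s * w * ((f : G) * s) := by group
      _ = w⁻¹ * (s * w * s) * (f : G) := by rw [← h2]; group
  have hcs := hsF _ hcF
  have hodd : Odd (orderOf c) := (odd_card_coreIn H).of_dvd_nat (orderOf_dvd_natCard c)
  have hcc : (c : G) * (c : G) = 1 := by
    have e : s * (c : G) * s = (c : G)⁻¹ := by
      simp only [hc, Subgroup.coe_mul, InvMemClass.coe_inv, mul_inv_rev, inv_inv, hsi]
      calc s * (w⁻¹ * (s * w * s)) * s = s * w⁻¹ * s * w * (s * s) := by group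
        _ = s * (w⁻¹ * s) * w := by rw [hs2]; group
        _ = _ := by group
    rw [hcs, mul_assoc, hs2, mul_one] at e
    exact eq_inv_iff_mul_eq_one.1 e
  have hc1 : c = 1 := CfsgLib.RankOneInvol.eq_one_of_sq_of_odd hodd (Subtype.ext hcc)
  have h3 : s * w * s = w := by
    have := congrArg Subtype.val hc1
    simp only [hc, Subgroup.coe_mul, InvMemClass.coe_inv, OneMemClass.coe_one] at this
    exact (inv_mul_eq_one.1 this).symm
  calc s * w = s * w * s * s := by rw [mul_assoc _ s s, hs2, mul_one]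
    _ = w * s := by rw [h3]

/-- The centraliser of the involution `b` maps onto a group over `PSL₂(q)`, `S` onto a four-group
meeting it in the images of `t` and `v`. -/
structure Bar (S : Subgroup G) (b t : G) where
  /-- the model -/
  Y : Type u
  [grp : Group Y]
  [fin : Finite Y]
  /-- the field -/
  F : Type
  [field : Field F]
  [fintype : Fintype F]
  L : Subgroup Y
  /-- the map -/
  π : ↥(centralizer ({b} : Set G)) →* Y
  v : G
  psl : Field.Psl L F
  surj : Function.Surjective π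
  ker : ∀ x, π x = 1 →
    (x : G) ∈ coreIn (centralizer ({b} : Set G)) ∨ (x : G) * b ∈ coreIn (centralizer ({b} : Set G))
  mem_t : t ∈ centralizer ({b} : Set G)
  mem_v : v ∈ centralizer ({b} : Set G)
  v_mem : v ∈ S
  img_t : π ⟨t, mem_t⟩ ∈ L
  img_v : π ⟨v, mem_v⟩ ∈ L
  ord_t : orderOf (π ⟨t, mem_t⟩) = 2
  ord_v : orderOf (π ⟨v, mem_v⟩) = 2
  ne : π ⟨t, mem_t⟩ ≠ π ⟨v, mem_v⟩
  comm : t * v = v * t

/-- Torus elements of the image of `t` lift into `C(t)`. -/
theorem Bar.exists_lift {S : Subgroup G} {b t : G} (hb : orderOf b = 2) (ht : orderOf t = 2)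
    (B : Bar S b t) :
    letI := B.grp
    ∀ τ : B.Y, τ * B.π ⟨t, B.mem_t⟩ = B.π ⟨t, B.mem_t⟩ * τ → Odd (orderOf τ) →
      ∃ k : ↥(centralizer ({b} : Set G)), B.π k = τ ∧ (k : G) * t = t * (k : G) := by
  letI := B.grp
  intro τ hτ hodd
  set K := centralizer ({b} : Set G) with hK
  obtain ⟨k0, hk0⟩ := B.surj τ
  -- an odd lift
  obtain ⟨k, hk, hko⟩ : ∃ k : K, B.π k = τ ∧ Odd (orderOf k) := by
    obtain ⟨a, m, hm, hcard⟩ := Nat.exists_eq_two_pow_mul_odd (orderOf_pos k0).ne'
    have hcop : (2 ^ a).Coprime (orderOf τ) := (Nat.coprime_two_left.2 hodd).pow_left a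
    obtain ⟨j, hj⟩ := exists_pow_eq_self_of_coprime hcop
    refine ⟨(k0 ^ 2 ^ a) ^ j, by rw [map_pow, map_pow, hk0, hj], ?_⟩
    refine Odd.of_dvd_nat hm (orderOf_dvd_of_pow_eq_one ?_)
    rw [← pow_mul, ← pow_mul, show 2 ^ a * (j * m) = orderOf k0 * j by rw [hcard]; ring, pow_mul,
      pow_orderOf_eq_one, one_pow]
  set tK : K := ⟨t, B.mem_t⟩ with htK
  have ht2 : t * t = 1 := (Involutions.orderOf_eq_two_iff_mul.1 ht).2
  have htK2 : tK * tK = 1 := Subtype.ext ht2
  have hti : tK⁻¹ = tK := inv_eq_of_mul_eq_one_right htK2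
  set c : K := tK * (k * tK * k⁻¹) with hc
  have hcπ : B.π c = 1 := by
    have h1 : B.π k * B.π tK * (B.π k)⁻¹ = B.π tK := by rw [hk, hτ, mul_inv_cancel_right]
    rw [hc, map_mul, map_mul, map_mul, map_inv, h1, ← map_mul, htK2, map_one]
  haveI hOn : (Cfsg.oddCore ↥K).Normal := inferInstance
  set q := QuotientGroup.mk' (Cfsg.oddCore ↥K) with hq
  have hmem : ∀ x : K, (x : G) ∈ coreIn K ↔ q x = 1 := fun x => by
    rw [hq, ← MonoidHom.mem_ker, QuotientGroup.ker_mk']
    exact ⟨fun ⟨y, hy, e⟩ => (Subtype.ext e : y = x) ▸ hy, fun h => ⟨x, h, rfl⟩⟩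
  have hb2 := Involutions.orderOf_eq_two_iff_mul.1 hb
  set bK : K := ⟨b, mem_centralizer_singleton_iff.2 rfl⟩ with hbK
  have hbK2 : bK * bK = 1 := Subtype.ext hb2.2
  have hbc : ∀ x : K, Commute x bK := fun x => Subtype.ext (mem_centralizer_singleton_iff.1 x.2)
  have hcO : q c = 1 := by
    rcases B.ker c hcπ with h | h
    · exact (hmem c).1 h
    exfalso
    have h1 : q c * q bK = 1 := by
      rw [← map_mul]; exact (hmem (c * bK)).1 h
    have hcb : q c = q bK := by
      rw [eq_inv_of_mul_eq_one_left h1, ← map_inv, inv_eq_of_mul_eq_one_right hbK2]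
    have hstep : q k * q tK * (q k)⁻¹ = q tK * q bK := by
      rw [← hcb, ← map_mul q tK c, hc, ← mul_assoc tK, htK2, one_mul, map_mul, map_mul, map_inv]
    have hfix : q k * q bK * (q k)⁻¹ = q bK := by
      rw [← map_mul, (hbc k).eq, map_mul, mul_inv_cancel_right]
    have hm := CfsgLib.GW.Field.conj_iterate hstep hfix (orderOf k)
    rw [← map_pow, pow_orderOf_eq_one, map_one, one_mul, inv_one, mul_one] at hm
    obtain ⟨i, hi⟩ := hko
    rw [hi, pow_succ, pow_mul, pow_two, ← map_mul q bK, hbK2, map_one, one_pow, one_mul,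
      left_eq_mul] at hm
    have hbO : b ∈ coreIn K := (hmem bK).2 hm
    have := (odd_card_coreIn K).of_dvd_nat (orderOf_dvd_natCard (⟨b, hbO⟩ : coreIn K))
    rw [Subgroup.orderOf_mk, hb] at this
    exact absurd this (by decide)
  -- correct the lift
  have hcodd : Odd (orderOf c) := by
    rw [← Subgroup.orderOf_coe]
    have := (odd_card_coreIn K).of_dvd_nat
      (orderOf_dvd_natCard (⟨(c : G), (hmem c).2 hcO⟩ : coreIn K))
    rwa [Subgroup.orderOf_mk] at this
  obtain ⟨i, hi⟩ := CfsgLib.RankOneInvol.exists_pow_sq_eq hcodd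
  have hct : tK * c * tK = c⁻¹ := by
    rw [hc, ← mul_assoc tK tK, htK2, one_mul, mul_inv_rev, mul_inv_rev, mul_inv_rev, inv_inv, hti]
    group
  set d := c ^ i with hd
  have hdd : d * d = c := by
    exact hi
  have hdt : tK * d * tK = d⁻¹ := by
    have : MulAut.conj tK (c ^ i) = (MulAut.conj tK c) ^ i := map_pow _ _ _
    simp only [MulAut.conj_apply, hti, hct] at this
    rw [hd, this, inv_pow]
  refine ⟨d * k, ?_, ?_⟩
  · rw [map_mul, hk, hd, map_pow, hcπ, one_pow, one_mul]
  · refine congrArg Subtype.val (?_ : d * k * tK = tK * (d * k))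
    calc d * k * tK = d * (tK * c) * k := by rw [hc, ← mul_assoc tK tK, htK2, one_mul]; group
      _ = d * tK * (d * d) * k := by rw [hdd]; group
      _ = d * (tK * d * tK) * tK * d * k := by
          rw [show d * (tK * d * tK) * tK = d * tK * d * (tK * tK) from by group, htK2]; group
      _ = tK * (d * k) := by rw [hdt]; group

/-- Step 4: a subgroup of odd order centralised by `S` and normalised by `C(t)` lies in the core of
`C(b)`. -/
theorem le_core {S : Subgroup G} {b t : G} (hb : orderOf b = 2) (ht : orderOf t = 2)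
    (hbS : b ∈ S) (htS : t ∈ S) (B : Bar S b t) {W : Subgroup G} (hW : Odd (Nat.card W))
    (hWS : ∀ w ∈ W, ∀ s ∈ S, s * w = w * s)
    (hn : ∀ h ∈ centralizer ({t} : Set G), ∀ w ∈ W, h * w * h⁻¹ ∈ W) :
    W ≤ coreIn (centralizer ({b} : Set G)) := by
  letI := B.grp
  letI := B.fin
  letI := B.field
  letI := B.fintype
  intro w hw
  set K := centralizer ({b} : Set G) with hK
  have hWK : W ≤ K := fun x hx => mem_centralizer_singleton_iff.2 (hWS x hx b hbS).symm
  set f : W →* B.Y := B.π.comp (inclusion hWK) with hf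
  have hodd : ∀ x : W, Odd (orderOf (f x)) := fun x =>
    (hW.of_dvd_nat (orderOf_dvd_natCard x)).of_dvd_nat (orderOf_map_dvd f x)
  have hfc : ∀ (x : W) (s : G) (hs : s ∈ S) (hsK : s ∈ K),
      f x * B.π ⟨s, hsK⟩ = B.π ⟨s, hsK⟩ * f x := fun x s hs hsK => by
    rw [hf, MonoidHom.comp_apply, ← map_mul, ← map_mul]
    exact congrArg B.π (Subtype.ext (hWS x x.2 s hs).symm)
  have htv : B.π ⟨t, B.mem_t⟩ * B.π ⟨B.v, B.mem_v⟩ = B.π ⟨B.v, B.mem_v⟩ * B.π ⟨t, B.mem_t⟩ := by
    rw [← map_mul, ← map_mul]; exact congrArg B.π (Subtype.ext B.comm)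
  set x : W := ⟨w, hw⟩ with hx
  have htor : ∀ τ ∈ CfsgLib.GW.Field.torus B.L (B.π ⟨t, B.mem_t⟩), f x * τ = τ * f x := by
    intro τ hτ
    obtain ⟨hτL, hτt, hτo⟩ := (B.psl.mem_torus B.ord_t).1 hτ
    obtain ⟨k, hk, hkt⟩ := B.exists_lift hb ht τ hτt hτo
    let y : W := x⁻¹ * ⟨(k : G) * w * (k : G)⁻¹, hn _ (mem_centralizer_singleton_iff.2 hkt) w hw⟩
    have hy : f y = (f x)⁻¹ * (τ * f x * τ⁻¹) := by
      show B.π (inclusion hWK y) = (B.π (inclusion hWK x))⁻¹ * (τ * B.π (inclusion hWK x) * τ⁻¹)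
      rw [← hk]
      simp only [← map_mul, ← map_inv]
      exact congrArg B.π (Subtype.ext rfl)
    have hyL : f y ∈ B.L := by
      rw [hy, show (f x)⁻¹ * (τ * f x * τ⁻¹) = ((f x)⁻¹ * τ * ((f x)⁻¹)⁻¹) * τ⁻¹ by group]
      exact mul_mem (B.psl.normal.conj_mem τ hτL _) (inv_mem hτL)
    have h1 := B.psl.eq_one_of_mem B.ord_t B.ord_v B.ne htv (hfc y t htS B.mem_t)
      (hfc y B.v B.v_mem B.mem_v) (hodd y) hyL
    rw [hy, inv_mul_eq_one, eq_mul_inv_iff_mul_eq] at h1
    exact h1
  have hxL : f x ∈ B.L := B.psl.torus_le B.ord_t (B.psl.mem_torus_of_centralizes B.ord_t B.ord_v B.ne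
    htv B.img_t B.img_v (hfc x t htS B.mem_t) (hodd x) htor)
  have hfx := B.psl.eq_one_of_mem B.ord_t B.ord_v B.ne htv (hfc x t htS B.mem_t)
    (hfc x B.v B.v_mem B.mem_v) (hodd x) hxL
  rcases B.ker _ hfx with h | h
  · exact h
  exfalso
  have hbo : b * b = 1 := (Involutions.orderOf_eq_two_iff_mul.1 hb).2
  have h2 : Odd (orderOf (w * b)) := by
    have := (odd_card_coreIn K).of_dvd_nat (orderOf_dvd_natCard (⟨w * b, h⟩ : coreIn K))
    rw [← Subgroup.orderOf_coe] at this
    exact this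
  have hwo : Odd (orderOf w) := by
    have := hW.of_dvd_nat (orderOf_dvd_natCard (⟨w, hw⟩ : W))
    rwa [Subgroup.orderOf_mk] at this
  rw [(show Commute w b from (hWS w hw b hbS).symm).orderOf_mul_eq_mul_orderOf_of_coprime
    (hb ▸ (Nat.coprime_two_right.2 hwo)), hb] at h2
  exact Nat.not_even_iff_odd.2 h2 (even_two.mul_left _)

omit [Finite G] in
/-- An involution `t ≠ b` is not centralised by the whole of `C(b)`. -/
theorem centralizer_ne {S : Subgroup G} {b t : G} (B : Bar S b t) :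
    centralizer ({b} : Set G) ≠ centralizer ({t} : Set G) := by
  letI := B.grp
  letI := B.fin
  letI := B.field
  letI := B.fintype
  intro h
  have h1 : B.π ⟨t, B.mem_t⟩ ∈ centralizer (B.L : Set B.Y) := mem_centralizer_iff.2 fun y _ => by
    obtain ⟨k, rfl⟩ := B.surj y
    rw [← map_mul, ← map_mul]
    exact congrArg B.π (Subtype.ext (mem_centralizer_singleton_iff.1 (h ▸ k.2)))
  rw [B.psl.cent, mem_bot] at h1
  have := B.ord_t
  rw [h1, orderOf_one] at this
  exact absurd this (by norm_num)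

/-- Step D: the odd core of `C(t)` is trivial. -/
theorem core_eq_bot [IsSimpleGroup G] (hel : ∀ s ∈ (S : Subgroup G), s * s = 1)
    (hab : ∀ x ∈ (S : Subgroup G), ∀ y ∈ (S : Subgroup G), x * y = y * x)
    {t b : G} (ht : orderOf t = 2) (hb : orderOf b = 2)
    (htS : t ∈ (S : Subgroup G)) (hbS : b ∈ (S : Subgroup G))
    (hmax : ∀ v ∈ ({t, b} : Set G), IsCoatom (centralizer ({v} : Set G)))
    (hirr : ∀ v ∈ ({t, b} : Set G), ∀ Y : Subgroup G, Y ≤ (S : Subgroup G) → v ∈ Y →
      (∀ n ∈ normalizer ((S : Subgroup G) : Set G), n * v = v * n → ∀ y ∈ Y, n * y * n⁻¹ ∈ Y) →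
        Y ≤ zpowers v ∨ (S : Subgroup G) ≤ Y)
    (hdvd : ∀ v ∈ ({t, b} : Set G), ∀ s ∈ (S : Subgroup G), s ∉ zpowers v →
      Nat.card (coreIn (centralizer ({v} : Set G))) ^ 2 ∣ (centralizer ({v} : Set G)).index *
        Nat.card (coreIn (centralizer ({v} : Set G)) ⊓ centralizer ({s} : Set G) : Subgroup G) ^ 2)
    (Bb : Bar (S : Subgroup G) b t) (Bt : Bar (S : Subgroup G) t b) :
    coreIn (centralizer ({t} : Set G)) = ⊥ := by
  set W := coreIn (centralizer ({t} : Set G)) with hW
  have hct := commute_core S hel hab ht htS (hmax t (Or.inl rfl)) (hirr t (Or.inl rfl))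
    (hdvd t (Or.inl rfl))
  have hcb := commute_core S hel hab hb hbS (hmax b (Or.inr rfl)) (hirr b (Or.inr rfl))
    (hdvd b (Or.inr rfl))
  have hn : ∀ v : G, ∀ h ∈ centralizer ({v} : Set G), ∀ x ∈ coreIn (centralizer ({v} : Set G)),
      h * x * h⁻¹ ∈ coreIn (centralizer ({v} : Set G)) := fun v h hh x hx => conj_mem_coreIn hh hx
  have h1 : W ≤ coreIn (centralizer ({b} : Set G)) :=
    le_core hb ht hbS htS Bb (odd_card_coreIn _) hct (hn t)
  have h2 : coreIn (centralizer ({b} : Set G)) ≤ W :=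
    le_core ht hb htS hbS Bt (odd_card_coreIn _) hcb (hn b)
  by_contra hne
  have hHt : normalizer (W : Set G) = centralizer ({t} : Set G) :=
    Cfsg.Tech46.Bender.normalizer_eq_of_isCoatom (hmax t (Or.inl rfl)) W hne (coreIn_le _)
      (le_normalizer_iff.2 (hn t))
  have hWb : W = coreIn (centralizer ({b} : Set G)) := le_antisymm h1 h2
  have hHb : normalizer (W : Set G) = centralizer ({b} : Set G) :=
    Cfsg.Tech46.Bender.normalizer_eq_of_isCoatom (hmax b (Or.inr rfl)) W hne
      (hWb ▸ coreIn_le _) (hWb ▸ le_normalizer_iff.2 (hn b))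
  exact centralizer_ne Bb (hHb.symm.trans hHt)

omit [Finite G] in
/-- An odd element of `C(v) ∩ N(S)` fixing only `⟨v⟩` in `S` (of order eight) leaves no subgroup
strictly between them. -/
theorem irr_of_rot {S : Subgroup G} (hS : Nat.card S = 8) (hel : ∀ s ∈ S, s * s = 1)
    {v n : G} (hv : v ≠ 1) (hn : n ∈ normalizer (S : Set G)) (hnv : n * v = v * n)
    (hodd : Odd (orderOf n)) (hfix : ∀ s ∈ S, n * s = s * n → s ∈ zpowers v) (Y : Subgroup G)
    (hYS : Y ≤ S) (hvY : v ∈ Y)
    (hinv : ∀ m ∈ normalizer (S : Set G), m * v = v * m → ∀ y ∈ Y, m * y * m⁻¹ ∈ Y) :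
    Y ≤ zpowers v ∨ S ≤ Y := by
  classical
  haveI : Finite S := Nat.finite_of_card_ne_zero (by rw [hS]; norm_num)
  haveI : Finite Y := Finite.of_injective (inclusion hYS) (inclusion_injective hYS)
  refine or_iff_not_imp_right.2 fun hSY y hy => ?_
  by_contra hyv
  have h4 : Nat.card Y ≤ 4 := by
    have hd : Nat.card Y ∣ 2 ^ 3 := by
      have h := card_dvd_of_le hYS
      rwa [hS] at h
    obtain ⟨k, -, hYc⟩ := (Nat.dvd_prime_pow Nat.prime_two).1 hd
    rcases Nat.lt_or_ge k 3 with h | h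
    · exact hYc ▸ Nat.pow_le_pow_right two_pos (Nat.le_of_lt_succ h)
    · refine absurd (eq_of_le_of_card_ge hYS ?_).ge hSY
      rw [hS, hYc]
      exact Nat.pow_le_pow_right two_pos h
  have hy1 : y ≠ 1 := fun e => hyv (e ▸ one_mem _)
  have hyv' : y ≠ v := fun e => hyv (e ▸ mem_zpowers v)
  have hv2 := hel v (hYS hvY)
  have hy2 := hel y (hYS hy)
  have hvy1 : v * y ≠ 1 := fun e => hyv' ((mul_eq_one_iff_eq_inv.1 e).trans
    (inv_eq_of_mul_eq_one_right hy2)).symm
  have hvyv : v * y ≠ v := fun e => hy1 (mul_left_cancel (e.trans (mul_one v).symm))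
  have hvyy : v * y ≠ y := fun e => hv (mul_eq_right.1 e)
  set z := n * y * n⁻¹ with hz
  have hzY : z ∈ Y := hinv n hn hnv y hy
  have hz1 : z ≠ 1 := fun e => hy1 (conj_eq_one_iff.1 e)
  have hzv : z ≠ v := fun e => hyv' (by
    calc y = n⁻¹ * z * n := by rw [hz]; group
      _ = n⁻¹ * (v * n) := by rw [e, mul_assoc]
      _ = v := by rw [← hnv, inv_mul_cancel_left])
  have hzy : z ≠ y := fun e => hyv (hfix y (hYS hy) (mul_inv_eq_iff_eq_mul.1 e))
  have hzvy : z = v * y := by
    by_contra hne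
    let f : Fin 5 → Y := ![1, ⟨v, hvY⟩, ⟨y, hy⟩, ⟨v * y, Y.mul_mem hvY hy⟩, ⟨z, hzY⟩]
    have hf : Function.Injective f := by
      intro i j hij
      have h := congrArg Subtype.val hij
      clear_value z
      clear hz
      fin_cases i <;> fin_cases j <;> first
        | rfl
        | (simp [f] at h; first
            | exact absurd h hv | exact absurd h.symm hv | exact absurd h hy1 | exact absurd h.symm hy1
            | exact absurd h hvy1 | exact absurd h.symm hvy1 | exact absurd h hz1 | exact absurd h.symm hz1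
            | exact absurd h hyv' | exact absurd h.symm hyv' | exact absurd h hvyv | exact absurd h.symm hvyv
            | exact absurd h hvyy | exact absurd h.symm hvyy | exact absurd h hzv | exact absurd h.symm hzv
            | exact absurd h hzy | exact absurd h.symm hzy | exact absurd h hne | exact absurd h.symm hne)
    have h5 := Nat.card_le_card_of_injective f hf
    rw [Nat.card_fin] at h5
    omega
  refine hyv (hfix y (hYS hy) ?_)
  obtain ⟨i, hi⟩ := hodd
  have h2 : Commute (n * n) y := by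
    refine mul_inv_eq_iff_eq_mul.1 (?_ : n * n * y * (n * n)⁻¹ = y)
    calc n * n * y * (n * n)⁻¹ = n * z * n⁻¹ := by rw [hz]; group
      _ = n * (v * y) * n⁻¹ := by rw [hzvy]
      _ = n * v * n⁻¹ * (n * y * n⁻¹) := by group
      _ = v * (v * y) := by rw [hnv, mul_inv_cancel_right]; exact congrArg (v * ·) hzvy
      _ = y := by rw [← mul_assoc, hv2, one_mul]
  have h3 := h2.pow_left (i + 1)
  rw [← pow_two, ← pow_mul, show 2 * (i + 1) = orderOf n + 1 by omega, pow_succ,
    pow_orderOf_eq_one, one_mul] at h3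
  exact h3

end CfsgLib.Walter.CoreTrivial
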