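import Cfsg.Agent.Lib.Walter.Setup
import Cfsg.Agent.Lib.Walter.CoreTrivial

/-!
Walter, rank three: the odd core of `C(t)` is trivial once the centralisers of involutions are maximal
and the order formula holds (adapter from the local structure to `CoreTrivial`).
-/

set_option autoImplicit false
set_option linter.style.haveILetI false

namespace CfsgLib.Walter

open Subgroup CfsgLib.GW

universe u

variable {G : Type u} [Group G] [Finite G] {E : Setup G}

/-- A rotation: an odd element of `C(v) ∩ N(S)` fixing only `⟨v⟩` in `S`. -/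
theorem Local.exists_rotation (hloc : Local E) {v : G} (hv : v ∈ (E.S : Subgroup G)) (hv1 : v ≠ 1) :
    ∃ n ∈ normalizer ((E.S : Subgroup G) : Set G), n * v = v * n ∧ Odd (orderOf n) ∧
      ∀ s ∈ (E.S : Subgroup G), n * s = s * n → s ∈ zpowers v := by
  classical
  set S : Subgroup G := (E.S : Subgroup G) with hS
  set N := normalizer (S : Set G) with hN
  set C := centralizer (S : Set G) with hC
  set M := N ⊓ centralizer ({v} : Set G) with hM
  have hCM : C ≤ M := le_inf (centralizer_le_normalizer _) (fun x hx =>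
    mem_centralizer_singleton_iff.2 (mem_centralizer_iff.1 hx v hv).symm)
  -- the orbit of `v` has seven points
  have h7 : M.relIndex N = 7 := by
    let T := {x : G // x ∈ S ∧ x ≠ 1}
    have hT : Nat.card T = 7 := by
      have e : Nat.card T = Nat.card {x : S // x ≠ 1} := Nat.card_congr
        { toFun := fun x => ⟨⟨x.1, x.2.1⟩, fun e => x.2.2 (congrArg Subtype.val e)⟩
          invFun := fun x => ⟨x.1.1, x.1.2, fun e => x.2 (Subtype.ext e)⟩
          left_inv := fun x => rfl
          right_inv := fun x => rfl }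
      haveI := Fintype.ofFinite S
      rw [e, Nat.card_eq_fintype_card, Fintype.card_subtype_compl, Fintype.card_subtype_eq,
        ← Nat.card_eq_fintype_card, E.card_S]
    let g : N → T := fun n => ⟨(n : G) * v * (n : G)⁻¹,
      (mem_normalizer_iff.1 n.2 v).1 hv, fun e => hv1 (conj_eq_one_iff.1 e)⟩
    have hg : ∀ a b : N, g a = g b ↔ a⁻¹ * b ∈ M.subgroupOf N := by
      intro a b
      rw [mem_subgroupOf, hM, mem_inf, Subgroup.coe_mul, InvMemClass.coe_inv,
        and_iff_right (mul_mem (inv_mem a.2) b.2), mem_centralizer_singleton_iff]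
      constructor
      · intro h
        have h' : (a : G) * v * (a : G)⁻¹ = (b : G) * v * (b : G)⁻¹ := congrArg Subtype.val h
        calc (a : G)⁻¹ * b * v = (a : G)⁻¹ * ((b : G) * v * (b : G)⁻¹) * b := by group
          _ = v * ((a : G)⁻¹ * b) := by rw [← h']; group
      · intro h
        refine Subtype.ext ?_
        show (a : G) * v * (a : G)⁻¹ = (b : G) * v * (b : G)⁻¹
        calc (a : G) * v * (a : G)⁻¹ = (a : G) * (v * ((a : G)⁻¹ * b)) * (b : G)⁻¹ := by group
          _ = (b : G) * v * (b : G)⁻¹ := by rw [← h]; group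
    rw [relIndex, index_eq_card]
    refine (Nat.card_eq_of_bijective
      (Quotient.lift g fun a b hab => (hg a b).2 (QuotientGroup.leftRel_apply.1 hab)) ⟨?_, ?_⟩).trans hT
    · rintro ⟨a⟩ ⟨b⟩ h
      exact QuotientGroup.eq.2 ((hg a b).1 h)
    · rintro ⟨x, hx, hx1⟩
      obtain ⟨n, hn, e⟩ := hloc.fuse v hv x hx hv1 hx1
      exact ⟨Quotient.mk _ ⟨n, hn⟩, Subtype.ext e⟩
  have h3 : C.relIndex M = 3 := by
    have h := relIndex_mul_relIndex C M N hCM inf_le_left
    rw [h7, hloc.auto] at h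
    omega
  haveI hCn : (C.subgroupOf M).Normal := (normal_subgroupOf_iff_le_normalizer hCM).2
    (le_normalizer_iff.2 fun m hm c hc => mem_centralizer_iff.2 fun x hx => by
      have hx' := (mem_normalizer_iff.1 (inv_mem (mem_inf.1 hm).1) x).1 hx
      rw [inv_inv] at hx'
      have := mem_centralizer_iff.1 hc _ hx'
      calc x * (m * c * m⁻¹) = m * (m⁻¹ * x * m * c) * m⁻¹ := by group
        _ = m * c * m⁻¹ * x := by rw [this]; group)
  obtain ⟨x, hxM, hxC⟩ : ∃ x ∈ M, x ∉ C := by
    by_contra h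
    push Not at h
    have := relIndex_eq_one.2 (show M ≤ C from h)
    omega
  have hpow : ∀ y ∈ M, y ^ 3 ∈ C := fun y hy => by
    have := (C.subgroupOf M).pow_index_mem (⟨y, hy⟩ : M)
    rw [← relIndex, h3] at this
    exact mem_subgroupOf.1 this
  obtain ⟨a, m, hm, hord⟩ := Nat.exists_eq_two_pow_mul_odd (orderOf_pos x).ne'
  set n := x ^ 2 ^ a with hn
  have hnM : n ∈ M := pow_mem hxM _
  have hno : Odd (orderOf n) := by
    refine hm.of_dvd_nat (orderOf_dvd_of_pow_eq_one ?_)
    rw [hn, ← pow_mul, ← hord, pow_orderOf_eq_one]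
  have hnC : n ∉ C := fun h => by
    obtain ⟨i, j, hij⟩ : ∃ i j : ℤ, i * (2 ^ a : ℕ) + j * 3 = 1 :=
      Nat.isCoprime_iff_coprime.2 ((Nat.Coprime.pow_left a (by norm_num : Nat.Coprime 2 3)))
    apply hxC
    rw [← zpow_one x, ← hij, zpow_add, mul_comm i, mul_comm j, zpow_mul, zpow_mul, zpow_natCast]
    refine mul_mem (zpow_mem h i) (zpow_mem ?_ j)
    exact_mod_cast hpow x hxM
  obtain ⟨hnN, hnv⟩ := mem_inf.1 hnM
  have hnv' := mem_centralizer_singleton_iff.1 hnv
  refine ⟨n, hnN, hnv', hno, fun s hs hns => ?_⟩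
  -- fixed points of the permutation of order three
  let σ : Equiv.Perm S :=
    { toFun := fun z => ⟨n * z * n⁻¹, (mem_normalizer_iff.1 hnN z).1 z.2⟩
      invFun := fun z => ⟨n⁻¹ * z * n, by simpa using (mem_normalizer_iff.1 (inv_mem hnN) z).1 z.2⟩
      left_inv := fun z => Subtype.ext (by simp [mul_assoc])
      right_inv := fun z => Subtype.ext (by simp [mul_assoc]) }
  let f : Function.End S := fun z => σ z
  have hσ : f ^ 3 ^ 1 = 1 := by
    refine funext fun z => Subtype.ext ?_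
    show n * (n * (n * (z : G) * n⁻¹) * n⁻¹) * n⁻¹ = z
    have h := mem_centralizer_iff.1 (hpow n hnM) z z.2
    calc n * (n * (n * (z : G) * n⁻¹) * n⁻¹) * n⁻¹ = n ^ 3 * z * (n ^ 3)⁻¹ := by
          simp only [pow_succ, pow_zero, one_mul, mul_inv_rev, mul_assoc]
      _ = z := by rw [← h, mul_inv_cancel_right]
  let Fx : Subgroup G := S ⊓ centralizer ({n} : Set G)
  haveI : Fact (Nat.Prime 3) := ⟨Nat.prime_three⟩
  haveI := Fintype.ofFinite S
  have hcount : Nat.card Fx % 3 = 2 := by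
    have h := Equiv.Perm.card_fixedPoints_modEq (α := S) (p := 3) (n := 1) (f := f) hσ
    have e : Nat.card Fx = Nat.card (Function.fixedPoints f) := Nat.card_congr
      { toFun := fun z => ⟨⟨z.1, (mem_inf.1 z.2).1⟩, Subtype.ext (by
          show n * (z : G) * n⁻¹ = z
          rw [← mem_centralizer_singleton_iff.1 (mem_inf.1 z.2).2, mul_inv_cancel_right])⟩
        invFun := fun z => ⟨z.1.1, mem_inf.2 ⟨z.1.2, mem_centralizer_singleton_iff.2 (by
          have := congrArg Subtype.val z.2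
          exact (mul_inv_eq_iff_eq_mul.1 this).symm)⟩⟩
        left_inv := fun z => rfl
        right_inv := fun z => rfl }
    rw [e, Nat.card_eq_fintype_card, ← h, ← Nat.card_eq_fintype_card, E.card_S]
  have hdvd : Nat.card Fx ∣ 8 := E.card_S ▸ card_dvd_of_le inf_le_left
  have hsF : s ∈ Fx := mem_inf.2 ⟨hs, mem_centralizer_singleton_iff.2 hns.symm⟩
  have hle : Nat.card Fx ≤ 2 := by
    have h8 := Nat.le_of_dvd (by norm_num) hdvd
    by_contra h
    push Not at h
    have : Nat.card Fx = 8 := by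
      interval_cases hF : Nat.card Fx <;> omega
    have hSF : Fx = S := eq_of_le_of_card_ge inf_le_left (by rw [this]; exact E.card_S.le)
    exact hnC (mem_centralizer_iff.2 fun z hz =>
      mem_centralizer_singleton_iff.1 (mem_inf.1 (hSF.symm ▸ hz : z ∈ Fx)).2)
  have hvF : zpowers v ≤ Fx :=
    zpowers_le.2 (mem_inf.2 ⟨hv, mem_centralizer_singleton_iff.2 hnv'.symm⟩)
  have := eq_of_le_of_card_ge hvF (by rw [Nat.card_zpowers, E.orderOf_eq_two hv hv1]; exact hle)
  exact this ▸ hsF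

/-- The shape of `C(b)` gives the data used by `CoreTrivial`. -/
theorem Local.exists_bar (hloc : Local E) {b t : G} (hb : b ∈ (E.S : Subgroup G)) (hb1 : b ≠ 1)
    (ht : t ∈ (E.S : Subgroup G)) (ht1 : t ≠ 1) (hne : t ≠ b) :
    Nonempty (CoreTrivial.Bar (E.S : Subgroup G) b t) := by
  classical
  obtain ⟨Sh⟩ := hloc.shape b hb hb1
  letI := Sh.grp
  letI := Sh.fin
  letI := Sh.field
  letI := Sh.fintype
  haveI := Fintype.ofFinite G
  obtain ⟨v, hv, hv'⟩ : ∃ v ∈ (E.S : Subgroup G), v ∉ ({1, b, t, t * b} : Finset G) := by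
    by_contra h
    push Not at h
    have h1 : Nat.card (E.S : Subgroup G) ≤ ({1, b, t, t * b} : Finset G).card := by
      rw [← Nat.card_eq_finsetCard]
      exact Nat.card_le_card_of_injective
        (fun x : (E.S : Subgroup G) => (⟨x.1, h x.1 x.2⟩ : ({1, b, t, t * b} : Finset G)))
        fun x y e => Subtype.ext (congrArg (fun z : ({1, b, t, t * b} : Finset G) => (z : G)) e :)
    rw [E.card_S] at h1
    have := h1.trans Finset.card_le_four
    omega
  simp only [Finset.mem_insert, Finset.mem_singleton, not_or] at hv'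
  obtain ⟨hv1, hvb, hvt, hvtb⟩ := hv'
  have hord : ∀ (x : G) (hx : x ∈ (E.S : Subgroup G)), x ≠ 1 → x ≠ b →
      orderOf (Sh.π ⟨x, Sh.le hx⟩) = 2 := by
    intro x hx hx1 hxb
    refine orderOf_eq_prime ?_ fun e => (Sh.ker_S x hx e).elim hx1 hxb
    rw [← map_pow, show (⟨x, Sh.le hx⟩ : centralizer ({b} : Set G)) ^ 2 = 1 from
      Subtype.ext (by simpa [pow_two] using E.sq x hx), map_one]
  refine ⟨{ Y := Sh.Y, F := Sh.F, L := Sh.L, π := Sh.π, v := v, psl := Sh.psl, surj := Sh.surj,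
            ker := fun x hx => (Sh.ker x).1 hx, mem_t := Sh.le ht, mem_v := Sh.le hv, v_mem := hv,
            img_t := Sh.img t ht, img_v := Sh.img v hv, ord_t := hord t ht ht1 hne,
            ord_v := hord v hv hv1 hvb, ne := ?_, comm := E.comm ht hv }⟩
  intro e
  have hti : t⁻¹ = t := inv_eq_of_mul_eq_one_right (E.sq t ht)
  have h1 : Sh.π ⟨t⁻¹ * v, Sh.le (mul_mem (inv_mem ht) hv)⟩ = 1 := by
    rw [show (⟨t⁻¹ * v, Sh.le (mul_mem (inv_mem ht) hv)⟩ : centralizer ({b} : Set G)) =
      ⟨t, Sh.le ht⟩⁻¹ * ⟨v, Sh.le hv⟩ from Subtype.ext rfl, map_mul, map_inv, e, inv_mul_cancel]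
  rcases Sh.ker_S _ (mul_mem (inv_mem ht) hv) h1 with h | h
  · exact hvt (inv_mul_eq_one.1 h).symm
  · exact hvtb (inv_mul_eq_iff_eq_mul.1 h)

/-- Step D for a `Setup`: maximal centralisers and the order formula give `O(C(t)) = 1`. -/
theorem Setup.W_eq_bot (E : Setup G) (hloc : Local E)
    (hmax : ∀ v ∈ (E.S : Subgroup G), v ≠ 1 → IsCoatom (centralizer ({v} : Set G)))
    (hdvd : ∀ v ∈ (E.S : Subgroup G), v ≠ 1 → ∀ s ∈ (E.S : Subgroup G), s ∉ zpowers v →
      Nat.card (coreIn (centralizer ({v} : Set G))) ^ 2 ∣ (centralizer ({v} : Set G)).index *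
        Nat.card (coreIn (centralizer ({v} : Set G)) ⊓ centralizer ({s} : Set G) : Subgroup G) ^ 2) :
    E.W = ⊥ := by
  haveI := E.simple
  obtain ⟨b, hb, hbt⟩ : ∃ b ∈ (E.S : Subgroup G), b ∉ zpowers E.t := by
    by_contra h
    push Not at h
    have := (card_dvd_of_le h)
    rw [E.card_S, Nat.card_zpowers, E.orderOf_t] at this
    norm_num at this
  have hb1 : b ≠ 1 := fun e => hbt (e ▸ one_mem _)
  have hne : E.t ≠ b := fun e => hbt (e ▸ mem_zpowers _)
  obtain ⟨Bb⟩ := hloc.exists_bar hb hb1 E.mem E.ne hne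
  obtain ⟨Bt⟩ := hloc.exists_bar E.mem E.ne hb hb1 hne.symm
  have hmem : ∀ v ∈ ({E.t, b} : Set G), v ∈ (E.S : Subgroup G) ∧ v ≠ 1 := by
    rintro v (rfl | rfl)
    exacts [⟨E.mem, E.ne⟩, ⟨hb, hb1⟩]
  exact CoreTrivial.core_eq_bot E.S E.sq (fun x hx y hy => E.comm hx hy) E.orderOf_t
    (E.orderOf_eq_two hb hb1) E.mem hb (fun v hv => hmax v (hmem v hv).1 (hmem v hv).2)
    (fun v hv Y hY hvY hinv => by
      obtain ⟨n, hn, hnv, hno, hfix⟩ := hloc.exists_rotation (hmem v hv).1 (hmem v hv).2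
      exact CoreTrivial.irr_of_rot E.card_S E.sq (hmem v hv).2 hn hnv hno hfix Y hY hvY hinv)
    (fun v hv => hdvd v (hmem v hv).1 (hmem v hv).2) Bb Bt

end CfsgLib.Walter
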