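import Cfsg.Agent.Lib.Walter.FieldTransfer
import Cfsg.Agent.Lib.SmallRee.SylowTwo

/-!
# The transfer theorem for a centralizer with socle `L₂(q)`

`C(t)` has a normal `L ≅ L₂(q)`, `q ≡ 3, 5 (mod 8)`, with `L ⟨t⟩` of odd index and abelian quotient.
Then every prime dividing `|C(t) : L⟨t⟩|` divides `|G : C(t)|`.
-/

set_option autoImplicit false
set_option linter.unusedSectionVars false

namespace CfsgLib.Walter

open Subgroup

universe u v

variable {G : Type u} [Group G] [Finite G] {F : Type v} [Field F] [Fintype F]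

theorem dvd_index_of_psl_socle [IsSimpleGroup G] (hnc : ¬ IsMulCommutative G) (S : Sylow 2 G) {t : G}
    (hS8 : Nat.card (S : Subgroup G) = 8) (hSe : ∀ s ∈ (S : Subgroup G), s * s = 1)
    (htS : t ∈ (S : Subgroup G)) (ht : orderOf t = 2)
    (htr : ∀ x ∈ (S : Subgroup G), orderOf x = 2 →
      ∃ n ∈ normalizer ((S : Subgroup G) : Set G), n * t * n⁻¹ = x)
    {L : Subgroup G} (hLC : L ≤ centralizer ({t} : Set G))
    (hLn : ∀ h ∈ centralizer ({t} : Set G), ∀ k ∈ L, h * k * h⁻¹ ∈ L)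
    (e : L ≃* Matrix.ProjectiveSpecialLinearGroup (Fin 2) F) (h4 : 4 ≤ Fintype.card F)
    (h8 : Fintype.card F % 8 = 3 ∨ Fintype.card F % 8 = 5)
    (hab : ∀ x ∈ centralizer ({t} : Set G), ∀ y ∈ centralizer ({t} : Set G),
      x * y * x⁻¹ * y⁻¹ ∈ L ⊔ zpowers t)
    (hodd : Odd ((L ⊔ zpowers t).relIndex (centralizer ({t} : Set G))))
    {l : ℕ} (hl : l.Prime) (hlK : l ∣ (L ⊔ zpowers t).relIndex (centralizer ({t} : Set G))) :
    l ∣ (centralizer ({t} : Set G)).index := by
  classical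
  have : Fact (Nat.Prime 2) := ⟨Nat.prime_two⟩
  set C := centralizer ({t} : Set G) with hCdef
  set N := normalizer ((S : Subgroup G) : Set G) with hNdef
  set A := centralizer ((S : Subgroup G) : Set G) with hAdef
  set K := L ⊔ zpowers t with hKdef
  have htt : t * t = 1 := by rw [← pow_two, ← ht]; exact pow_orderOf_eq_one t
  have htC : t ∈ C := mem_centralizer_singleton_iff.2 rfl
  have hcomm : ∀ h ∈ C, h * t = t * h := fun h hh => mem_centralizer_singleton_iff.1 hh
  have hKC : K ≤ C := sup_le hLC (zpowers_le.2 htC)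
  have hti : ∀ z ∈ zpowers t, z = 1 ∨ z = t := fun z hz => by
    obtain ⟨i, rfl⟩ := mem_zpowers_iff.1 hz
    rw [← zpow_mod_orderOf, ht]
    rcases Int.emod_two_eq i with h | h <;> simp [h]
  -- `K = L ∪ L t`
  let K₀ : Subgroup G :=
    { carrier := {x | x ∈ L ∨ x * t ∈ L}
      one_mem' := Or.inl L.one_mem
      mul_mem' := by
        intro x y hx hy
        rcases hx with hx | hx <;> rcases hy with hy | hy
        · exact Or.inl (mul_mem hx hy)
        · exact Or.inr (by rw [mul_assoc]; exact mul_mem hx hy)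
        · refine Or.inr ?_
          rw [mul_assoc, hcomm y (hLC hy), ← mul_assoc]
          exact mul_mem hx hy
        · refine Or.inl ?_
          have e : x * y = x * t * (y * t) := by
            have hyC : y ∈ C := by simpa [mul_assoc, htt] using mul_mem (hLC hy) htC
            rw [mul_assoc x t, ← mul_assoc t, ← hcomm y hyC, mul_assoc y, htt, mul_one]
          rw [e]; exact mul_mem hx hy
      inv_mem' := by
        intro x hx
        rcases hx with hx | hx
        · exact Or.inl (inv_mem hx)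
        · refine Or.inr ?_
          have hxC : x ∈ C := by simpa [mul_assoc, htt] using mul_mem (hLC hx) htC
          have e : x⁻¹ * t = (x * t)⁻¹ := by
            rw [mul_inv_rev, inv_eq_of_mul_eq_one_right htt, hcomm x⁻¹ (inv_mem hxC)]
          rw [e]; exact inv_mem hx }
  have hK0 : ∀ x ∈ K, x ∈ L ∨ x * t ∈ L := fun x hx =>
    (sup_le (a := L) (b := zpowers t) (c := K₀) (fun y hy => Or.inl hy)
      (zpowers_le.2 (Or.inr (by rw [htt]; exact L.one_mem))) hx)
  have hLK : L ≤ K := le_sup_left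
  have htK : t ∈ K := mem_sup_right (mem_zpowers t)
  have hKn : ∀ h ∈ C, ∀ k ∈ K, h * k * h⁻¹ ∈ K := fun h hh k hk => by
    rcases hK0 k hk with h' | h'
    · exact hLK (hLn h hh k h')
    · have e : h * k * h⁻¹ = h * (k * t) * h⁻¹ * (h * t * h⁻¹) := by
        have : h * (k * t) * h⁻¹ * (h * t * h⁻¹) = h * k * (t * t) * h⁻¹ := by group
        rw [this, htt, mul_one]
      rw [e, hcomm h hh, mul_inv_cancel_right]
      exact mul_mem (hLK (hLn h hh _ h')) htK
  have hSab : ∀ x ∈ (S : Subgroup G), ∀ y ∈ (S : Subgroup G), x * y = y * x := fun x hx y hy => by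
    have h1 : ∀ s ∈ (S : Subgroup G), s⁻¹ = s := fun s hs => inv_eq_of_mul_eq_one_right (hSe s hs)
    calc x * y = (x * y)⁻¹ := (h1 _ (mul_mem hx hy)).symm
      _ = y * x := by rw [mul_inv_rev, h1 x hx, h1 y hy]
  have hSC : (S : Subgroup G) ≤ C := fun s hs => mem_centralizer_singleton_iff.2 (hSab s hs t htS)
  have hSA : (S : Subgroup G) ≤ A := fun s hs => mem_centralizer_iff.2 fun x hx => hSab x hx s hs
  have hSK : (S : Subgroup G) ≤ K := fun s hs => by
    set M : Subgroup C := K.subgroupOf C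
    have hMn : M.Normal := ⟨fun k hk h => mem_subgroupOf.2 (hKn h h.2 k (mem_subgroupOf.1 hk))⟩
    by_contra hsK
    have hne : QuotientGroup.mk' M ⟨s, hSC hs⟩ ≠ 1 := fun h =>
      hsK (mem_subgroupOf.1 ((QuotientGroup.eq_one_iff _).1 h))
    have h2 : orderOf (QuotientGroup.mk' M ⟨s, hSC hs⟩) = 2 :=
      orderOf_eq_prime (by rw [← map_pow, show (⟨s, hSC hs⟩ : C) ^ 2 = 1 from
        Subtype.ext (by simpa [pow_two] using hSe s hs), map_one]) hne
    exact Nat.not_even_iff_odd.2 hodd (even_iff_two_dvd.2 (h2 ▸ orderOf_dvd_natCard _))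
  -- `T = S ∩ L`
  set T : Subgroup G := (S : Subgroup G) ⊓ L with hTdef
  have hsplit : ∀ s ∈ (S : Subgroup G), s ∈ T ∨ s * t ∈ T := fun s hs =>
    (hK0 s (hSK hs)).imp (fun h => ⟨hs, h⟩) (fun h => ⟨mul_mem hs htS, h⟩)
  have htL : t ∉ L := fun h => by
    have hz : e ⟨t, h⟩ ∈ center (Matrix.ProjectiveSpecialLinearGroup (Fin 2) F) :=
      mem_center_iff.2 fun y => by
        obtain ⟨y, rfl⟩ := e.surjective y
        rw [← map_mul, ← map_mul]
        exact congrArg e (Subtype.ext (hcomm y (hLC y.2)))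
    rw [CfsgLib.SmallRee.psl_center_eq_bot h4, mem_bot, EmbeddingLike.map_eq_one_iff] at hz
    have : t = 1 := congrArg Subtype.val hz
    simp [this] at ht
  let TL : Subgroup L := T.subgroupOf L
  have hTL2 : IsPGroup 2 (TL.map e.toMonoidHom) :=
    ((S.2.to_le (inf_le_left : T ≤ S)).comap_of_injective L.subtype L.subtype_injective).map _
  obtain ⟨P, hP⟩ := hTL2.exists_le_sylow
  obtain ⟨hcP, hnP⟩ := CfsgLib.SmallRee.psl_klein_normalizer h4 h8 P
  have hP4 : Nat.card (P : Subgroup (Matrix.ProjectiveSpecialLinearGroup (Fin 2) F)) = 4 :=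
    (CfsgLib.ClassicalGroups.SL2.psl_sylow_two_klein rfl h8 P).card_four
  have hT4 : 4 ≤ Nat.card T := by
    have : 8 ≤ Nat.card (T × zpowers t) := by
      rw [← hS8]
      refine Nat.card_le_card_of_surjective (fun p : T × zpowers t => (⟨(p.1 : G) * (p.2 : G),
        mul_mem p.1.2.1 ((zpowers_le.2 htS) p.2.2)⟩ : (S : Subgroup G))) fun s => ?_
      rcases hsplit s s.2 with h | h
      · exact ⟨(⟨s, h⟩, 1), Subtype.ext (mul_one _)⟩
      · exact ⟨(⟨(s : G) * t, h⟩, ⟨t, mem_zpowers t⟩),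
          Subtype.ext (by show (s : G) * t * t = s; rw [mul_assoc, htt, mul_one])⟩
    rw [Nat.card_prod, Nat.card_zpowers, ht] at this
    omega
  have hTP : TL.map e.toMonoidHom = (P : Subgroup (Matrix.ProjectiveSpecialLinearGroup (Fin 2) F)) := by
    refine eq_of_le_of_card_ge hP ?_
    rw [hP4, card_map_of_injective (K := TL) e.injective,
      Nat.card_congr (subgroupOfEquivOfLe (inf_le_right : T ≤ L)).toEquiv]
    exact hT4
  have hmemT : ∀ x : L, (x : G) ∈ T ↔
      e x ∈ (P : Subgroup (Matrix.ProjectiveSpecialLinearGroup (Fin 2) F)) := fun x => by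
    rw [← hTP, mem_map_equiv, MulEquiv.symm_apply_apply, mem_subgroupOf]
  have hCT : ∀ x ∈ L, x ∈ A → x ∈ T := fun x hx hxA => by
    refine (hmemT ⟨x, hx⟩).2 ?_
    rw [← hcP, mem_centralizer_iff]
    intro y hy
    obtain ⟨y, rfl⟩ := e.surjective y
    rw [← map_mul, ← map_mul]
    exact congrArg e (Subtype.ext (mem_centralizer_iff.1 hxA y ((hmemT y).2 hy).1))
  have hKS : K ⊓ A ≤ (S : Subgroup G) := fun x hx => by
    rcases hK0 x hx.1 with h | h
    · exact (hCT x h hx.2).1
    · have := (hCT _ h (mul_mem hx.2 (hSA htS))).1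
      simpa [mul_assoc, htt] using mul_mem this htS
  -- a non-trivial normalizing element of `L`
  obtain ⟨k, hkL, hkN, hkA⟩ : ∃ k ∈ L, k ∈ N ∧ k ∉ A := by
    obtain ⟨y, hy, hyP⟩ : ∃ y ∈ normalizer ((P : Subgroup (Matrix.ProjectiveSpecialLinearGroup (Fin 2) F)) :
        Set (Matrix.ProjectiveSpecialLinearGroup (Fin 2) F)),
        y ∉ (P : Subgroup (Matrix.ProjectiveSpecialLinearGroup (Fin 2) F)) :=
      SetLike.not_le_iff_exists.1 fun (h : normalizer ((P : Subgroup (Matrix.ProjectiveSpecialLinearGroup (Fin 2) F)) : Set (Matrix.ProjectiveSpecialLinearGroup (Fin 2) F)) ≤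
        (P : Subgroup (Matrix.ProjectiveSpecialLinearGroup (Fin 2) F))) => by
        have := card_dvd_of_le h
        rw [hnP, hP4] at this
        norm_num at this
    obtain ⟨y, rfl⟩ := e.surjective y
    have hconj : ∀ x : G, x ∈ T → (y : G) * x * (y : G)⁻¹ ∈ T := fun x hx => by
      have h := (mem_normalizer_iff.1 hy (e ⟨x, hx.2⟩)).1 ((hmemT _).1 hx)
      rw [← map_inv, ← map_mul, ← map_mul] at h
      exact (hmemT _).2 h
    refine ⟨y, y.2, ?_, fun hA => hyP ((hmemT y).1 (hCT y y.2 hA))⟩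
    have hle : ∀ s ∈ (S : Subgroup G), (y : G) * s * (y : G)⁻¹ ∈ (S : Subgroup G) := fun s hs => by
      rcases hsplit s hs with h | h
      · exact (hconj s h).1
      · have h' := mul_mem (hconj _ h).1 htS
        have e2 : (y : G) * (s * t) * (y : G)⁻¹ * t = (y : G) * s * (y : G)⁻¹ := by
          rw [mul_assoc _ (y : G)⁻¹ t, hcomm _ (inv_mem (hLC y.2))]
          calc (y : G) * (s * t) * (t * (y : G)⁻¹) = (y : G) * s * (t * t) * (y : G)⁻¹ := by group
            _ = _ := by rw [htt, mul_one]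
        rwa [e2] at h'
    exact CfsgLib.Walter.mem_normalizer_of_forall hle
  have hNA : ∀ n ∈ N, ∀ c ∈ A, n * c * n⁻¹ ∈ A := fun n hn c hc => mem_centralizer_iff.2 fun s hs => by
    have h := mem_centralizer_iff.1 hc _ ((mem_normalizer_iff''.1 hn s).1 hs)
    calc s * (n * c * n⁻¹) = n * (n⁻¹ * s * n * c) * n⁻¹ := by group
      _ = n * c * n⁻¹ * s := by rw [h]; group
  have hnT : ∀ n ∈ N, n ∈ C → ∀ a ∈ T, n * a * n⁻¹ ∈ T := fun n hn hnC a ha =>
    ⟨(mem_normalizer_iff.1 hn a).1 ha.1, hLn n hnC a ha.2⟩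
  -- an element fixing a point of `T` centralizes `S`
  have hT4' : Nat.card T = 4 := by
    rw [← hP4, ← hTP, card_map_of_injective (K := TL) e.injective,
      Nat.card_congr (subgroupOfEquivOfLe (inf_le_right : T ≤ L)).toEquiv]
  have hfour : ∀ a ∈ T, ∀ b ∈ T, a ≠ 1 → b ≠ 1 → b ≠ a → ∀ c ∈ T,
      c = 1 ∨ c = a ∨ c = b ∨ c = a * b := by
    intro a ha b hb ha1 hb1 hba c hc
    have hab1 : a * b ≠ 1 := fun h => hba (by
      rw [← inv_eq_of_mul_eq_one_right h]; exact inv_eq_of_mul_eq_one_right (hSe a ha.1))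
    let _ : Fintype T := Fintype.ofFinite _
    let U : Finset T := {1, ⟨a, ha⟩, ⟨b, hb⟩, ⟨a * b, mul_mem ha hb⟩}
    have hU : U.card = 4 := by
      simp only [U]
      rw [Finset.card_insert_of_notMem, Finset.card_insert_of_notMem, Finset.card_pair]
      · simp [Subtype.ext_iff, ha1]
      · simp [Subtype.ext_iff, Ne.symm hba, hb1]
      · simp [Subtype.ext_iff, Ne.symm ha1, Ne.symm hb1, Ne.symm hab1]
    have hmem : (⟨c, hc⟩ : T) ∈ U := by
      rw [Finset.eq_univ_of_card U (hU.trans (by rw [← Nat.card_eq_fintype_card, hT4']))]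
      exact Finset.mem_univ _
    simpa [U, Subtype.ext_iff] using hmem
  have hex : ∀ a ∈ T, ∃ b ∈ T, b ≠ 1 ∧ b ≠ a := by
    intro a ha
    by_contra hno
    push Not at hno
    have h2 : T ≤ zpowers a := fun b hb => by
      by_cases h : b = 1
      · rw [h]; exact one_mem _
      · rw [hno b hb h]; exact mem_zpowers a
    have h3 := card_le_of_le h2
    rw [hT4', Nat.card_zpowers] at h3
    have h5 : orderOf a ≤ 2 := Nat.le_of_dvd (by norm_num)
      (orderOf_dvd_of_pow_eq_one (by rw [pow_two]; exact hSe a ha.1))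
    omega
  have hfix : ∀ n ∈ N, n ∈ C → ∀ a ∈ T, a ≠ 1 → n * a * n⁻¹ = a → n ∈ A := by
    intro n hn hnC a ha ha1 hna
    obtain ⟨b, hb, hb1, hba⟩ := hex a ha
    have hinj : ∀ x y : G, n * x * n⁻¹ = n * y * n⁻¹ → x = y := fun x y h => by simpa using h
    have hb' : n * b * n⁻¹ = b ∨ n * b * n⁻¹ = a * b := by
      rcases hfour a ha b hb ha1 hb1 hba _ (hnT n hn hnC b hb) with h | h | h | h
      · exact absurd (conj_eq_one_iff.1 h) hb1
      · exact absurd (hinj b a (h.trans hna.symm)) hba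
      · exact Or.inl h
      · exact Or.inr h
    have hnb : n * b * n⁻¹ = b := by
      refine hb'.resolve_right fun hnb => ?_
      obtain ⟨i, o, ho, hio⟩ := Nat.exists_eq_two_pow_mul_odd (orderOf_pos n).ne'
      have hp : IsPGroup 2 (zpowers (n ^ o)) := by
        refine IsPGroup.of_card (n := i) ?_
        rw [Nat.card_zpowers, orderOf_pow_of_dvd (by rintro rfl; simp at ho) ⟨2 ^ i, by rw [hio]; ring⟩,
          hio, Nat.mul_div_cancel _ ho.pos]
      have hoS : n ^ o ∈ (S : Subgroup G) := by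
        have h2 := S.3 (IsPGroup.to_sup_of_normal_right' hp S.2 (zpowers_le.2 (pow_mem hn o))) le_sup_right
        exact h2 ▸ mem_sup_left (mem_zpowers _)
      have hsq : (n * n) * b * (n * n)⁻¹ = b := by
        calc (n * n) * b * (n * n)⁻¹ = n * (n * b * n⁻¹) * n⁻¹ := by group
          _ = n * (a * b) * n⁻¹ := by rw [hnb]
          _ = (n * a * n⁻¹) * (n * b * n⁻¹) := by group
          _ = a * (a * b) := by rw [hna, hnb]
          _ = b := by rw [← mul_assoc, hSe a ha.1, one_mul]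
      obtain ⟨j, rfl⟩ := ho
      have heven : ∀ j : ℕ, (n * n) ^ j * b * ((n * n) ^ j)⁻¹ = b := fun j => by
        induction j with
        | zero => simp
        | succ j ih =>
          calc (n * n) ^ (j + 1) * b * ((n * n) ^ (j + 1))⁻¹
              = (n * n) ^ j * ((n * n) * b * (n * n)⁻¹) * ((n * n) ^ j)⁻¹ := by rw [pow_succ]; group
            _ = b := by rw [hsq, ih]
      have hodd : n ^ (2 * j + 1) * b * (n ^ (2 * j + 1))⁻¹ = a * b := by
        rw [pow_succ', pow_mul, pow_two]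
        calc n * (n * n) ^ j * b * (n * (n * n) ^ j)⁻¹
            = n * ((n * n) ^ j * b * ((n * n) ^ j)⁻¹) * n⁻¹ := by group
          _ = a * b := by rw [heven, hnb]
      rw [hSab _ hoS b hb.1, mul_inv_cancel_right] at hodd
      exact ha1 (right_eq_mul.1 hodd)
    refine mem_centralizer_iff.2 fun s hs => ?_
    have hTfix : ∀ c ∈ T, n * c * n⁻¹ = c := fun c hc => by
      rcases hfour a ha b hb ha1 hb1 hba c hc with rfl | rfl | rfl | rfl
      · group
      · exact hna
      · exact hnb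
      · rw [← conj_mul, hna, hnb]
    rcases hsplit s hs with h | h
    · exact (mul_inv_eq_iff_eq_mul.1 (hTfix s h)).symm
    · have h' := (mul_inv_eq_iff_eq_mul.1 (hTfix _ h)).symm
      calc s * n = s * t * (t * n) := by rw [← mul_assoc, mul_assoc s t t, htt, mul_one]
        _ = s * t * n * t := by rw [← hcomm n hnC]; group
        _ = n * (s * t * t) := by rw [h']; group
        _ = n * s := by rw [mul_assoc s, htt, mul_one]
  have hkC : k ∈ C := hLC hkL
  refine dvd_index_of_dvd_relIndex hnc hS8 hSe htS ht htr hKC hKn hab hSK hKS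
    ⟨k, hLK hkL, hkN, hkA⟩ (fun n hn hnC => ?_) hl hlK
  obtain ⟨a, ha, ha1⟩ : ∃ a ∈ T, a ≠ 1 := by
    obtain ⟨b, hb, hb1, -⟩ := hex 1 (one_mem _)
    exact ⟨b, hb, hb1⟩
  set b := k * a * k⁻¹ with hbdef
  have hb : b ∈ T := hnT k hkN hkC a ha
  have hb1 : b ≠ 1 := fun h => ha1 (conj_eq_one_iff.1 h)
  have hba : b ≠ a := fun h => hkA (hfix k hkN hkC a ha ha1 h)
  have hkb : k * b * k⁻¹ = a * b := by
    rcases hfour a ha b hb ha1 hb1 hba _ (hnT k hkN hkC b hb) with h | h | h | h
    · exact absurd (conj_eq_one_iff.1 h) hb1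
    · exfalso
      refine hkA (hfix k hkN hkC (a * b) (mul_mem ha hb) (fun h1 => hba ?_) ?_)
      · rw [← inv_eq_of_mul_eq_one_right h1]; exact inv_eq_of_mul_eq_one_right (hSe a ha.1)
      · rw [← conj_mul, h, ← hbdef, hSab b hb.1 a ha.1]
    · exact absurd (hfix k hkN hkC b hb hb1 h) hkA
    · exact h
  obtain ⟨m, hmK, hmN, hm⟩ : ∃ m ∈ K, m ∈ N ∧ m * a * m⁻¹ = n * a * n⁻¹ := by
    rcases hfour a ha b hb ha1 hb1 hba _ (hnT n hn hnC a ha) with h | h | h | h
    · exact absurd (conj_eq_one_iff.1 h) ha1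
    · exact ⟨1, one_mem _, one_mem _, by rw [h]; group⟩
    · exact ⟨k, hLK hkL, hkN, h.symm ▸ hbdef.symm⟩
    · refine ⟨k * k, hLK (mul_mem hkL hkL), mul_mem hkN hkN, ?_⟩
      rw [h, ← hkb, hbdef]; group
  refine ⟨n * m⁻¹, ?_, m, hmK, by group⟩
  have hfix' : m⁻¹ * n ∈ A := hfix _ (mul_mem (inv_mem hmN) hn) (mul_mem (inv_mem (hKC hmK)) hnC) a ha ha1 (by
    calc m⁻¹ * n * a * (m⁻¹ * n)⁻¹ = m⁻¹ * (n * a * n⁻¹) * m := by group
      _ = a := by rw [← hm]; group)
  have h := hNA m hmN _ hfix'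
  rwa [show m * (m⁻¹ * n) * m⁻¹ = n * m⁻¹ by group] at h

end CfsgLib.Walter
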