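import Mathlib.Tactic.FieldSimp
import Mathlib.Tactic.Linarith
import Mathlib.Tactic.LinearCombination
import Mathlib.Algebra.Order.Field.Rat
import Mathlib.Algebra.Order.Field.Basic
import Mathlib.Data.Rat.Lemmas
import Mathlib.Tactic.NormNum
import Mathlib.Tactic.Ring

/-!
# Walter, the field part: the arithmetic

The orbit-summed torus equations for the twisted blocks force the degrees of the principal block,
and the Brauer equation then gives a character of degree one (coord/notes/Walter_field_helper6.md,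
steps 4 and 5).
-/

set_option autoImplicit false

namespace CfsgLib.Walter.FieldArith

/-- The defect of a ratio from one. -/
def dev (x : ℚ) : ℚ := x + 1 / x - 2

theorem dev_eq {x : ℚ} (hx : x ≠ 0) : dev x = (x - 1) ^ 2 / x := by
  unfold dev
  field_simp
  ring

theorem dev_pos {x : ℚ} (hx : 0 < x) : 0 ≤ dev x := by
  rw [dev_eq hx.ne']
  exact div_nonneg (sq_nonneg _) hx.le

theorem dev_neg {x : ℚ} (hx : x < 0) : dev x ≤ -4 := by
  rw [dev_eq hx.ne, div_le_iff_of_neg hx]
  nlinarith [sq_nonneg (x + 1)]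

theorem eq_one_of_dev {x : ℚ} (hx : x ≠ 0) (h : dev x = 0) : x = 1 := by
  rw [dev_eq hx, div_eq_zero_iff] at h
  rcases h with h | h
  · exact sub_eq_zero.1 (eq_zero_of_pow_eq_zero h)
  · exact absurd h hx

theorem expand {q m x y : ℚ} (hx : x ≠ 0) (hy : y ≠ 0) :
    (q + 1 + m * (1 / x + q / y)) * (q + 1 + m * (x + q * y)) - (m + 1) ^ 2 * (q + 1) ^ 2 =
      m * ((q + 1) * (dev x + q * dev y) + m * q * dev (x / y)) := by
  unfold dev
  field_simp
  ring

theorem expand' {q m x y : ℚ} (hx : x ≠ 0) (hy : y ≠ 0) :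
    (q - 1 + m * (q / y - 1 / x)) * (q - 1 + m * (q * y - x)) - (m + 1) ^ 2 * (q - 1) ^ 2 =
      m * ((q - 1) * (q * dev y - dev x) - m * q * dev (x / y)) := by
  unfold dev
  field_simp
  ring

/-- The two orbit equations, in ratios: equal degrees unless one ratio is extreme. -/
theorem ratio {q m x y : ℚ} (hq : 1 < q) (hm : 0 < m) (hx : x ≠ 0) (hy : y ≠ 0)
    (h1 : (q + 1 + m * (1 / x + q / y)) * (q + 1 + m * (x + q * y)) = (m + 1) ^ 2 * (q + 1) ^ 2)
    (h2 : (q - 1 + m * (q / y - 1 / x)) * (q - 1 + m * (q * y - x)) =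
      (m + 1) ^ 2 * (q - 1) ^ 2) :
    (x = 1 ∧ y = 1) ∨ (0 < x ∧ (x * (4 * q ^ 2) ≤ 1 ∨ 4 * q ^ 2 ≤ x)) := by
  have e1 : (q + 1) * (dev x + q * dev y) + m * q * dev (x / y) = 0 := by
    have := expand (q := q) (m := m) hx hy
    rw [h1, sub_self] at this
    exact (mul_eq_zero.1 this.symm).resolve_left hm.ne'
  have e2 : (q - 1) * (q * dev y - dev x) - m * q * dev (x / y) = 0 := by
    have := expand' (q := q) (m := m) hx hy
    rw [h2, sub_self] at this
    exact (mul_eq_zero.1 this.symm).resolve_left hm.ne'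
  have hP : dev x = -(q ^ 2 * dev y) := by linarith
  have hq0 : 0 < q := by linarith
  rcases lt_or_gt_of_ne hx with hxn | hxp <;> rcases lt_or_gt_of_ne hy with hyn | hyp
  · have h3 := dev_neg hxn
    have h4 := dev_neg hyn
    nlinarith
  · -- `x < 0 < y` is impossible
    have hz := dev_neg (div_neg_of_neg_of_pos hxn hyp)
    have h3 := dev_neg hxn
    have h4 := dev_pos hyp
    have h5 : m * q * dev (x / y) = (q ^ 2 - 1) * q * dev y := by
      rw [hP] at e1; linarith
    nlinarith [mul_pos hm hq0, mul_nonneg (mul_nonneg (by nlinarith : (0 : ℚ) ≤ q ^ 2 - 1) hq0.le) h4]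
  · have hz := dev_neg (div_neg_of_pos_of_neg hxp hyn)
    have h4 := dev_neg hyn
    refine Or.inr ⟨hxp, ?_⟩
    have h6 : 4 * q ^ 2 ≤ dev x := by rw [hP]; nlinarith
    rw [dev_eq hx, le_div_iff₀ hxp] at h6
    rcases le_or_gt x 1 with h7 | h7
    · left; nlinarith
    · right; nlinarith
  · have h4 := dev_pos hyp
    have h5 : dev x = 0 := le_antisymm (by rw [hP]; nlinarith) (dev_pos hxp)
    have h8 : dev y = 0 := by
      rw [h5] at hP
      rcases mul_eq_zero.1 (neg_eq_zero.1 hP.symm) with h9 | h9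
      · exact absurd h9 (by positivity)
      · exact h9
    exact Or.inl ⟨eq_one_of_dev hx h5, eq_one_of_dev hy h8⟩

/-- Step 4: the twisted degrees are those of the principal block. -/
theorem twisted_degrees {q m c d : ℤ} {R : ℤ} (hR : R = q ^ 2 - q + 1) (hq : 3 ≤ q) (hm : 0 < m)
    (hc : c ≠ 0) (hd : d ≠ 0) (hbound : c ^ 2 < 16 * q ^ 4 * R ^ 2)
    (h1 : ((q + 1 : ℚ) / R + m * (1 / c + q ^ 2 / d)) * ((q + 1) * R + m * (c + d)) =
      (m + 1) ^ 2 * (q + 1) ^ 2)
    (h2 : ((q - 1 : ℚ) / R + m * (q ^ 2 / d - 1 / c)) * ((q - 1) * R + m * (d - c)) =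
      (m + 1) ^ 2 * (q - 1) ^ 2) : c = R ∧ d = q * R := by
  have hqQ : (3 : ℚ) ≤ q := by exact_mod_cast hq
  have hR0 : (0 : ℚ) < R := by rw [hR]; push_cast; nlinarith
  have hc' : (c : ℚ) ≠ 0 := by exact_mod_cast hc
  have hd' : (d : ℚ) ≠ 0 := by exact_mod_cast hd
  have hq' : (q : ℚ) ≠ 0 := by linarith
  have hmQ : (0 : ℚ) < m := by exact_mod_cast hm
  have k1 : ((q : ℚ) + 1 + m * (1 / (c / R) + q / (d / (q * R)))) *
      (q + 1 + m * ((c / R) + q * (d / (q * R)))) = (m + 1) ^ 2 * (q + 1) ^ 2 := by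
    rw [← h1]; field_simp
  have k2 : ((q : ℚ) - 1 + m * (q / (d / (q * R)) - 1 / (c / R))) *
      (q - 1 + m * (q * (d / (q * R)) - c / R)) = (m + 1) ^ 2 * (q - 1) ^ 2 := by
    rw [← h2]; field_simp
  rcases ratio (by linarith) hmQ (div_ne_zero hc' hR0.ne') (div_ne_zero hd' (mul_ne_zero hq' hR0.ne'))
      k1 k2 with ⟨hx, hy⟩ | ⟨hx, hext⟩
  · rw [div_eq_one_iff_eq hR0.ne'] at hx
    rw [div_eq_one_iff_eq (mul_ne_zero hq' hR0.ne')] at hy
    exact ⟨by exact_mod_cast hx, by exact_mod_cast hy⟩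
  · exfalso
    have hc1 : (1 : ℚ) ≤ c := by
      have : (0 : ℚ) < c := by
        have := mul_pos hx hR0
        rwa [div_mul_cancel₀ _ hR0.ne'] at this
      exact_mod_cast (by exact_mod_cast this : (0 : ℤ) < c)
    rcases hext with h | h
    · rw [div_mul_eq_mul_div, div_le_one hR0] at h
      have : (R : ℚ) < 4 * q ^ 2 := by rw [hR]; push_cast; nlinarith
      nlinarith
    · rw [le_div_iff₀ hR0] at h
      have hb : (c : ℚ) ^ 2 < 16 * q ^ 4 * R ^ 2 := by exact_mod_cast hbound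
      nlinarith [mul_le_mul h h (by positivity) (by linarith)]

/-- Step 5: one of the twisted degrees is one. -/
theorem degree_one {q a b R : ℤ} (hR : R = q ^ 2 - q + 1) (hq8 : q % 8 = 3)
    (ha : a % 8 = 1) (hb : b ≠ 0) (hab : a + b = (q + 1) * R)
    (h : (1 : ℚ) / a + q ^ 2 / b = 1 + 1 / q) : a = 1 := by
  have ha0 : a ≠ 0 := fun e => by rw [e] at ha; norm_num at ha
  have key : (a - 1) * (a - q * R) * (q + 1) = 0 := by
    have ha' : (a : ℚ) ≠ 0 := by exact_mod_cast ha0
    have hb' : (b : ℚ) ≠ 0 := by exact_mod_cast hb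
    have hq' : (q : ℚ) ≠ 0 := by exact_mod_cast (by omega : q ≠ 0)
    field_simp at h
    have h' : q * b + q ^ 3 * a = a * b * (q + 1) := by
      have : (q : ℚ) * b + q ^ 3 * a = a * b * (q + 1) := by linarith
      exact_mod_cast this
    have hb2 : b = (q + 1) * R - a := by linarith
    subst hb2; subst hR
    linear_combination h'
  rcases mul_eq_zero.1 key with h1 | h1
  · rcases mul_eq_zero.1 h1 with h2 | h2
    · linarith
    · exfalso
      have h3 : a = q * R := by linarith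
      rw [h3, hR, sq, Int.mul_emod, Int.add_emod, Int.sub_emod, Int.mul_emod q q, hq8] at ha
      norm_num at ha
  · omega

/-- The seven-row pattern: the middle degree has the wrong residue. -/
theorem seven_false {q p R : ℤ} (hR : R = q ^ 2 - q + 1) (hq8 : q % 8 = 3)
    (hp : 2 * p = (q + 1) * R) (hp8 : p % 8 = ((q + 1) / 2) % 8) : False := by
  obtain ⟨k, rfl⟩ : ∃ k, q = 8 * k + 3 := ⟨q / 8, by omega⟩
  have h2 : p = (4 * k + 2) * R := by nlinarith
  rw [show (8 * k + 3 + 1) / 2 = 4 * k + 2 by omega] at hp8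
  have h3 : p = (4 * k + 2) + 8 * ((4 * k + 2) * (8 * k ^ 2 + 5 * k)) + 6 * (4 * k + 2) := by
    rw [h2, hR]; ring
  omega

end CfsgLib.Walter.FieldArith
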