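import Mathlib.Algebra.BigOperators.Group.Finset.Basic
import Mathlib.Algebra.Order.BigOperators.Group.Finset
import Mathlib.Algebra.BigOperators.Ring.Finset
import Mathlib.Data.Int.Interval
import Mathlib.Order.Interval.Finset.Nat
import Mathlib.Data.Fintype.Prod
import Mathlib.Tactic.IntervalCases
import Mathlib.Tactic.Linarith
import Mathlib.Tactic.Ring
import Mathlib.Tactic.SplitIfs

/-!
# Walter, the field part: the rows of a twisted block

Three integral vectors with Gram matrix `[[4,2,2],[2,4,2],[2,2,4]]`, orthogonal to non-zero signed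
degrees congruent to the values at the involution modulo eight: the rows have the standard pattern
(eight rows) or the seven-row pattern (coord/notes/Walter_field_helper6.md, step 2).
-/

set_option autoImplicit false
set_option linter.unusedSectionVars false

namespace CfsgLib.Walter.FieldRows

/-- A row. -/
abbrev Row := ℤ × ℤ × ℤ

/-- The sign making the first non-zero entry positive. -/
def sgn (v : Row) : ℤ :=
  if v.1 < 0 ∨ (v.1 = 0 ∧ (v.2.1 < 0 ∨ (v.2.1 = 0 ∧ v.2.2 < 0))) then -1 else 1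

/-- The normalised row. -/
def canon (v : Row) : Row := (sgn v * v.1, sgn v * v.2.1, sgn v * v.2.2)

/-- The normalised rows with entries at most one. -/
def types : Finset Row :=
  {(0, 0, 0), (1, 0, 0), (0, 1, 0), (0, 0, 1), (1, 1, 0), (1, -1, 0), (1, 0, 1), (1, 0, -1),
    (0, 1, 1), (0, 1, -1), (1, 1, 1), (1, 1, -1), (1, -1, 1), (1, -1, -1)}

theorem sgn_sq (v : Row) : sgn v * sgn v = 1 := by unfold sgn; split_ifs <;> rfl

theorem canon_mem {v : Row} (h0 : v.1 ∈ Finset.Icc (-1 : ℤ) 1)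
    (h1 : v.2.1 ∈ Finset.Icc (-1 : ℤ) 1) (h2 : v.2.2 ∈ Finset.Icc (-1 : ℤ) 1) :
    canon v ∈ types := by
  obtain ⟨a, b, c⟩ := v
  rw [Finset.mem_Icc] at h0 h1 h2
  obtain ⟨h0, h0'⟩ := h0
  obtain ⟨h1, h1'⟩ := h1
  obtain ⟨h2, h2'⟩ := h2
  dsimp only at *
  interval_cases a <;> interval_cases b <;> interval_cases c <;> decide

variable {ι : Type*} [Fintype ι] [DecidableEq ι] (v : ι → Row) (x : ι → ℤ)

/-- The rows of a type. -/
def cnt (τ : Row) : Finset ι := Finset.univ.filter fun i => canon (v i) = τ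

/-- The signed degree sum of a type. -/
def deg (τ : Row) : ℤ := ∑ i ∈ cnt v τ, sgn (v i) * x i

theorem small_of_col (f : ι → ℤ) (h : ∑ i, f i * f i = 4) (ho : ∑ i, f i * x i = 0)
    (hx : ∀ i, x i ≠ 0) (i : ι) : f i ∈ Finset.Icc (-1 : ℤ) 1 := by
  by_contra hn
  rw [Finset.mem_Icc] at hn
  have h4 : 4 ≤ f i * f i := by
    rcases (by omega : f i ≤ -2 ∨ 2 ≤ f i) with h2 | h2 <;> nlinarith
  have hz : ∀ j, j ≠ i → f j = 0 := by
    intro j hj
    have := Finset.sum_le_univ_sum_of_nonneg (f := fun k => f k * f k) (s := {i, j})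
      (fun k => mul_self_nonneg (f k))
    rw [Finset.sum_pair hj.symm, h] at this
    exact mul_self_eq_zero.1 (le_antisymm (by linarith) (mul_self_nonneg _))
  rw [Finset.sum_eq_single i (fun j _ hj => by rw [hz j hj, zero_mul]) (by simp)] at ho
  rcases mul_eq_zero.1 ho with h0 | h0
  · rw [h0] at h4; norm_num at h4
  · exact hx i h0

theorem sum_even (hmem : ∀ i, canon (v i) ∈ types) (φ : Row → ℤ)
    (hφ : ∀ i, φ (v i) = φ (canon (v i))) :
    ∑ i, φ (v i) = ∑ τ ∈ types, ((cnt v τ).card : ℤ) * φ τ := by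
  rw [← Finset.sum_fiberwise_of_maps_to (fun i _ => hmem i)]
  refine Finset.sum_congr rfl fun τ _ => ?_
  rw [Finset.sum_congr rfl (fun i hi => by rw [hφ i, (Finset.mem_filter.1 hi).2]),
    Finset.sum_const, nsmul_eq_mul]
  rfl

theorem sum_odd (hmem : ∀ i, canon (v i) ∈ types) (φ : Row → ℤ)
    (hφ : ∀ i, φ (v i) = sgn (v i) * φ (canon (v i))) :
    ∑ i, φ (v i) * x i = ∑ τ ∈ types, φ τ * deg v x τ := by
  rw [← Finset.sum_fiberwise_of_maps_to (fun i _ => hmem i)]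
  refine Finset.sum_congr rfl fun τ _ => ?_
  rw [deg, Finset.mul_sum]
  refine Finset.sum_congr rfl fun i hi => ?_
  rw [hφ i, (Finset.mem_filter.1 hi).2]
  ring

/-- The standard pattern. -/
def Standard : Prop :=
  (cnt v (1, 0, 0)).card = 2 ∧ (cnt v (0, 1, 0)).card = 2 ∧ (cnt v (0, 0, 1)).card = 2 ∧
    (cnt v (1, 1, 1)).card = 2 ∧
    ∀ τ ∈ types, τ ≠ (0, 0, 0) → τ ≠ (1, 0, 0) → τ ≠ (0, 1, 0) → τ ≠ (0, 0, 1) → τ ≠ (1, 1, 1) →
      (cnt v τ).card = 0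

/-- The seven-row pattern. -/
def Seven : Prop :=
  (cnt v (1, 0, 0)).card = 1 ∧ (cnt v (0, 1, 0)).card = 1 ∧ (cnt v (0, 0, 1)).card = 1 ∧
    (cnt v (1, 1, 0)).card = 1 ∧ (cnt v (1, 0, 1)).card = 1 ∧ (cnt v (0, 1, 1)).card = 1 ∧
    (cnt v (1, 1, 1)).card = 1 ∧
    ∀ τ ∈ types, τ = (1, -1, 0) ∨ τ = (1, 0, -1) ∨ τ = (0, 1, -1) ∨ τ = (1, 1, -1) ∨
      τ = (1, -1, 1) ∨ τ = (1, -1, -1) → (cnt v τ).card = 0

theorem counts {a b c p₁ m₁ p₂ m₂ p₃ m₃ t u₁ u₂ u₃ : ℕ}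
    (d0 : a + p₁ + m₁ + p₂ + m₂ + t + u₁ + u₂ + u₃ = 4)
    (d1 : b + p₁ + m₁ + p₃ + m₃ + t + u₁ + u₂ + u₃ = 4)
    (d2 : c + p₂ + m₂ + p₃ + m₃ + t + u₁ + u₂ + u₃ = 4)
    (o1 : p₁ + t + u₁ = m₁ + u₂ + u₃ + 2)
    (o2 : p₂ + t + u₂ = m₂ + u₁ + u₃ + 2)
    (o3 : p₃ + t + u₃ = m₃ + u₁ + u₂ + 2) :
    u₁ = 0 ∧ u₂ = 0 ∧ u₃ = 0 ∧
      ((t = 0 ∧ m₁ = 0 ∧ m₂ = 0 ∧ m₃ = 0 ∧ a = 0 ∧ b = 0 ∧ c = 0 ∧ p₁ = 2 ∧ p₂ = 2 ∧ p₃ = 2) ∨
       (t = 1 ∧ m₁ = 0 ∧ m₂ = 0 ∧ m₃ = 0 ∧ a = 1 ∧ b = 1 ∧ c = 1 ∧ p₁ = 1 ∧ p₂ = 1 ∧ p₃ = 1) ∨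
       (t = 2 ∧ m₁ = 0 ∧ m₂ = 0 ∧ m₃ = 0 ∧ a = 2 ∧ b = 2 ∧ c = 2 ∧ p₁ = 0 ∧ p₂ = 0 ∧ p₃ = 0) ∨
       (t = 2 ∧ m₁ + m₂ + m₃ = 1 ∧ p₁ = m₁ ∧ p₂ = m₂ ∧ p₃ = m₃ ∧ a = 2 * m₃ ∧ b = 2 * m₂ ∧
         c = 2 * m₁)) := by
  have ea : a + 2 * m₁ + 2 * m₂ + u₁ + u₂ + 3 * u₃ = t := by linarith
  have eb : b + 2 * m₁ + 2 * m₃ + u₁ + 3 * u₂ + u₃ = t := by linarith
  have ec : c + 2 * m₂ + 2 * m₃ + 3 * u₁ + u₂ + u₃ = t := by linarith
  have hu₁ : u₁ = 0 := by
    by_contra h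
    linarith [Nat.pos_of_ne_zero h]
  have hu₂ : u₂ = 0 := by
    by_contra h
    linarith [Nat.pos_of_ne_zero h]
  have hu₃ : u₃ = 0 := by
    by_contra h
    linarith [Nat.pos_of_ne_zero h]
  subst hu₁ hu₂ hu₃
  refine ⟨rfl, rfl, rfl, ?_⟩
  have hsum : 3 * (m₁ + m₂ + m₃) ≤ 6 := by linarith
  have hm : m₁ + m₂ + m₃ ≤ 1 := by omega
  rcases Nat.eq_zero_or_pos (m₁ + m₂ + m₃) with h0 | h0
  · obtain ⟨rfl, rfl, rfl⟩ : m₁ = 0 ∧ m₂ = 0 ∧ m₃ = 0 := by omega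
    have ht : t ≤ 2 := by omega
    interval_cases t
    · exact Or.inl (by omega)
    · exact Or.inr (Or.inl (by omega))
    · exact Or.inr (Or.inr (Or.inl (by omega)))
  · have ht : t = 2 := by omega
    exact Or.inr (Or.inr (Or.inr (by omega)))

theorem pair_mod {τ : Row} (hc : (cnt v τ).card = 2) {h : ℤ}
    (hmod : ∀ i, (8 : ℤ) ∣ x i - ((v i).1 + h * ((v i).2.1 + (v i).2.2))) :
    (8 : ℤ) ∣ deg v x τ - 2 * (τ.1 + h * (τ.2.1 + τ.2.2)) := by
  obtain ⟨i, j, hij, hs⟩ := Finset.card_eq_two.1 hc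
  have key : ∀ k ∈ cnt v τ, (8 : ℤ) ∣ sgn (v k) * x k - (τ.1 + h * (τ.2.1 + τ.2.2)) := by
    intro k hk
    rw [← (Finset.mem_filter.1 hk).2]
    have := Dvd.dvd.mul_left (hmod k) (sgn (v k))
    simp only [canon]
    rwa [mul_sub, show sgn (v k) * ((v k).1 + h * ((v k).2.1 + (v k).2.2)) =
      sgn (v k) * (v k).1 + h * (sgn (v k) * (v k).2.1 + sgn (v k) * (v k).2.2) by ring] at this
  have h1 := key i (by simp [hs])
  have h2 := key j (by simp [hs])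
  have h3 := dvd_add h1 h2
  rw [deg, hs, Finset.sum_pair hij]
  refine (Eq.subst (motive := fun z => (8 : ℤ) ∣ z) ?_ h3)
  ring

theorem single_ne_zero {τ : Row} (hc : (cnt v τ).card = 1) (hx : ∀ i, x i ≠ 0) :
    deg v x τ ≠ 0 := by
  obtain ⟨i, hs⟩ := Finset.card_eq_one.1 hc
  rw [deg, hs, Finset.sum_singleton]
  exact mul_ne_zero (fun h => by have := sgn_sq (v i); rw [h] at this; norm_num at this) (hx i)

theorem deg_eq_zero {τ : Row} (hc : (cnt v τ).card = 0) : deg v x τ = 0 := by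
  rw [deg, Finset.card_eq_zero.1 hc, Finset.sum_empty]

/-- Classification of the rows. -/
theorem classify {h : ℤ} (hh : h % 4 = 1) (hx : ∀ i, x i ≠ 0)
    (hmod : ∀ i, (8 : ℤ) ∣ x i - ((v i).1 + h * ((v i).2.1 + (v i).2.2)))
    (g00 : ∑ i, (v i).1 * (v i).1 = 4) (g11 : ∑ i, (v i).2.1 * (v i).2.1 = 4)
    (g22 : ∑ i, (v i).2.2 * (v i).2.2 = 4) (g01 : ∑ i, (v i).1 * (v i).2.1 = 2)
    (g02 : ∑ i, (v i).1 * (v i).2.2 = 2) (g12 : ∑ i, (v i).2.1 * (v i).2.2 = 2)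
    (o0 : ∑ i, (v i).1 * x i = 0) (o1 : ∑ i, (v i).2.1 * x i = 0)
    (o2 : ∑ i, (v i).2.2 * x i = 0) : Standard v ∨ Seven v := by
  have hmem : ∀ i, canon (v i) ∈ types := fun i => canon_mem
    (small_of_col x (fun i => (v i).1) g00 o0 hx i)
    (small_of_col x (fun i => (v i).2.1) g11 o1 hx i)
    (small_of_col x (fun i => (v i).2.2) g22 o2 hx i)
  have hev : ∀ (f g : Row → ℤ), (∀ i, f (v i) = sgn (v i) * f (canon (v i))) →
      (∀ i, g (v i) = sgn (v i) * g (canon (v i))) →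
      ∀ i, f (v i) * g (v i) = f (canon (v i)) * g (canon (v i)) := by
    intro f g hf hg i
    rw [hf i, hg i]
    calc sgn (v i) * f (canon (v i)) * (sgn (v i) * g (canon (v i))) =
        sgn (v i) * sgn (v i) * (f (canon (v i)) * g (canon (v i))) := by ring
      _ = f (canon (v i)) * g (canon (v i)) := by rw [sgn_sq, one_mul]
  have p0 : ∀ i, (v i).1 = sgn (v i) * (canon (v i)).1 := fun i => by
    simp only [canon, ← mul_assoc, sgn_sq, one_mul]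
  have p1 : ∀ i, (v i).2.1 = sgn (v i) * (canon (v i)).2.1 := fun i => by
    simp only [canon, ← mul_assoc, sgn_sq, one_mul]
  have p2 : ∀ i, (v i).2.2 = sgn (v i) * (canon (v i)).2.2 := fun i => by
    simp only [canon, ← mul_assoc, sgn_sq, one_mul]
  have e00 := (sum_even v hmem (fun r => r.1 * r.1) (hev (fun r => r.1) (fun r => r.1) p0 p0)).symm.trans g00
  have e11 := (sum_even v hmem (fun r => r.2.1 * r.2.1) (hev (fun r => r.2.1) (fun r => r.2.1) p1 p1)).symm.trans g11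
  have e22 := (sum_even v hmem (fun r => r.2.2 * r.2.2) (hev (fun r => r.2.2) (fun r => r.2.2) p2 p2)).symm.trans g22
  have e01 := (sum_even v hmem (fun r => r.1 * r.2.1) (hev (fun r => r.1) (fun r => r.2.1) p0 p1)).symm.trans g01
  have e02 := (sum_even v hmem (fun r => r.1 * r.2.2) (hev (fun r => r.1) (fun r => r.2.2) p0 p2)).symm.trans g02
  have e12 := (sum_even v hmem (fun r => r.2.1 * r.2.2) (hev (fun r => r.2.1) (fun r => r.2.2) p1 p2)).symm.trans g12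
  have f0 := (sum_odd v x hmem (fun r => r.1) p0).symm.trans o0
  have f1 := (sum_odd v x hmem (fun r => r.2.1) p1).symm.trans o1
  have f2 := (sum_odd v x hmem (fun r => r.2.2) p2).symm.trans o2
  simp [types] at e00 e11 e22 e01 e02 e12 f0 f1 f2
  obtain ⟨u1, u2, u3, hcase⟩ := counts (a := (cnt v (1, 0, 0)).card) (b := (cnt v (0, 1, 0)).card)
    (c := (cnt v (0, 0, 1)).card) (p₁ := (cnt v (1, 1, 0)).card) (m₁ := (cnt v (1, -1, 0)).card)
    (p₂ := (cnt v (1, 0, 1)).card) (m₂ := (cnt v (1, 0, -1)).card) (p₃ := (cnt v (0, 1, 1)).card)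
    (m₃ := (cnt v (0, 1, -1)).card) (t := (cnt v (1, 1, 1)).card) (u₁ := (cnt v (1, 1, -1)).card)
    (u₂ := (cnt v (1, -1, 1)).card) (u₃ := (cnt v (1, -1, -1)).card)
    (by omega) (by omega) (by omega) (by omega) (by omega) (by omega)
  have z1 := deg_eq_zero v x u1
  have z2 := deg_eq_zero v x u2
  have z3 := deg_eq_zero v x u3
  rcases hcase with ⟨ht, hm1, hm2, hm3, ha, hb, hc, hp1, hp2, hp3⟩ |
      ⟨ht, hm1, hm2, hm3, ha, hb, hc, hp1, hp2, hp3⟩ |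
      ⟨ht, hm1, hm2, hm3, ha, hb, hc, hp1, hp2, hp3⟩ |
      ⟨ht, hsum, hp1, hp2, hp3, ha, hb, hc⟩
  · exfalso
    have k1 := pair_mod v x hp1 hmod
    simp only [deg_eq_zero v x ht, deg_eq_zero v x hm1, deg_eq_zero v x hm2, deg_eq_zero v x hm3,
      deg_eq_zero v x ha, deg_eq_zero v x hb, deg_eq_zero v x hc, z1, z2, z3] at f0 f1 f2
    obtain ⟨k, hk⟩ := k1
    have h2 : deg v x (1, 1, 0) = 0 := by omega
    rw [h2] at hk
    simp at hk
    omega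
  · refine Or.inr ⟨ha, hb, hc, hp1, hp2, hp3, ht, fun τ _ hτ => ?_⟩
    rcases hτ with rfl | rfl | rfl | rfl | rfl | rfl <;> assumption
  · refine Or.inl ⟨ha, hb, hc, ht, fun τ hτ => ?_⟩
    simp only [types, Finset.mem_insert, Finset.mem_singleton] at hτ
    rcases hτ with rfl | rfl | rfl | rfl | rfl | rfl | rfl | rfl | rfl | rfl | rfl | rfl | rfl |
      rfl <;> intros <;> first | assumption | contradiction
  · exfalso
    simp only [z1, z2, z3] at f0 f1 f2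
    rcases (by omega : (cnt v (1, -1, 0)).card = 1 ∧ (cnt v (1, 0, -1)).card = 0 ∧
        (cnt v (0, 1, -1)).card = 0 ∨ (cnt v (1, -1, 0)).card = 0 ∧
        (cnt v (1, 0, -1)).card = 1 ∧ (cnt v (0, 1, -1)).card = 0 ∨
        (cnt v (1, -1, 0)).card = 0 ∧ (cnt v (1, 0, -1)).card = 0 ∧
        (cnt v (0, 1, -1)).card = 1) with ⟨q1, q2, q3⟩ | ⟨q1, q2, q3⟩ | ⟨q1, q2, q3⟩
    · rw [q2] at hp2 hb; rw [q3] at hp3 ha
      have := single_ne_zero v x q1 hx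
      simp only [deg_eq_zero v x q2, deg_eq_zero v x q3, deg_eq_zero v x hp2, deg_eq_zero v x hp3,
        deg_eq_zero v x ha, deg_eq_zero v x hb] at f0 f1
      omega
    · rw [q1] at hp1 hc; rw [q3] at hp3 ha
      have := single_ne_zero v x q2 hx
      simp only [deg_eq_zero v x q1, deg_eq_zero v x q3, deg_eq_zero v x hp1, deg_eq_zero v x hp3,
        deg_eq_zero v x ha, deg_eq_zero v x hc] at f0 f2
      omega
    · rw [q1] at hp1 hc; rw [q2] at hp2 hb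
      have := single_ne_zero v x q3 hx
      simp only [deg_eq_zero v x q1, deg_eq_zero v x q2, deg_eq_zero v x hp1, deg_eq_zero v x hp2,
        deg_eq_zero v x hc, deg_eq_zero v x hb] at f1 f2
      omega

end CfsgLib.Walter.FieldRows
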