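import Mathlib.GroupTheory.Transfer
import Mathlib.GroupTheory.Perm.Cycle.Type
import Mathlib.GroupTheory.Subgroup.Centralizer
import Mathlib.GroupTheory.Frattini
import Mathlib.FieldTheory.Finite.Basic
import Cfsg.Agent.Lib.Transfer.Basic

/-!
# Transfer of the field part of an involution centralizer

In a simple group with elementary abelian Sylow 2-subgroups of order eight and one class of
involutions, let `K` be normal in `C(t)` with abelian quotient, containing the Sylow subgroup `S` and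
meeting `C(S)` only in `S`.  Every prime dividing `|C(t) : K|` divides the index of `C(t)`:
an element `φ` of that prime order in `C(S)` is fixed by `N(S)`, so every conjugate of `φ` inside
`C(t)` is a `C(t)`-conjugate, and the transfer to `C(t)/K` sends `φ` to `φ ^ index`.
-/

set_option autoImplicit false
set_option linter.unusedSectionVars false

namespace CfsgLib.Walter

open Subgroup

universe u v

variable {G : Type u} [Group G] [Finite G]

/-- An element conjugating a finite subgroup into itself normalizes it. -/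
theorem mem_normalizer_of_forall {H : Subgroup G} {g : G} (h : ∀ s ∈ H, g * s * g⁻¹ ∈ H) :
    g ∈ normalizer (H : Set G) := by
  refine mem_normalizer_iff.2 fun x => ⟨h x, fun hx => ?_⟩
  let f : H → H := fun s => ⟨g * s * g⁻¹, h s s.2⟩
  have hf : Function.Injective f := fun s s' e => Subtype.ext (by simpa [f] using congrArg Subtype.val e)
  obtain ⟨s, hs⟩ := (Finite.injective_iff_surjective.1 hf) ⟨_, hx⟩
  have e : x = s := by simpa [f] using (congrArg Subtype.val hs).symm
  exact e ▸ s.2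

/-- Transfer of an element of prime order whose conjugates in `H` all take the value `a`. -/
theorem transfer_prime_order {H : Subgroup G} {A : Type v} [CommGroup A] (φ : H →* A) {l : ℕ}
    (hl : l.Prime) {u : G} (hu : u ^ l = 1) {a : A} (ha : a ^ l = 1)
    (hφ : ∀ g : G, ∀ h : g⁻¹ * u * g ∈ H, φ ⟨_, h⟩ = a) : φ.transfer u = a ^ H.index := by
  classical
  have : Fintype (Quotient (MulAction.orbitRel (zpowers u) (G ⧸ H))) := Fintype.ofFinite _
  have hterm : ∀ (g : G) (m : ℕ) (h : g⁻¹ * u ^ m * g ∈ H), φ ⟨_, h⟩ = a ^ m := by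
    intro g m h
    by_cases hm : l ∣ m
    · obtain ⟨j, rfl⟩ := hm
      have e : (⟨_, h⟩ : H) = 1 := Subtype.ext (by simp [pow_mul, hu])
      rw [e, map_one, pow_mul, ha, one_pow]
    · obtain ⟨j, hj⟩ := Nat.exists_mul_mod_eq_one_of_coprime
        ((hl.coprime_iff_not_dvd.2 hm).symm) hl.one_lt
      have hpow : ∀ k : ℕ, (g⁻¹ * u * g) ^ k = g⁻¹ * u ^ k * g := fun k => by
        have := conj_pow (i := k) (a := g⁻¹) (b := u)
        rwa [inv_inv] at this
      have h' : g⁻¹ * u * g ∈ H := by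
        have hk := H.pow_mem h j
        rw [← hpow m, ← pow_mul] at hk
        have hl1 : (g⁻¹ * u * g) ^ l = 1 := by rw [hpow, hu, mul_one, inv_mul_cancel]
        have e1 : (g⁻¹ * u * g) ^ (m * j) = g⁻¹ * u * g := by
          conv_lhs => rw [← Nat.mod_add_div (m * j) l, hj.2, pow_add, pow_mul, hl1, one_pow,
            pow_one, mul_one]
        rwa [e1] at hk
      have e : (⟨_, h⟩ : H) = ⟨_, h'⟩ ^ m := Subtype.ext (hpow m).symm
      rw [e, map_pow, hφ g h']
  rw [MonoidHom.transfer_eq_prod_quotient_orbitRel_zpowers_quot,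
    Finset.prod_congr rfl (fun q _ => hterm _ _ _), Finset.prod_pow_eq_pow_sum,
    ← index_eq_sum_minimalPeriod H u]

/-- If the conjugates of `t` commuting with `φ` are conjugate to `t` under `C(φ)`, a prime order
element `φ` of `C(t)` outside a normal subgroup with abelian quotient has order dividing the index. -/
theorem dvd_index_of_fusion [IsSimpleGroup G] (hnc : ¬ IsMulCommutative G) {t φ : G}
    {K : Subgroup G}
    (hKn : ∀ h ∈ centralizer ({t} : Set G), ∀ k ∈ K, h * k * h⁻¹ ∈ K)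
    (hab : ∀ x ∈ centralizer ({t} : Set G), ∀ y ∈ centralizer ({t} : Set G), x * y * x⁻¹ * y⁻¹ ∈ K)
    {l : ℕ} (hl : l.Prime) (hφl : φ ^ l = 1) (hφC : φ ∈ centralizer ({t} : Set G)) (hφK : φ ∉ K)
    (hfuse : ∀ g : G, Commute (g * t * g⁻¹) φ →
      ∃ c : G, Commute c φ ∧ c * t * c⁻¹ = g * t * g⁻¹) :
    l ∣ (centralizer ({t} : Set G)).index := by
  classical
  set C := centralizer ({t} : Set G) with hCdef
  set M : Subgroup C := K.subgroupOf C with hMdef
  have hMn : M.Normal := ⟨fun k hk h => mem_subgroupOf.2 (hKn h h.2 k (mem_subgroupOf.1 hk))⟩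
  let _ : CommGroup (C ⧸ M) :=
    { (inferInstance : Group (C ⧸ M)) with
      mul_comm := by
        intro a b
        induction a using QuotientGroup.induction_on with
        | H x =>
          induction b using QuotientGroup.induction_on with
          | H y =>
            rw [← QuotientGroup.mk_mul, ← QuotientGroup.mk_mul, QuotientGroup.eq]
            refine mem_subgroupOf.2 ?_
            have h := hab _ (C.inv_mem y.2) _ (C.inv_mem x.2)
            simp only [inv_inv] at h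
            simpa [mul_assoc] using h }
  let π : C →* C ⧸ M := QuotientGroup.mk' M
  have hal : π ⟨φ, hφC⟩ ^ l = 1 := by
    rw [← map_pow, show (⟨φ, hφC⟩ : C) ^ l = 1 from Subtype.ext hφl, map_one]
  have hne : π ⟨φ, hφC⟩ ≠ 1 := fun h =>
    hφK (mem_subgroupOf.1 ((QuotientGroup.eq_one_iff _).1 h))
  have hval : ∀ g : G, ∀ h : g⁻¹ * φ * g ∈ C, π ⟨_, h⟩ = π ⟨φ, hφC⟩ := by
    intro g h
    have hcom : Commute (g * t * g⁻¹) φ := by
      have e : Commute (g⁻¹ * φ * g) t := mem_centralizer_singleton_iff.1 h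
      have := (e.map (MulAut.conj g).toMonoidHom).symm
      simpa [mul_assoc] using this
    obtain ⟨c, hc, hct⟩ := hfuse g hcom
    have hh : c⁻¹ * g ∈ C := by
      refine mem_centralizer_singleton_iff.2 ?_
      have e : c⁻¹ * (c * t * c⁻¹) * g = c⁻¹ * (g * t * g⁻¹) * g := by rw [hct]
      simpa [mul_assoc] using e.symm
    have e : (⟨g⁻¹ * φ * g, h⟩ : C) = ⟨_, hh⟩⁻¹ * ⟨φ, hφC⟩ * ⟨_, hh⟩ := Subtype.ext (by
      show g⁻¹ * φ * g = (c⁻¹ * g)⁻¹ * φ * (c⁻¹ * g)
      rw [mul_inv_rev, inv_inv, show g⁻¹ * c * φ * (c⁻¹ * g) = g⁻¹ * (c * φ * c⁻¹) * g by group,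
        hc.eq, mul_inv_cancel_right])
    rw [e, map_mul, map_mul, map_inv, mul_comm (_⁻¹), inv_mul_cancel_right]
  have htr := transfer_prime_order π hl hφl hal hval
  have hker : φ ∈ π.transfer.ker := by
    rcases (inferInstance : π.transfer.ker.Normal).eq_bot_or_eq_top with hb | htop
    · refine absurd ⟨⟨fun x y => ?_⟩⟩ hnc
      exact (MonoidHom.ker_eq_bot_iff _).1 hb (by rw [map_mul, map_mul, mul_comm])
    · rw [htop]; exact mem_top φ
  rw [MonoidHom.mem_ker, htr] at hker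
  rwa [← orderOf_eq_prime hal hne (hp := ⟨hl⟩), orderOf_dvd_iff_pow_eq_one]

variable (S : Sylow 2 G)

/-- Fusion in the centralizer of an element centralized by `N(S)`. -/
theorem exists_commute_conj {t φ : G} (ht : orderOf t = 2)
    (htr : ∀ x ∈ (S : Subgroup G), orderOf x = 2 →
      ∃ n ∈ normalizer ((S : Subgroup G) : Set G), n * t * n⁻¹ = x)
    (hN : ∀ n ∈ normalizer ((S : Subgroup G) : Set G), Commute n φ) (g : G)
    (hg : Commute (g * t * g⁻¹) φ) : ∃ c : G, Commute c φ ∧ c * t * c⁻¹ = g * t * g⁻¹ := by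
  have : Fact (Nat.Prime 2) := ⟨Nat.prime_two⟩
  set D := centralizer ({φ} : Set G) with hDdef
  have hSD : (S : Subgroup G) ≤ D := fun s hs =>
    mem_centralizer_singleton_iff.2 (hN s (le_normalizer hs))
  have hx : g * t * g⁻¹ ∈ D := mem_centralizer_singleton_iff.2 hg
  have hord : orderOf (g * t * g⁻¹) = 2 := by
    rw [← ht]; exact (MulEquiv.orderOf_eq (MulAut.conj g) t)
  obtain ⟨Q, hQ⟩ := (IsPGroup.of_card (p := 2) (n := 1) (G := zpowers (⟨_, hx⟩ : D)) (by
    rw [Nat.card_zpowers, ← Subgroup.orderOf_coe, hord, pow_one])).exists_le_sylow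
  obtain ⟨d, hd⟩ := MulAction.exists_smul_eq D Q (S.subtype hSD)
  have hmem : d * ⟨_, hx⟩ * d⁻¹ ∈ (S.subtype hSD : Subgroup D) := by
    rw [← hd]
    exact Subgroup.smul_mem_pointwise_smul _ _ _ (hQ (mem_zpowers _))
  rw [Sylow.coe_subtype, mem_subgroupOf] at hmem
  obtain ⟨n, hn, hnt⟩ := htr _ hmem (by
    rw [← hord]; exact (MulEquiv.orderOf_eq (MulAut.conj (d : G)) (g * t * g⁻¹)))
  refine ⟨(d : G)⁻¹ * n,
    (Commute.inv_left (mem_centralizer_singleton_iff.1 d.2)).mul_left (hN n hn), ?_⟩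
  calc (d : G)⁻¹ * n * t * ((d : G)⁻¹ * n)⁻¹ = (d : G)⁻¹ * (n * t * n⁻¹) * d := by group
    _ = (d : G)⁻¹ * ((d * ⟨_, hx⟩ * d⁻¹ : D) : G) * d := by rw [hnt]
    _ = g * t * g⁻¹ := by push_cast; group

/-- The elements of `N(S)` fixing `C(S)` modulo `S`. -/
def fixModS : Subgroup G where
  carrier := {n | n ∈ normalizer ((S : Subgroup G) : Set G) ∧
    ∀ a ∈ centralizer ((S : Subgroup G) : Set G), n * a * n⁻¹ * a⁻¹ ∈ (S : Subgroup G)}
  one_mem' := ⟨one_mem _, fun a _ => by simp⟩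
  mul_mem' := by
    rintro m n ⟨hm, hm'⟩ ⟨hn, hn'⟩
    refine ⟨mul_mem hm hn, fun a ha => ?_⟩
    have e : m * n * a * (m * n)⁻¹ * a⁻¹ =
        m * (n * a * n⁻¹ * a⁻¹) * m⁻¹ * (m * a * m⁻¹ * a⁻¹) := by group
    rw [e]
    exact mul_mem ((mem_normalizer_iff.1 hm _).1 (hn' a ha)) (hm' a ha)
  inv_mem' := by
    rintro n ⟨hn, hn'⟩
    refine ⟨inv_mem hn, fun a ha => ?_⟩
    have e : n⁻¹ * a * n⁻¹⁻¹ * a⁻¹ = n⁻¹ * (n * a * n⁻¹ * a⁻¹)⁻¹ * n := by group
    rw [e]
    exact (mem_normalizer_iff''.1 hn _).1 (inv_mem (hn' a ha))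

theorem fixModS_le : fixModS S ≤ normalizer ((S : Subgroup G) : Set G) := fun _ h => h.1

theorem conj_mem_fixModS {m n : G} (hm : m ∈ normalizer ((S : Subgroup G) : Set G))
    (hn : n ∈ fixModS S) : m * n * m⁻¹ ∈ fixModS S := by
  refine ⟨mul_mem (mul_mem hm hn.1) (inv_mem hm), fun a ha => ?_⟩
  have ha' : m⁻¹ * a * m ∈ centralizer ((S : Subgroup G) : Set G) := mem_centralizer_iff.2 fun s hs => by
    have h := mem_centralizer_iff.1 ha _ ((mem_normalizer_iff.1 hm s).1 hs)
    calc s * (m⁻¹ * a * m) = m⁻¹ * (m * s * m⁻¹ * a) * m := by group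
      _ = m⁻¹ * a * m * s := by rw [h]; group
  have e : m * n * m⁻¹ * a * (m * n * m⁻¹)⁻¹ * a⁻¹ =
      m * (n * (m⁻¹ * a * m) * n⁻¹ * (m⁻¹ * a * m)⁻¹) * m⁻¹ := by group
  rw [e]
  exact (mem_normalizer_iff.1 hm _).1 (hn.2 _ ha')

variable {S}

/-- `N(S)` has seven cosets of `N(S) ∩ C(t)`. -/
theorem relIndex_normalizer_inf {t : G} (hS8 : Nat.card (S : Subgroup G) = 8)
    (hSe : ∀ s ∈ (S : Subgroup G), s * s = 1) (htS : t ∈ (S : Subgroup G)) (ht : orderOf t = 2)
    (htr : ∀ x ∈ (S : Subgroup G), orderOf x = 2 →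
      ∃ n ∈ normalizer ((S : Subgroup G) : Set G), n * t * n⁻¹ = x) :
    (centralizer ({t} : Set G) ⊓ normalizer ((S : Subgroup G) : Set G)).relIndex
      (normalizer ((S : Subgroup G) : Set G)) = 7 := by
  classical
  set N := normalizer ((S : Subgroup G) : Set G)
  let T := {x : (S : Subgroup G) // x ≠ 1}
  let _ : Fintype (S : Subgroup G) := Fintype.ofFinite _
  let _ : Fintype T := Fintype.ofFinite _
  have hne : ∀ n : N, (⟨(n : G) * t * (n : G)⁻¹, (mem_normalizer_iff.1 n.2 t).1 htS⟩ :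
      (S : Subgroup G)) ≠ 1 := fun n h => by
    have : t = 1 := conj_eq_one_iff.1 (congrArg Subtype.val h)
    simp [this] at ht
  let f : N → T := fun n => ⟨⟨_, (mem_normalizer_iff.1 n.2 t).1 htS⟩, hne n⟩
  have hsurj : Function.Surjective f := fun x => by
    have hx2 : orderOf ((x : (S : Subgroup G)) : G) = 2 :=
      orderOf_eq_prime (by rw [pow_two]; exact hSe _ x.1.2)
        (fun h => x.2 (Subtype.ext h))
    obtain ⟨n, hn, hnt⟩ := htr _ x.1.2 hx2
    exact ⟨⟨n, hn⟩, Subtype.ext (Subtype.ext hnt)⟩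
  have hfib : ∀ a b : N, a⁻¹ * b ∈ (centralizer ({t} : Set G) ⊓ N).subgroupOf N ↔ f a = f b := by
    intro a b
    rw [show f a = f b ↔ (a : G) * t * (a : G)⁻¹ = (b : G) * t * (b : G)⁻¹ from
        ⟨fun h => congrArg (fun x : T => ((x : (S : Subgroup G)) : G)) h,
         fun h => Subtype.ext (Subtype.ext h)⟩]
    simp only [mem_subgroupOf, mem_inf, coe_mul, coe_inv, mem_centralizer_singleton_iff]
    refine ⟨fun h => ?_, fun h => ⟨?_, mul_mem (inv_mem a.2) b.2⟩⟩
    · calc (a : G) * t * (a : G)⁻¹ = a * (((a : G)⁻¹ * b) * t) * ((a : G)⁻¹ * b)⁻¹ * (a : G)⁻¹ := by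
            rw [h.1]; group
        _ = (b : G) * t * (b : G)⁻¹ := by group
    · calc (a : G)⁻¹ * b * t = (a : G)⁻¹ * ((b : G) * t * (b : G)⁻¹) * b := by group
        _ = t * ((a : G)⁻¹ * b) := by rw [← h]; group
  rw [Subgroup.relIndex, Subgroup.index]
  let F : N ⧸ (centralizer ({t} : Set G) ⊓ N).subgroupOf N → T :=
    Quotient.lift f fun a b h => (hfib a b).1 (QuotientGroup.leftRel_apply.1 h)
  rw [Nat.card_eq_of_bijective F ⟨?_, fun x => ?_⟩]
  · have hcompl : Nat.card T + 1 = 8 := by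
      rw [← hS8, Nat.card_eq_fintype_card (α := T), Fintype.card_subtype_compl,
        Fintype.card_subtype_eq, Nat.card_eq_fintype_card]
      have := Fintype.card_pos (α := (S : Subgroup G))
      omega
    omega
  · intro a b
    induction a using Quotient.ind with
    | _ a =>
      induction b using Quotient.ind with
      | _ b => exact fun h => QuotientGroup.eq.2 ((hfib a b).2 h)
  · obtain ⟨n, rfl⟩ := hsurj x
    exact ⟨Quotient.mk'' n, rfl⟩

/-- Every prime dividing the field part `|C(t) : K|` divides `|G : C(t)|`. -/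
theorem dvd_index_of_dvd_relIndex [IsSimpleGroup G] (hnc : ¬ IsMulCommutative G) {t : G}
    (hS8 : Nat.card (S : Subgroup G) = 8) (hSe : ∀ s ∈ (S : Subgroup G), s * s = 1)
    (htS : t ∈ (S : Subgroup G)) (ht : orderOf t = 2)
    (htr : ∀ x ∈ (S : Subgroup G), orderOf x = 2 →
      ∃ n ∈ normalizer ((S : Subgroup G) : Set G), n * t * n⁻¹ = x)
    {K : Subgroup G} (hKC : K ≤ centralizer ({t} : Set G))
    (hKn : ∀ h ∈ centralizer ({t} : Set G), ∀ k ∈ K, h * k * h⁻¹ ∈ K)
    (hab : ∀ x ∈ centralizer ({t} : Set G), ∀ y ∈ centralizer ({t} : Set G), x * y * x⁻¹ * y⁻¹ ∈ K)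
    (hSK : (S : Subgroup G) ≤ K)
    (hKS : K ⊓ centralizer ((S : Subgroup G) : Set G) ≤ (S : Subgroup G))
    (hrot : ∃ k ∈ K, k ∈ normalizer ((S : Subgroup G) : Set G) ∧
      k ∉ centralizer ((S : Subgroup G) : Set G))
    (hstab : ∀ n ∈ normalizer ((S : Subgroup G) : Set G), n ∈ centralizer ({t} : Set G) →
      ∃ a ∈ centralizer ((S : Subgroup G) : Set G), ∃ k ∈ K, n = a * k)
    {l : ℕ} (hl : l.Prime) (hlK : l ∣ K.relIndex (centralizer ({t} : Set G))) :
    l ∣ (centralizer ({t} : Set G)).index := by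
  classical
  have : Fact l.Prime := ⟨hl⟩
  have : Fact (Nat.Prime 2) := ⟨Nat.prime_two⟩
  set C := centralizer ({t} : Set G) with hCdef
  set N := normalizer ((S : Subgroup G) : Set G) with hNdef
  set A := centralizer ((S : Subgroup G) : Set G) with hAdef
  have hSab : ∀ x ∈ (S : Subgroup G), ∀ y ∈ (S : Subgroup G), x * y = y * x := fun x hx y hy => by
    have h1 : ∀ s ∈ (S : Subgroup G), s⁻¹ = s := fun s hs => inv_eq_of_mul_eq_one_right (hSe s hs)
    calc x * y = (x * y)⁻¹ := (h1 _ (mul_mem hx hy)).symm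
      _ = y * x := by rw [mul_inv_rev, h1 x hx, h1 y hy]
  have hSA : (S : Subgroup G) ≤ A := fun s hs => mem_centralizer_iff.2 fun x hx => hSab x hx s hs
  have hAC : A ≤ C := fun a ha => mem_centralizer_singleton_iff.2 (mem_centralizer_iff.1 ha t htS).symm
  have hAN : A ≤ N := centralizer_le_normalizer _
  set M : Subgroup C := K.subgroupOf C with hMdef
  have hMn : M.Normal := ⟨fun k hk h => mem_subgroupOf.2 (hKn h h.2 k (mem_subgroupOf.1 hk))⟩
  -- `C = A K`
  have hcov : ∀ h ∈ C, ∃ a ∈ A, ∃ k ∈ K, h = a * k := by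
    intro h hh
    let P : Sylow 2 C := S.subtype (hSK.trans hKC)
    have hPM : (P : Subgroup C) ≤ M := fun x hx => by
      simp only [P, Sylow.coe_subtype, mem_subgroupOf] at hx
      exact mem_subgroupOf.2 (hSK hx)
    have hfrat := P.normalizer_sup_eq_top' hPM
    have hmem : (⟨h, hh⟩ : C) ∈ normalizer ((P : Subgroup C) : Set C) ⊔ M := hfrat ▸ mem_top _
    obtain ⟨n, hn, k, hk, hnk⟩ := mem_sup_of_normal_right.1 hmem
    have hnN : (n : G) ∈ N := by
      refine mem_normalizer_iff.2 fun x => ⟨fun hx => ?_, fun hx => ?_⟩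
      · have := (mem_normalizer_iff.1 hn ⟨x, hKC (hSK hx)⟩).1
          (by simpa [P, mem_subgroupOf] using hx)
        simpa [P, mem_subgroupOf] using this
      · have hxC : x ∈ C := by
          have := mul_mem (mul_mem (inv_mem n.2) (hKC (hSK hx))) n.2
          simpa [mul_assoc] using this
        have := (mem_normalizer_iff.1 hn ⟨x, hxC⟩).2 (by simpa [P, mem_subgroupOf] using hx)
        simpa [P, mem_subgroupOf] using this
    obtain ⟨a, ha, k', hk', hak⟩ := hstab _ hnN n.2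
    refine ⟨a, ha, k' * k, mul_mem hk' (mem_subgroupOf.1 hk), ?_⟩
    rw [← mul_assoc, ← hak]
    exact (congrArg Subtype.val hnk).symm
  -- an element of order `l` in `A` outside `K`
  obtain ⟨x, hx⟩ := exists_prime_orderOf_dvd_card' (G := C ⧸ M) l hlK
  obtain ⟨h, rfl⟩ := QuotientGroup.mk_surjective x
  obtain ⟨a, ha, k, hk, hak⟩ := hcov h h.2
  have haM : (QuotientGroup.mk (⟨a, hAC ha⟩ : C) : C ⧸ M) = QuotientGroup.mk h :=
    QuotientGroup.eq.2 (mem_subgroupOf.2 (by simpa [hak] using hk))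
  rw [← haM] at hx
  have haK : a ∉ K := fun hK => by
    rw [(QuotientGroup.eq_one_iff _).2 (mem_subgroupOf.2 hK), orderOf_one] at hx
    exact hl.one_lt.ne hx
  have haS : a ^ l ∈ (S : Subgroup G) := by
    refine hKS (mem_inf.2 ⟨?_, A.pow_mem ha l⟩)
    have := (QuotientGroup.eq_one_iff _).1
      ((QuotientGroup.mk_pow M _ l).trans (hx ▸ pow_orderOf_eq_one _))
    simpa [M, mem_subgroupOf] using this
  have hlodd : l ≠ 2 := by
    rintro rfl
    have h2 : 2 ∣ (S : Subgroup G).relIndex C := hlK.trans (Subgroup.relIndex_dvd_of_le_left C hSK)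
    exact (S.subtype (hSK.trans hKC)).not_dvd_index h2
  set φ := a ^ 2 with hφdef
  have hφA : φ ∈ A := A.pow_mem ha 2
  have hφl : φ ^ l = 1 := by rw [hφdef, ← pow_mul, mul_comm, pow_mul, pow_two]; exact hSe _ haS
  have hφK : φ ∉ K := fun h2 => by
    obtain ⟨j, hj⟩ := hl.odd_of_ne_two hlodd
    refine haK ?_
    have e : a = (a ^ 2) ^ (j + 1) * (a ^ l)⁻¹ := by
      rw [← pow_mul, eq_mul_inv_iff_mul_eq, ← pow_succ', show l + 1 = 2 * (j + 1) by omega]
    rw [e]
    exact mul_mem (K.pow_mem h2 _) (inv_mem (hSK haS))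
  -- `N(S)` acts trivially on `A` modulo `S`
  have hNle : C ⊓ N ≤ fixModS S := by
    intro n hn
    obtain ⟨b, hb, k, hk, rfl⟩ := hstab n hn.2 hn.1
    have hbF : b ∈ fixModS S := by
      refine ⟨hAN hb, fun c hc => ?_⟩
      refine hKS (mem_inf.2 ⟨hab b (hAC hb) c (hAC hc), ?_⟩)
      exact mul_mem (mul_mem (mul_mem hb hc) (inv_mem hb)) (inv_mem hc)
    have hkN : k ∈ N := by simpa using mul_mem (inv_mem (hAN hb)) hn.2
    refine mul_mem hbF ⟨hkN, fun c hc => hKS (mem_inf.2 ⟨?_, ?_⟩)⟩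
    · rw [show k * c * k⁻¹ * c⁻¹ = k * (c * k⁻¹ * c⁻¹) by group]
      exact mul_mem hk (hKn c (hAC hc) _ (inv_mem hk))
    · refine mul_mem (mem_centralizer_iff.2 fun s hs => ?_) (inv_mem hc)
      have h := mem_centralizer_iff.1 hc _ ((mem_normalizer_iff''.1 hkN s).1 hs)
      calc s * (k * c * k⁻¹) = k * (k⁻¹ * s * k * c) * k⁻¹ := by group
        _ = k * c * k⁻¹ * s := by rw [h]; group
  have hfix : fixModS S = N := by
    have h7 := relIndex_mul_relIndex _ _ _ hNle (fixModS_le S)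
    rw [relIndex_normalizer_inf hS8 hSe htS ht htr] at h7
    rcases (Nat.dvd_prime (by norm_num : Nat.Prime 7)).1 ⟨_, h7.symm⟩ with h1 | h1
    · exfalso
      have hle : fixModS S ≤ C := (relIndex_eq_one.1 h1).trans inf_le_left
      obtain ⟨k, hk, hkN, hkA⟩ := hrot
      refine hkA (mem_centralizer_iff.2 fun s hs => ?_)
      by_cases hs1 : s = 1
      · simp [hs1]
      obtain ⟨m, hm, hms⟩ := htr s hs (orderOf_eq_prime (by rw [pow_two]; exact hSe s hs) hs1)
      have h2 : m⁻¹ * k * m⁻¹⁻¹ ∈ C :=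
        hle (conj_mem_fixModS S (inv_mem hm) (hNle ⟨hKC hk, hkN⟩))
      rw [inv_inv] at h2
      have h3 : m⁻¹ * k * m * t = t * (m⁻¹ * k * m) := mem_centralizer_singleton_iff.1 h2
      rw [← hms]
      calc m * t * m⁻¹ * k = m * (t * (m⁻¹ * k * m)) * m⁻¹ := by group
        _ = k * (m * t * m⁻¹) := by rw [← h3]; group
    · refine le_antisymm (fixModS_le S) (relIndex_eq_one.1 ?_)
      rw [h1] at h7
      exact Nat.eq_of_mul_eq_mul_left (by norm_num : 0 < 7) (h7.trans (mul_one 7).symm)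
  have hN : ∀ n ∈ N, Commute n φ := fun n hn => by
    rw [← hfix] at hn
    have hs := hn.2 φ hφA
    set s := n * φ * n⁻¹ * φ⁻¹ with hsdef
    have hcs : Commute s φ := mem_centralizer_iff.1 hφA s hs
    have e : n * φ * n⁻¹ = s * φ := by rw [hsdef, inv_mul_cancel_right]
    have hsl : s ^ l = 1 := by
      have := hcs.mul_pow l
      rwa [← e, conj_pow, hφl, mul_one, mul_inv_cancel, mul_one, eq_comm] at this
    have hs1 : s = 1 := by
      obtain ⟨j, hj⟩ := hl.odd_of_ne_two hlodd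
      rwa [hj, pow_succ, pow_mul, pow_two, hSe s hs, one_pow, one_mul] at hsl
    rw [hs1, one_mul] at e
    exact mul_inv_eq_iff_eq_mul.1 e
  exact dvd_index_of_fusion hnc hKn hab hl hφl (hAC hφA) hφK
    (exists_commute_conj S ht htr hN)

/-- The index formula at a prime `l` for `q = q₀ ^ l`. -/
theorem dvd_of_dvd_index_formula {l q₀ : ℕ} (hl : l.Prime)
    (h : l ∣ (q₀ ^ l) ^ 2 * ((q₀ ^ l) ^ 2 - q₀ ^ l + 1)) : l ∣ q₀ ^ 2 * (q₀ ^ 2 - q₀ + 1) := by
  have : Fact l.Prime := ⟨hl⟩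
  rw [← CharP.cast_eq_zero_iff (ZMod l) l] at h ⊢
  have h1 : q₀ ^ l ≤ (q₀ ^ l) ^ 2 := Nat.le_self_pow (by norm_num) _
  have h2 : q₀ ≤ q₀ ^ 2 := Nat.le_self_pow (by norm_num) _
  simp only [Nat.cast_mul, Nat.cast_pow, Nat.cast_add, Nat.cast_sub h1, Nat.cast_sub h2,
    Nat.cast_one, ZMod.pow_card] at h ⊢
  exact h

end CfsgLib.Walter
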