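import Cfsg.Agent.Lib.Walter.Setup
import Cfsg.Agent.Lib.Walter.FieldTransfer
import Cfsg.Agent.Lib.SmallRee.SylowTwo

/-!
Walter, rank three, core-free centralisers: every prime dividing the field part `|Y : L|` of a shape of
`C(t)` divides `|G : C(t)|`.
-/

set_option autoImplicit false
set_option linter.unusedSectionVars false

namespace CfsgLib.Walter

open Subgroup CfsgLib.GW

universe u

variable {G : Type u} [Group G] [Finite G]

theorem Setup.dvd_index_of_shape (E : Setup G) (hloc : Local E) (hW : E.W = ⊥)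
    (Sh : Shape (E.S : Subgroup G) E.t) {l : ℕ} (hl : l.Prime) (hlY : l ∣ @Subgroup.index Sh.Y Sh.grp Sh.L) :
    l ∣ E.H.index := by
  classical
  have := E.simple
  obtain ⟨Y, F, L, π, psl, hq8, hsurj, hker, hle, himg, hcomm, hidx, hkerS⟩ := Sh
  have : Fact (Nat.Prime 2) := ⟨Nat.prime_two⟩
  set S := (E.S : Subgroup G) with hSdef
  set N := normalizer (S : Set G) with hNdef
  set A := centralizer (S : Set G) with hAdef
  change l ∣ (centralizer ({E.t} : Set G)).index
  have hW' : coreIn (centralizer ({E.t} : Set G)) = ⊥ := hW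
  have htt : E.t * E.t = 1 := E.sq _ E.mem
  have hLn : L.Normal := psl.normal
  have hk : ∀ x : (centralizer ({E.t} : Set G)), π x = 1 → (x : G) = 1 ∨ (x : G) = E.t := fun x hx => by
    rcases (hker x).1 hx with h | h <;> rw [hW', mem_bot] at h
    · exact Or.inl h
    · exact Or.inr (by rw [mul_eq_one_iff_eq_inv.1 h, inv_eq_of_mul_eq_one_right htt])
  set K₀ : Subgroup (centralizer ({E.t} : Set G)) := L.comap π with hK₀
  set K : Subgroup G := K₀.map (Subgroup.subtype (centralizer ({E.t} : Set G))) with hK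
  have hKC : K ≤ (centralizer ({E.t} : Set G)) := map_subtype_le _
  have hmemK : ∀ (x : G) (hx : x ∈ (centralizer ({E.t} : Set G))), x ∈ K ↔ π ⟨x, hx⟩ ∈ L := fun x hx => by
    refine ⟨fun h => ?_, fun h => ⟨⟨x, hx⟩, h, rfl⟩⟩
    obtain ⟨y, hy, rfl⟩ := h
    exact hy
  have hKn : ∀ h ∈ (centralizer ({E.t} : Set G)), ∀ k ∈ K, h * k * h⁻¹ ∈ K := fun h hh k hk' => by
    have hkC := hKC hk'
    refine (hmemK _ (mul_mem (mul_mem hh hkC) (inv_mem hh))).2 ?_
    have := hLn.conj_mem _ ((hmemK k hkC).1 hk') (π ⟨h, hh⟩)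
    rw [← map_inv, ← map_mul, ← map_mul] at this
    exact this
  have hab : ∀ x ∈ (centralizer ({E.t} : Set G)), ∀ y ∈ (centralizer ({E.t} : Set G)), x * y * x⁻¹ * y⁻¹ ∈ K := fun x hx y hy => by
    refine (hmemK _ (mul_mem (mul_mem (mul_mem hx hy) (inv_mem hx)) (inv_mem hy))).2 ?_
    have := hcomm (π ⟨x, hx⟩) (π ⟨y, hy⟩)
    rw [← map_inv, ← map_inv, ← map_mul, ← map_mul, ← map_mul] at this
    exact this
  have hSK : S ≤ K := fun s hs => (hmemK s (hle hs)).2 (himg s hs)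
  -- the image of `S`
  obtain ⟨e⟩ := psl.equiv
  have h4 : 4 ≤ Fintype.card F := psl.three
  let f : S →* L :=
    { toFun := fun s => ⟨π ⟨s, hle s.2⟩, himg s s.2⟩
      map_one' := Subtype.ext (map_one π)
      map_mul' := fun a b => Subtype.ext (map_mul π ⟨a, hle a.2⟩ ⟨b, hle b.2⟩) }
  let V : Subgroup (Matrix.ProjectiveSpecialLinearGroup (Fin 2) F) := (e.toMonoidHom.comp f).range
  have hVp : IsPGroup 2 V := E.S.2.of_surjective (e.toMonoidHom.comp f).rangeRestrict
    (e.toMonoidHom.comp f).rangeRestrict_surjective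
  obtain ⟨P, hVP⟩ := hVp.exists_le_sylow
  obtain ⟨hcP, hnP⟩ := CfsgLib.SmallRee.psl_klein_normalizer h4 hq8 P
  have hP4 : Nat.card (P : Subgroup (Matrix.ProjectiveSpecialLinearGroup (Fin 2) F)) = 4 :=
    (CfsgLib.ClassicalGroups.SL2.psl_sylow_two_klein rfl hq8 P).card_four
  have hkf : (e.toMonoidHom.comp f).ker ≤ (zpowers E.t).subgroupOf S := fun s hs => by
    have hs' : π ⟨s, hle s.2⟩ = 1 := congrArg Subtype.val
      (e.injective ((MonoidHom.mem_ker.1 hs).trans (map_one e).symm))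
    refine mem_subgroupOf.2 ?_
    rcases hkerS s s.2 hs' with h | h
    · rw [h]; exact one_mem _
    · rw [h]; exact mem_zpowers E.t
  have hVeq : V = (P : Subgroup (Matrix.ProjectiveSpecialLinearGroup (Fin 2) F)) := by
    refine eq_of_le_of_card_ge hVP ?_
    have h1 : (e.toMonoidHom.comp f).ker.index = Nat.card V := index_ker _
    have h2 := (e.toMonoidHom.comp f).ker.card_mul_index
    rw [h1, E.card_S] at h2
    have h3 := card_le_of_le hkf
    rw [Nat.card_congr (subgroupOfEquivOfLe (zpowers_le.2 E.mem)).toEquiv, Nat.card_zpowers,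
      E.orderOf_t] at h3
    rw [hP4]
    have : 4 * 2 ≤ Nat.card V * 2 := by
      calc 4 * 2 = Nat.card (e.toMonoidHom.comp f).ker * Nat.card V := h2.symm
        _ ≤ Nat.card V * 2 := by rw [mul_comm]; exact Nat.mul_le_mul_left _ h3
    omega
  have hpre : ∀ (x : G) (hx : x ∈ (centralizer ({E.t} : Set G))) (hxL : π ⟨x, hx⟩ ∈ L),
      e ⟨_, hxL⟩ ∈ (P : Subgroup (Matrix.ProjectiveSpecialLinearGroup (Fin 2) F)) → x ∈ S := by
    intro x hx hxL hP
    rw [← hVeq] at hP
    obtain ⟨s, hs⟩ := hP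
    have hs' : π ⟨s, hle s.2⟩ = π ⟨x, hx⟩ := congrArg Subtype.val (e.injective hs)
    have h1 : π (⟨s, hle s.2⟩⁻¹ * ⟨x, hx⟩) = 1 := by rw [map_mul, map_inv, hs', inv_mul_cancel]
    have e2 : x = s * ((s : G)⁻¹ * x) := by group
    rw [e2]
    rcases hk _ h1 with h | h <;> simp only [coe_mul, coe_inv] at h <;> rw [h]
    · exact mul_mem s.2 (one_mem _)
    · exact mul_mem s.2 E.mem
  have hAC : A ≤ (centralizer ({E.t} : Set G)) := fun a ha =>
    mem_centralizer_singleton_iff.2 (mem_centralizer_iff.1 ha E.t E.mem).symm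
  have hKS : K ⊓ A ≤ S := fun x hx => by
    have hxC := hKC hx.1
    refine hpre x hxC ((hmemK x hxC).1 hx.1) ?_
    rw [← hcP, mem_centralizer_iff, ← hVeq]
    rintro y ⟨s, rfl⟩
    have hcom : (⟨s, hle s.2⟩ : (centralizer ({E.t} : Set G))) * ⟨x, hxC⟩ = ⟨x, hxC⟩ * ⟨s, hle s.2⟩ :=
      Subtype.ext (mem_centralizer_iff.1 hx.2 s s.2)
    show e (f s) * _ = _ * e (f s)
    rw [← map_mul, ← map_mul]
    refine congrArg e (Subtype.ext ?_)
    show π _ * π _ = π _ * π _
    rw [← map_mul, ← map_mul, hcom]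
  -- a rotation in `K`
  obtain ⟨k, hkK, hkN, hkA⟩ : ∃ k ∈ K, k ∈ N ∧ k ∉ A := by
    obtain ⟨y, hy, hyP⟩ : ∃ y ∈ normalizer ((P : Subgroup (Matrix.ProjectiveSpecialLinearGroup (Fin 2) F)) :
        Set (Matrix.ProjectiveSpecialLinearGroup (Fin 2) F)),
        y ∉ (P : Subgroup (Matrix.ProjectiveSpecialLinearGroup (Fin 2) F)) :=
      SetLike.not_le_iff_exists.1 fun (h : normalizer ((P : Subgroup (Matrix.ProjectiveSpecialLinearGroup
        (Fin 2) F)) : Set (Matrix.ProjectiveSpecialLinearGroup (Fin 2) F)) ≤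
        (P : Subgroup (Matrix.ProjectiveSpecialLinearGroup (Fin 2) F))) => by
        have := card_dvd_of_le h
        rw [hnP, hP4] at this
        norm_num at this
    obtain ⟨⟨y, hyL⟩, rfl⟩ := e.surjective y
    obtain ⟨⟨k, hk'⟩, rfl⟩ := hsurj y
    have hkK : k ∈ K := (hmemK k hk').2 hyL
    refine ⟨k, hkK, mem_normalizer_of_forall fun s hs => ?_, fun hA => hyP ?_⟩
    · have hxL : π ⟨k * s * k⁻¹, mul_mem (mul_mem hk' (hle hs)) (inv_mem hk')⟩ ∈ L :=
        (hmemK _ _).1 (hKn k hk' s (hSK hs))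
      refine hpre _ _ hxL ?_
      have hsP : e ⟨_, himg s hs⟩ ∈ (P : Subgroup (Matrix.ProjectiveSpecialLinearGroup (Fin 2) F)) :=
        hVeq ▸ ⟨⟨s, hs⟩, rfl⟩
      have h := (mem_normalizer_iff.1 hy _).1 hsP
      rw [← map_inv, ← map_mul, ← map_mul] at h
      have e2 : (⟨_, hxL⟩ : L) = ⟨_, hyL⟩ * ⟨_, himg s hs⟩ * (⟨_, hyL⟩ : L)⁻¹ := Subtype.ext (by
        simp only [coe_mul, coe_inv, ← map_inv, ← map_mul]
        rfl)
      rwa [e2]
    · rw [← hVeq]
      exact ⟨⟨k, hKS ⟨hkK, hA⟩⟩, rfl⟩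
  -- `N(S) ∩ (centralizer ({E.t} : Set G))(E.t) = (centralizer ({E.t} : Set G))(S) ⟨k⟩`
  have hNN : ∀ n ∈ N, n ∈ (centralizer ({E.t} : Set G)) → ∃ a ∈ A, ∃ k' ∈ K, n = a * k' := by
    intro n hn hnC
    have hAM : A ≤ (centralizer ({E.t} : Set G)) ⊓ N := le_inf hAC (centralizer_le_normalizer _)
    have h21 := relIndex_mul_relIndex A ((centralizer ({E.t} : Set G)) ⊓ N) N hAM inf_le_right
    rw [relIndex_normalizer_inf E.card_S E.sq E.mem E.orderOf_t
      (fun x hx hx2 => hloc.fuse E.t E.mem x hx E.ne ((E.orderOf_two_iff hx).1 hx2)),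
      hloc.auto] at h21
    have h3 : A.relIndex ((centralizer ({E.t} : Set G)) ⊓ N) = 3 := by omega
    have hnorm : zpowers k ≤ normalizer (A : Set G) := zpowers_le.2 (mem_normalizer_of_forall fun a ha =>
      mem_centralizer_iff.2 fun s hs => by
        have h := mem_centralizer_iff.1 ha _ ((mem_normalizer_iff''.1 hkN s).1 hs)
        calc s * (k * a * k⁻¹) = k * (k⁻¹ * s * k * a) * k⁻¹ := by group
          _ = k * a * k⁻¹ * s := by rw [h]; group)
    have hMle : A ⊔ zpowers k ≤ (centralizer ({E.t} : Set G)) ⊓ N := sup_le hAM (zpowers_le.2 ⟨hKC hkK, hkN⟩)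
    have h2 := relIndex_mul_relIndex A (A ⊔ zpowers k) ((centralizer ({E.t} : Set G)) ⊓ N) le_sup_left hMle
    rw [h3] at h2
    have htop : (A ⊔ zpowers k).relIndex ((centralizer ({E.t} : Set G)) ⊓ N) = 1 := by
      rcases (Nat.dvd_prime Nat.prime_three).1 ⟨_, h2.symm⟩ with h | h
      · exact absurd (relIndex_eq_one.1 h (mem_sup_right (mem_zpowers k))) hkA
      · rw [h] at h2; omega
    have hmem : n ∈ ((A ⊔ zpowers k : Subgroup G) : Set G) := relIndex_eq_one.1 htop ⟨hnC, hn⟩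
    rw [coe_mul_of_right_le_normalizer_left A (zpowers k) hnorm] at hmem
    obtain ⟨a, ha, k', hk', rfl⟩ := hmem
    exact ⟨a, ha, k', (zpowers_le.2 hkK) hk', rfl⟩
  refine dvd_index_of_dvd_relIndex E.noncomm E.card_S E.sq E.mem E.orderOf_t
    (fun x hx hx2 => hloc.fuse E.t E.mem x hx E.ne ((E.orderOf_two_iff hx).1 hx2))
    hKC hKn hab hSK hKS ⟨k, hkK, hkN, hkA⟩ hNN hl ?_
  have : K.relIndex (centralizer ({E.t} : Set G)) = L.index := by
    rw [relIndex, hK, subgroupOf, comap_map_eq_self_of_injective (Subgroup.subtype_injective (centralizer ({E.t} : Set G))), hK₀,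
      index_comap_of_surjective _ hsurj]
  rwa [this]

end CfsgLib.Walter
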