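import Cfsg.Agent.Lib.Walter.ActEight
import Cfsg.Agent.Lib.GW.Done
import Cfsg.Agent.Lib.GW.UniqOne
import Cfsg.Agent.Lib.GW.TopFacts
import Cfsg.Agent.Lib.Components.Local

/-!
Walter, rank 3, Lemma T: odd subgroups normalised by the centraliser of an involution of `S`, in a
group with an involution central modulo the odd core.
-/

set_option autoImplicit false
set_option linter.style.haveILetI false
set_option linter.unusedSectionVars false

namespace CfsgLib.Walter

open Subgroup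

universe u

variable {X : Type u} [Group X] [Finite X]

namespace ActEight

/-- A Sylow subgroup of a subgroup containing `S`. -/
theorem subtype {S : Sylow 2 X} (h : ActEight S) {K : Subgroup X} (hSK : (S : Subgroup X) ≤ K) :
    ActEight (S.subtype hSK) where
  card := by
    rw [Sylow.coe_subtype, Nat.card_congr (subgroupOfEquivOfLe hSK).toEquiv, h.card]
  sq x hx := Subtype.ext (h.sq _ (mem_subgroupOf.1 hx))

/-- A Sylow subgroup of a quotient by a subgroup of odd order. -/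
theorem quotient {S : Sylow 2 X} (h : ActEight S) (N : Subgroup X) [N.Normal]
    (hN : Odd (Nat.card N)) : ActEight (S.mapSurjective (QuotientGroup.mk'_surjective N)) where
  card := by
    rw [← h.card, Sylow.coe_mapSurjective]
    refine (Nat.card_congr (Equiv.ofBijective ((QuotientGroup.mk' N).subgroupMap (S : Subgroup X))
      ⟨fun x y e => ?_, (QuotientGroup.mk' N).subgroupMap_surjective _⟩)).symm
    have e' : QuotientGroup.mk' N (x : X) = QuotientGroup.mk' N (y : X) := congrArg Subtype.val e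
    have h1 : ((x : X))⁻¹ * y ∈ N := QuotientGroup.eq.1 e'
    have h2 := CfsgLib.RankOneInvol.eq_one_of_mem_of_sq hN h1
      (h.sq _ (mul_mem (inv_mem x.2) y.2))
    exact Subtype.ext (inv_mul_eq_one.1 h2)
  sq := by
    rintro _ ⟨x, hx, rfl⟩
    rw [← map_mul, h.sq x hx, map_one]

/-- With a central involution `z`, no element carries `t` to `t z`. -/
theorem not_conj_mul {P : Sylow 2 X} (h : ActEight P) {z t c : X} (hzP : z ∈ (P : Subgroup X))
    (hz : z ≠ 1) (hzc : z ∈ center X) (ht : t ∈ (P : Subgroup X)) : c * t * c⁻¹ ≠ t * z := by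
  intro e
  obtain ⟨n, -, hn, hne⟩ := h.exists_normalizer (X := ⊤) le_top (mem_top c) ht
    (e ▸ mul_mem ht hzP)
  rw [e] at hne
  have hnz : n * z * n⁻¹ = z := by
    rw [mem_center_iff.1 hzc n, mul_inv_cancel_right]
  have h2 := h.no_swap hn ht hne (by
    rw [show n * (t * z) * n⁻¹ = (n * t * n⁻¹) * (n * z * n⁻¹) by group, hne, hnz, mul_assoc,
      h.sq z hzP, mul_one])
  exact hz (left_eq_mul.1 h2)

/-- In a core-free group with a central involution, an odd subgroup normalised by the centraliser of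
an involution of `P` commutes with it. -/
theorem commute_of_normalized {P : Sylow 2 X} (h : ActEight P) {z : X}
    (hzP : z ∈ (P : Subgroup X)) (hz : z ≠ 1) (hzc : z ∈ center X) (hO : Cfsg.oddCore X = ⊥)
    {t : X} (ht : t ∈ (P : Subgroup X)) {B : Subgroup X} (hB : Odd (Nat.card B))
    (hn : ∀ c, c * t = t * c → ∀ x ∈ B, c * x * c⁻¹ ∈ B) : ∀ x ∈ B, x * t = t * x := by
  haveI : Fact (Nat.Prime 2) := ⟨Nat.prime_two⟩
  classical
  set Z := zpowers z with hZ
  haveI hZn : Z.Normal := ⟨fun x hx g => by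
    have hxc : x ∈ center X := zpowers_le.2 hzc hx
    rwa [mem_center_iff.1 hxc g, mul_inv_cancel_right]⟩
  have hZmem : ∀ x, x ∈ Z ↔ x = 1 ∨ x = z := fun x => by
    refine ⟨fun hx => ?_, fun hx => ?_⟩
    · obtain ⟨i, rfl⟩ := mem_zpowers_iff.1 hx
      obtain ⟨j, rfl | rfl⟩ := Int.even_or_odd' i
      · left; rw [zpow_mul, zpow_two, h.sq z hzP, one_zpow]
      · right; rw [zpow_add, zpow_mul, zpow_two, h.sq z hzP, one_zpow, one_mul, zpow_one]
    · rcases hx with rfl | rfl
      exacts [one_mem _, mem_zpowers _]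
  by_cases htZ : t ∈ Z
  · have htc : t ∈ center X := zpowers_le.2 hzc htZ
    exact fun x _ => mem_center_iff.1 htc x
  let π := QuotientGroup.mk' Z
  have hπ : ∀ x, π x = 1 ↔ x ∈ Z := fun x => QuotientGroup.eq_one_iff x
  have hπs : Function.Surjective π := QuotientGroup.mk'_surjective Z
  set P' := P.mapSurjective hπs with hP'
  have hP'sq : ∀ a ∈ (P' : Subgroup (X ⧸ Z)), a * a = 1 := by
    rintro _ ⟨x, hx, rfl⟩
    rw [← map_mul, h.sq x hx, map_one]
  have hP'card : Nat.card (P' : Subgroup (X ⧸ Z)) = 4 := by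
    have hidx : (P' : Subgroup (X ⧸ Z)).index = (P : Subgroup X).index := by
      rw [hP', Sylow.coe_mapSurjective]
      exact index_map_eq _ hπs (by rw [QuotientGroup.ker_mk']; exact zpowers_le.2 hzP)
    have h1 := (P : Subgroup X).card_mul_index
    have h2 := (P' : Subgroup (X ⧸ Z)).card_mul_index
    have h3 := Z.card_mul_index
    rw [hidx] at h2
    rw [← index_eq_card] at h2
    rw [h.card] at h1
    rw [hZ, Nat.card_zpowers, h.orderOf_eq hzP hz] at h3
    have hpos : 0 < (P : Subgroup X).index := Nat.pos_of_ne_zero index_ne_zero_of_finite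
    have : Nat.card (P' : Subgroup (X ⧸ Z)) * (P : Subgroup X).index * 2 =
        8 * (P : Subgroup X).index := by rw [h2, h1, ← h3]; ring
    nlinarith
  haveI hK : IsKleinFour (P' : Subgroup (X ⧸ Z)) := by
    haveI : Nontrivial (P' : Subgroup (X ⧸ Z)) := Finite.one_lt_card_iff_nontrivial.1 (by omega)
    exact ⟨hP'card, Monoid.exponent_eq_prime_iff Nat.prime_two |>.2 fun a ha =>
      orderOf_eq_prime (by rw [pow_two]; exact Subtype.ext (hP'sq _ a.2)) ha⟩
  have hiso : Nonempty ((P' : Subgroup (X ⧸ Z)) ≃* DihedralGroup 2) := IsKleinFour.nonempty_mulEquiv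
  have hOY : Cfsg.oddCore (X ⧸ Z) = ⊥ := by
    set N := Cfsg.oddCore (X ⧸ Z)
    have hNodd : Odd (Nat.card N) := Nat.coprime_two_right.1 CfsgLib.PCore.pPrimeCore_coprime
    set N' := N.comap π with hN'
    have hzN : z ∈ N' := by
      show π z ∈ N
      rw [(hπ z).2 (mem_zpowers z)]
      exact one_mem N
    have hcard : Nat.card N' = 2 * Nat.card N := by
      have h1 := N'.card_mul_index
      have h2 := N.card_mul_index
      have h3 := Z.card_mul_index
      rw [hN', index_comap_of_surjective _ hπs] at h1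
      rw [← index_eq_card] at h2
      rw [hZ, Nat.card_zpowers, h.orderOf_eq hzP hz] at h3
      have hpos : 0 < N.index := Nat.pos_of_ne_zero index_ne_zero_of_finite
      have : Nat.card N' * N.index = 2 * Nat.card N * N.index := by
        rw [hN', h1, ← h3, ← h2]; ring
      exact Nat.eq_of_mul_eq_mul_right hpos this
    obtain ⟨O, hOodd, hOmem, hOcov⟩ := CfsgLib.GW.Uniq.exists_odd_part (C := N') (h.sq z hzP) hz hzN
      (by rw [hcard]; intro h4; obtain ⟨k, hk⟩ := h4; obtain ⟨l, hl⟩ := hNodd; omega)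
    haveI : O.Normal := ⟨fun x hx g => (hOmem _).2
      ⟨(inferInstance : N'.Normal).conj_mem x ((hOmem x).1 hx).1 g,
        CfsgLib.RankOneInvol.odd_orderOf_conj ((hOmem x).1 hx).2 g⟩⟩
    have hObot : O = ⊥ := le_bot_iff.1 (hO ▸ CfsgLib.PCore.le_pPrimeCore_of_not_dvd inferInstance
      (by rw [← even_iff_two_dvd, Nat.not_even_iff_odd]; exact hOodd))
    refine eq_bot_iff.2 fun y hy => ?_
    obtain ⟨x, rfl⟩ := hπs y
    rw [mem_bot, hπ]
    rcases hOcov x hy with h1 | h1 <;> rw [hObot, mem_bot] at h1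
    · rw [h1]; exact one_mem _
    · rw [eq_inv_of_mul_eq_one_left h1]; exact inv_mem (mem_zpowers z)
  have hgood := CfsgLib.GW.Main.good_of_simple CfsgLib.GW.Done.isPSLOrA7 (X ⧸ Z) P' 2 (Or.inl hiso)
  have htop := CfsgLib.GW.Main.top_of_good hOY hgood
  have hto : orderOf (π t) = 2 := CfsgLib.Involutions.orderOf_eq_two_iff_mul.2
    ⟨fun e => htZ ((hπ t).1 e), hP'sq _ (mem_map_of_mem π ht)⟩
  -- commuting modulo `Z` is commuting
  have hcomm : ∀ c, π c * π t = π t * π c → c * t = t * c := by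
    intro c hc
    have h1 : t⁻¹ * (c * t * c⁻¹) ∈ Z := by
      rw [← hπ, map_mul, map_mul, map_mul, map_inv, map_inv, hc]; group
    rcases (hZmem _).1 h1 with e | e
    · exact mul_inv_eq_iff_eq_mul.1 (inv_mul_eq_one.1 e).symm
    · exact absurd (inv_mul_eq_iff_eq_mul.1 e) (h.not_conj_mul hzP hz hzc ht)
  intro x hx
  refine hcomm x (CfsgLib.GW.TopFacts.centralizes_of_normalized htop P' hiso hto
    (B := B.map π) (hB.of_dvd_nat (card_map_dvd _ _)) ?_ (π x) (mem_map_of_mem π hx))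
  rintro c hc _ ⟨y, hy, rfl⟩
  obtain ⟨c, rfl⟩ := hπs c
  exact ⟨c * y * c⁻¹, hn c (hcomm c hc) y hy, by simp⟩

end ActEight

variable {G : Type u} [Group G] [Finite G] {S : Sylow 2 G}

/-- An element inverted by `t ∈ S` of an odd subgroup of `K` normalised by `C_K(t)` lies in `O(K)` if
some involution of `S` is central modulo `O(K)`. -/
theorem ActEight.mem_coreIn_of_normalized (h : ActEight S) {K : Subgroup G}
    (hSK : (S : Subgroup G) ≤ K) {z : G} (hz : z ∈ (S : Subgroup G)) (hz1 : z ≠ 1)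
    (hzK : ∀ k ∈ K, k * z * k⁻¹ * z⁻¹ ∈ CfsgLib.GW.coreIn K) {t : G} (ht : t ∈ (S : Subgroup G))
    {B : Subgroup G} (hBK : B ≤ K) (hB : Odd (Nat.card B))
    (hn : ∀ c ∈ K, c * t = t * c → ∀ x ∈ B, c * x * c⁻¹ ∈ B)
    {a : G} (ha : a ∈ B) (hat : t * a * t = a⁻¹) : a ∈ CfsgLib.GW.coreIn K := by
  haveI : Fact (Nat.Prime 2) := ⟨Nat.prime_two⟩
  have hO : (Nat.card (Cfsg.oddCore K)).Coprime 2 := CfsgLib.PCore.pPrimeCore_coprime
  have hOodd : Odd (Nat.card (Cfsg.oddCore K)) := Nat.coprime_two_right.1 hO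
  let π := QuotientGroup.mk' (Cfsg.oddCore K)
  have hπ : ∀ k : K, π k = 1 ↔ k ∈ Cfsg.oddCore K := fun k => QuotientGroup.eq_one_iff k
  have hP := (h.subtype hSK).quotient (Cfsg.oddCore K) hOodd
  have hzc : π ⟨z, hSK hz⟩ ∈ center (K ⧸ Cfsg.oddCore K) := by
    rw [mem_center_iff]
    intro y
    obtain ⟨k, rfl⟩ := QuotientGroup.mk'_surjective _ y
    have h1 : π (k * ⟨z, hSK hz⟩ * k⁻¹ * (⟨z, hSK hz⟩ : K)⁻¹) = 1 := by
      rw [hπ]
      obtain ⟨w, hw, hwe⟩ := hzK k k.2
      rwa [← (Subtype.ext hwe : w = k * ⟨z, hSK hz⟩ * k⁻¹ * (⟨z, hSK hz⟩ : K)⁻¹)]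
    simp only [map_mul, map_inv, mul_inv_eq_one] at h1
    exact mul_inv_eq_iff_eq_mul.1 h1
  have hz' : π ⟨z, hSK hz⟩ ≠ 1 := fun e => hz1 (congrArg Subtype.val
    (CfsgLib.RankOneInvol.eq_one_of_mem_of_sq hOodd ((hπ _).1 e) (Subtype.ext (h.sq z hz))))
  have key := hP.commute_of_normalized (z := π ⟨z, hSK hz⟩)
    (mem_map_of_mem π (mem_subgroupOf.2 hz)) hz' hzc CfsgLib.PCore.pPrimeCore_quotient_pPrimeCore
    (t := π ⟨t, hSK ht⟩) (mem_map_of_mem π (mem_subgroupOf.2 ht)) (B := (B.subgroupOf K).map π)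
    (Odd.of_dvd_nat (by rwa [← Nat.card_congr (subgroupOfEquivOfLe hBK).toEquiv] at hB)
      (card_map_dvd _ _)) ?_ (π ⟨a, hBK ha⟩) (mem_map_of_mem π (mem_subgroupOf.2 ha))
  · refine ⟨⟨a, hBK ha⟩, (hπ _).1 ?_, rfl⟩
    have hBodd : Odd (Nat.card ((B.subgroupOf K).map π)) := Odd.of_dvd_nat
      (by rwa [← Nat.card_congr (subgroupOfEquivOfLe hBK).toEquiv] at hB) (card_map_dvd _ _)
    refine CfsgLib.RankOneInvol.eq_one_of_mem_of_sq hBodd
      (mem_map_of_mem π (mem_subgroupOf.2 ha)) ?_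
    have e : (⟨t, hSK ht⟩ : K) * ⟨a, hBK ha⟩ * ⟨t, hSK ht⟩ = ⟨a, hBK ha⟩⁻¹ := Subtype.ext hat
    have e2 := congrArg π e
    rw [map_mul, map_mul, map_inv, mul_assoc, key, ← mul_assoc, ← map_mul,
      show (⟨t, hSK ht⟩ : K) * ⟨t, hSK ht⟩ = 1 from Subtype.ext (h.sq t ht), map_one, one_mul] at e2
    exact eq_inv_iff_mul_eq_one.1 e2
  · intro c hc x hx
    have hp : IsPGroup 2 (zpowers (⟨t, hSK ht⟩ : K)) :=
      ((S.subtype hSK).2).to_le (zpowers_le.2 (mem_subgroupOf.2 ht))
    have hc' : c ∈ centralizer (((zpowers (⟨t, hSK ht⟩ : K)).map π : Subgroup _) :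
        Set (K ⧸ Cfsg.oddCore K)) := by
      rw [MonoidHom.map_zpowers, zpowers_eq_closure, centralizer_closure,
        mem_centralizer_singleton_iff]
      exact hc
    rw [← CfsgLib.Components.map_centralizer_quotient hO hp] at hc'
    obtain ⟨k, hk, rfl⟩ := hc'
    obtain ⟨y, hy, rfl⟩ := hx
    rw [zpowers_eq_closure, centralizer_closure, SetLike.mem_coe, mem_centralizer_singleton_iff] at hk
    refine ⟨k * y * k⁻¹, mem_subgroupOf.2 ?_, by rw [map_mul, map_mul, map_inv]⟩
    exact hn k k.2 (congrArg Subtype.val hk) y (mem_subgroupOf.1 hy)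

/-- **Lemma T**: for `b ∈ S`, an element of `P` centralised by `b` and inverted by `t` lies in
`O(C(b))`, if `P` is odd and normalised by `C(t)`. -/
theorem ActEight.mem_core_of_inverted (h : ActEight S) {t b : G} (ht : t ∈ (S : Subgroup G))
    (hb : b ∈ (S : Subgroup G)) (hb1 : b ≠ 1) {P : Subgroup G} (hP : Odd (Nat.card P))
    (hn : ∀ c, c * t = t * c → ∀ x ∈ P, c * x * c⁻¹ ∈ P) {a : G} (ha : a ∈ P)
    (hab : a * b = b * a) (hat : t * a * t = a⁻¹) :
    a ∈ CfsgLib.GW.coreIn (centralizer ({b} : Set G)) := by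
  refine h.mem_coreIn_of_normalized (fun s hs => mem_centralizer_singleton_iff.2 (h.comm hs hb))
    hb hb1 (fun k hk => ?_) ht (B := P ⊓ centralizer ({b} : Set G)) inf_le_right
    (hP.of_dvd_nat (card_dvd_of_le inf_le_left)) (fun c hc hct x hx => ⟨hn c hct x hx.1,
      Subgroup.mul_mem _ (Subgroup.mul_mem _ hc hx.2) (Subgroup.inv_mem _ hc)⟩) ⟨ha, mem_centralizer_singleton_iff.2 hab⟩ hat
  rw [mem_centralizer_singleton_iff.1 hk, mul_inv_cancel_right, mul_inv_cancel]
  exact one_mem _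

end CfsgLib.Walter
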