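import Cfsg.Agent.Lib.Walter.CoreGoal

/-!
The theorem of Janko and Thompson on the order, from its form with an explicit disjunction.
-/

set_option autoImplicit false

namespace CfsgLib.Walter

open Subgroup

universe u

/-- The interface used in rank three follows from the explicit statement on the order. -/
theorem orderTheorem_of
    (h : ∀ (G : Type u) [Group G] [Finite G] [IsSimpleGroup G],
      (∀ P : Sylow 2 G, ∀ a b : P, a * b = b * a) →
      ∀ (F : Type) [Field F] [Fintype F], 3 ≤ Fintype.card F → ∀ t : G, orderOf t = 2 →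
        Nonempty (centralizer ({t} : Set G) ≃*
          Multiplicative (ZMod 2) × Matrix.ProjectiveSpecialLinearGroup (Fin 2) F) →
        (∃ m : ℕ, 1 ≤ m ∧ Fintype.card F = 3 ^ (2 * m + 1) ∧
            Nat.card G = (3 ^ (2 * m + 1)) ^ 3 * ((3 ^ (2 * m + 1)) ^ 3 + 1) * (3 ^ (2 * m + 1) - 1)) ∨
          ((Fintype.card F = 4 ∨ Fintype.card F = 5) ∧ Cfsg.IsJ1 G)) : OrderTheorem.{u} := by
  intro G _ _ hs hab F _ _ hq t ht hC
  rcases h G hab F hq t ht hC with ⟨m, hm, -, hG⟩ | ⟨-, hJ⟩
  · exact Or.inr ⟨hs, m, hm, hG⟩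
  · exact Or.inl hJ

end CfsgLib.Walter
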