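import Cfsg.Agent.Lib.Walter.LemmaT
import Cfsg.Agent.Lib.Structure.MinimalNormal
import Cfsg.Agent.Lib.Schur.Basic
import Cfsg.Agent.Lib.PF.OddOrder
import Cfsg.Agent.Lib.Components.Basic

/-!
Walter, rank 3: odd subgroups of a subgroup whose layer contains the Sylow 2-subgroup, given that
smaller simple groups with such Sylow subgroups have core-free centralisers of involutions.
-/

set_option autoImplicit false
set_option linter.style.haveILetI false
set_option linter.unusedSectionVars false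

namespace CfsgLib.Walter

open Subgroup CfsgLib.Structure

universe u

/-- The induction hypothesis: centralisers of involutions in smaller simple groups with elementary
Sylow 2-subgroups of order eight have no odd core. -/
def SmallCore (G : Type u) [Group G] : Prop :=
  ∀ (X : Type u) [Group X] [Finite X], IsSimpleGroup X → Nat.card X < Nat.card G →
    ∀ P : Sylow 2 X, ActEight P → ∀ v : X, orderOf v = 2 →
      Cfsg.oddCore (centralizer ({v} : Set X)) = ⊥

variable {X : Type u} [Group X] [Finite X]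

/-- A perfect group of odd order is trivial. -/
theorem eq_bot_of_perfect_odd {L : Subgroup X} (hperf : ⁅L, L⁆ = L) (hodd : Odd (Nat.card L)) :
    L = ⊥ := by
  haveI : Group.IsSolvable L := CfsgLib.PF.oddSolvable _ hodd
  have h0 : ∀ i, (derivedSeries L i).map L.subtype = L := by
    intro i
    induction i with
    | zero => rw [derivedSeries_zero, ← MonoidHom.range_eq_map, range_subtype]
    | succ i ih => rw [derivedSeries_succ, Subgroup.map_commutator, ih, hperf]
  obtain ⟨n, hn⟩ := (Group.isSolvable_def L).1 inferInstance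
  rw [← h0 n, hn, Subgroup.map_bot]

/-- A perfect subgroup lies in a normal subgroup of odd relative index. -/
theorem le_of_perfect_odd_index {L N : Subgroup X} [N.Normal] (hperf : ⁅L, L⁆ = L)
    (hodd : Odd (N.relIndex L)) : L ≤ N := by
  let π := QuotientGroup.mk' N
  have h1 : L.map π = ⊥ := by
    refine eq_bot_of_perfect_odd (by rw [← Subgroup.map_commutator, hperf]) ?_
    have e : N.relIndex L = Nat.card (L.map π) := by
      have e2 := Subgroup.relIndex_ker (K := L) π
      rwa [QuotientGroup.ker_mk'] at e2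
    rwa [← e]
  rw [Subgroup.map_eq_bot_iff, QuotientGroup.ker_mk'] at h1
  exact h1

namespace ActEight

variable {P : Sylow 2 X} (h : ActEight P)
include h

/-- The part of `P` in a normal subgroup of even order is non-trivial. -/
theorem exists_mem_of_even {N : Subgroup X} [N.Normal] (h2 : 2 ∣ Nat.card N) :
    ∃ z ∈ (P : Subgroup X), z ≠ 1 ∧ z ∈ N := by
  haveI : Fact (Nat.Prime 2) := ⟨Nat.prime_two⟩
  obtain ⟨z, hz⟩ := exists_prime_orderOf_dvd_card' 2 h2
  rw [← Subgroup.orderOf_coe] at hz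
  obtain ⟨g, hg⟩ := CfsgLib.Involutions.exists_conj_le_sylow
    (CfsgLib.Involutions.isPGroup_two_zpowers hz) P
  refine ⟨g * z * g⁻¹, hg _ (mem_zpowers _), fun e => ?_,
    (inferInstance : N.Normal).conj_mem _ z.2 g⟩
  rw [conj_eq_one_iff] at e
  rw [e, orderOf_one] at hz
  omega

/-- The normaliser of `P` in a perfect normal subgroup containing it is transitive. -/
theorem transitive_of_perfect (hO : Cfsg.oddCore X = ⊥) {L : Subgroup X} [L.Normal]
    (hperf : ⁅L, L⁆ = L) (hPL : (P : Subgroup X) ≤ L) :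
    ∀ x ∈ (P : Subgroup X), ∀ y ∈ (P : Subgroup X), x ≠ 1 → y ≠ 1 →
      ∃ n ∈ L, n ∈ normalizer ((P : Subgroup X) : Set X) ∧ n * x * n⁻¹ = y := by
  haveI : Fact (Nat.Prime 2) := ⟨Nat.prime_two⟩
  refine (h.fixed_or_transitive L).resolve_left ?_
  rintro ⟨z, hz, hz1, hfix⟩
  have hcore : CfsgLib.GW.coreIn L = ⊥ := by
    haveI : (Cfsg.oddCore L).Characteristic := inferInstance
    haveI : (CfsgLib.GW.coreIn L).Normal := ConjAct.normal_of_characteristic_of_normal
    exact le_bot_iff.1 (hO ▸ CfsgLib.PCore.le_pPrimeCore_of_not_dvd inferInstance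
      (by rw [← even_iff_two_dvd, Nat.not_even_iff_odd]; exact CfsgLib.GW.odd_card_coreIn L))
  have hzc : (⟨z, hPL hz⟩ : L) ∈ center L := mem_center_iff.2 fun k => Subtype.ext (by
    have h1 := h.mem_coreIn_of_fixed hPL hz hz1 hfix k.2
    rw [hcore, mem_bot, mul_inv_eq_one] at h1
    exact mul_inv_eq_iff_eq_mul.1 h1)
  have hd : (⟨z, hPL hz⟩ : L) ∈ commutator L := by
    have e : (commutator L).map L.subtype = L := by
      rw [commutator_def, Subgroup.map_commutator, ← MonoidHom.range_eq_map, range_subtype, hperf]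
    obtain ⟨w, hw, hwe⟩ : z ∈ (commutator L).map L.subtype := e.symm ▸ hPL hz
    rwa [← (Subtype.ext hwe : w = ⟨z, hPL hz⟩)]
  have h2 := CfsgLib.Schur.center_commutator_sylow (P.subtype hPL) hzc hd (mem_subgroupOf.2 hz)
  have hab : ⁅((P.subtype hPL : Sylow 2 L) : Subgroup L), ((P.subtype hPL : Sylow 2 L) : Subgroup L)⁆ = ⊥ :=
    commutator_eq_bot_iff_le_centralizer.2 (fun a ha => mem_centralizer_iff.2 fun b hb =>
      Subtype.ext (h.comm (mem_subgroupOf.1 hb) (mem_subgroupOf.1 ha)))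
  rw [hab, mem_bot] at h2
  exact hz1 (congrArg Subtype.val h2)

/-- A core-free group with a perfect normal subgroup containing `P` has a simple normal subgroup
containing `P`. -/
theorem exists_simple (hO : Cfsg.oddCore X = ⊥) {L : Subgroup X} [L.Normal]
    (hperf : ⁅L, L⁆ = L) (hPL : (P : Subgroup X) ≤ L) :
    ∃ N : Subgroup X, N.Normal ∧ (P : Subgroup X) ≤ N ∧ IsSimpleGroup N := by
  haveI : Fact (Nat.Prime 2) := ⟨Nat.prime_two⟩
  have htr := h.transitive_of_perfect hO hperf hPL
  have hP8 : (P : Subgroup X) ≠ ⊥ := fun e => by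
    have := h.card; rw [e, card_bot] at this; omega
  obtain ⟨N, hN, hNL⟩ := exists_isMinNormal_le (H := L) inferInstance fun e => hP8 (le_bot_iff.1 (e ▸ hPL))
  haveI := hN.normal
  have hev : 2 ∣ Nat.card N := by
    by_contra hodd
    exact hN.ne_bot (le_bot_iff.1 (hO ▸ CfsgLib.PCore.le_pPrimeCore_of_not_dvd inferInstance hodd))
  obtain ⟨z, hz, hz1, hzN⟩ := h.exists_mem_of_even hev
  have hPN : (P : Subgroup X) ≤ N := fun y hy => by
    rcases eq_or_ne y 1 with rfl | hy1
    · exact one_mem N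
    obtain ⟨n, -, -, hn⟩ := htr z hz y hy hz1 hy1
    exact hn ▸ hN.normal.conj_mem z hzN n
  have hidx : ∀ {M : Subgroup X}, M.Normal → (P : Subgroup X) ≤ M → Odd (M.relIndex L) :=
    fun {M} hMn hM => by
      haveI := hMn
      exact ((Nat.odd_iff.2 (Nat.two_dvd_ne_zero.1 P.not_dvd_index)).of_dvd_nat
        (index_dvd_of_le hM)).of_dvd_nat (relIndex_dvd_index_of_normal M L)
  have hna : ¬ IsMulCommutative N := by
    intro hab
    have h2 : IsPGroup 2 N := by
      obtain ⟨p, hp, he⟩ := hN.exponent_prime hab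
      have hp2 : p = 2 := by
        have := orderOf_dvd_of_pow_eq_one (he.2 z hzN)
        rw [h.orderOf_eq hz hz1] at this
        exact ((Nat.prime_dvd_prime_iff_eq Nat.prime_two hp).1 this).symm
      subst hp2
      exact fun x => ⟨1, Subtype.ext (by simpa using he.2 x x.2)⟩
    have hNP : N = (P : Subgroup X) := P.is_maximal' h2 hPN
    have hLN : L ≤ N := le_of_perfect_odd_index hperf (hidx inferInstance hPN)
    have : L = ⊥ := by
      rw [← hperf, commutator_eq_bot_iff_le_centralizer]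
      exact fun a ha => mem_centralizer_iff.2 fun b hb =>
        h.comm (hNP ▸ hLN hb) (hNP ▸ hLN ha)
    exact hP8 (le_bot_iff.1 (this ▸ hPL))
  have hNperf : ⁅N, N⁆ = N := by
    refine hN.eq_of_le inferInstance (commutator_le_self N) fun e => hna ⟨⟨fun a b => ?_⟩⟩
    exact Subtype.ext (mem_centralizer_iff.1 (commutator_eq_bot_iff_le_centralizer.1 e b.2) a a.2)
  haveI : Nontrivial N := (nontrivial_iff_ne_bot N).2 hN.ne_bot
  obtain ⟨T, hT⟩ := exists_isMinNormal (G := N)
  haveI := hT.normal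
  haveI hTs := hN.isSimpleGroup_minNormal hT
  have hTna := hN.not_isMulCommutative_minNormal hna hT
  have hTev : 2 ∣ Nat.card T := by
    by_contra hodd
    haveI : Group.IsSolvable T := CfsgLib.PF.oddSolvable _ (Nat.odd_iff.2 (Nat.two_dvd_ne_zero.1 hodd))
    exact hTna ⟨⟨fun a b => IsSimpleGroup.comm_iff_isSolvable.2 inferInstance a b⟩⟩
  obtain ⟨w, hw, hw1, hwT⟩ := (h.subtype hPN).exists_mem_of_even (N := T) hTev
  have hPT : (P : Subgroup X) ≤ T.map N.subtype := fun y hy => by
    rcases eq_or_ne y 1 with rfl | hy1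
    · exact one_mem _
    obtain ⟨n, hnN, -, hn⟩ := h.transitive_of_perfect hO hNperf hPN w (mem_subgroupOf.1 hw) y hy
      (fun e => hw1 (Subtype.ext e)) hy1
    exact ⟨⟨n, hnN⟩ * w * ⟨n, hnN⟩⁻¹, hT.normal.conj_mem w hwT _, hn⟩
  have hTtop : T = ⊤ := by
    have hperf' : ⁅(⊤ : Subgroup N), (⊤ : Subgroup N)⁆ = ⊤ := by
      refine map_injective N.subtype_injective ?_
      rw [Subgroup.map_commutator, ← MonoidHom.range_eq_map, range_subtype, hNperf]
    refine top_le_iff.1 (le_of_perfect_odd_index hperf' ?_)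
    rw [relIndex_top_right]
    refine (Nat.odd_iff.2 (Nat.two_dvd_ne_zero.1 (P.subtype hPN).not_dvd_index)).of_dvd_nat
      (index_dvd_of_le fun y hy => ?_)
    obtain ⟨v, hv, hve⟩ := hPT (mem_subgroupOf.1 hy)
    rwa [← (Subtype.ext hve : v = y)]
  exact ⟨N, inferInstance, hPN,
    IsSimpleGroup.isSimpleGroup_of_surjective T.subtype fun n => ⟨⟨n, hTtop ▸ mem_top n⟩, rfl⟩⟩

/-- In a core-free group with a simple normal subgroup containing `P`, odd subgroups normalised by
`C(t)` have no element inverted by `t` and centralised by an involution of `P`. -/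
theorem eq_one_of_inverted (hO : Cfsg.oddCore X = ⊥) {L : Subgroup X} [L.Normal]
    (hperf : ⁅L, L⁆ = L) (hPL : (P : Subgroup X) ≤ L)
    (hcore : ∀ N : Subgroup X, IsSimpleGroup N → ∀ Q : Sylow 2 N, ActEight Q → ∀ v : N,
      orderOf v = 2 → Cfsg.oddCore (centralizer ({v} : Set N)) = ⊥)
    {t v : X} (ht : t ∈ (P : Subgroup X)) (hv : v ∈ (P : Subgroup X)) (hv1 : v ≠ 1)
    {B : Subgroup X} (hB : Odd (Nat.card B)) (hn : ∀ c, c * t = t * c → ∀ x ∈ B, c * x * c⁻¹ ∈ B)
    {x : X} (hx : x ∈ B) (hxv : x * v = v * x) (hxt : t * x * t = x⁻¹) : x = 1 := by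
  obtain ⟨N, hNn, hPN, hNs⟩ := h.exists_simple hO hperf hPL
  haveI := hNn
  have hxodd : Odd (orderOf x) := CfsgLib.RankOneInvol.odd_orderOf_of_mem hB hx
  have hxN : x ∈ N := by
    obtain ⟨i, hi⟩ := CfsgLib.RankOneInvol.exists_pow_sq_eq hxodd
    rw [← hi, ← (Commute.refl x).mul_pow]
    refine pow_mem ?_ i
    have e : x * x = (x * t * x⁻¹) * t := by
      calc x * x = x * (t * x * t)⁻¹ := by rw [hxt, inv_inv]
        _ = (x * t⁻¹ * x⁻¹) * t⁻¹ := by group
        _ = (x * t * x⁻¹) * t := by rw [h.inv_eq ht]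
    rw [e]
    exact mul_mem (hNn.conj_mem t (hPN ht) x) (hPN ht)
  set C := centralizer ({(⟨v, hPN hv⟩ : N)} : Set N) with hC
  have hmem : ∀ c : N, c ∈ C ↔ (c : X) * v = v * c := fun c => by
    rw [hC, mem_centralizer_singleton_iff, Subtype.ext_iff]; rfl
  have hQC : ((P.subtype hPN : Sylow 2 N) : Subgroup N) ≤ C := fun s hs =>
    (hmem s).2 (h.comm (mem_subgroupOf.1 hs) hv)
  set B' : Subgroup C := (B.subgroupOf N).subgroupOf C with hB'
  have hB'odd : Odd (Nat.card B') := hB.of_dvd_nat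
    ((Subgroup.card_dvd_of_injective
        (((N.subtype.comp C.subtype).comp B'.subtype).codRestrict B fun y =>
          mem_subgroupOf.1 (mem_subgroupOf.1 y.2))
        fun y y' e => Subtype.ext (Subtype.ext (Subtype.ext (congrArg Subtype.val e :)))))
  have key := ((h.subtype hPN).subtype hQC).commute_of_normalized
    (z := ⟨⟨v, hPN hv⟩, (hmem _).2 rfl⟩) (mem_subgroupOf.2 (mem_subgroupOf.2 hv))
    (fun e => hv1 (congrArg (fun c : C => ((c : N) : X)) e))
    (mem_center_iff.2 fun c => Subtype.ext (Subtype.ext ((hmem c.1).1 c.2)))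
    (hcore N hNs (P.subtype hPN) (h.subtype hPN) ⟨v, hPN hv⟩
      (by rw [Subgroup.orderOf_mk, h.orderOf_eq hv hv1]))
    (t := ⟨⟨t, hPN ht⟩, (hmem _).2 (h.comm ht hv)⟩) (mem_subgroupOf.2 (mem_subgroupOf.2 ht))
    (B := B') hB'odd ?_ ⟨⟨x, hxN⟩, (hmem _).2 hxv⟩ (mem_subgroupOf.2 (mem_subgroupOf.2 hx))
  · have e : x * t = t * x := congrArg (fun c : C => ((c : N) : X)) key
    refine CfsgLib.RankOneInvol.eq_one_of_sq_of_odd hxodd ?_
    rw [mul_assoc, e, ← mul_assoc, h.sq t ht, one_mul] at hxt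
    exact eq_inv_iff_mul_eq_one.1 hxt
  · intro c hc y hy
    exact mem_subgroupOf.2 (mem_subgroupOf.2 (hn _ (congrArg (fun c : C => ((c : N) : X)) hc) _
      (mem_subgroupOf.1 (mem_subgroupOf.1 hy))))

end ActEight

variable {G : Type u} [Group G] [Finite G] {S : Sylow 2 G}

/-- If the layer of a proper subgroup `K` contains `S`, an element of an odd subgroup normalised by
`C_K(t)` that is centralised by an involution of `S` and inverted by `t` lies in `O(K)`. -/
theorem ActEight.mem_coreIn_of_layer (h : ActEight S) (hsmall : SmallCore G) {K : Subgroup G}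
    (hK : K ≠ ⊤) (hSK : (S : Subgroup G) ≤ K)
    (hSL : (S : Subgroup G) ≤ (Cfsg.layer K).map K.subtype) {t b : G} (ht : t ∈ (S : Subgroup G))
    (hb : b ∈ (S : Subgroup G)) (hb1 : b ≠ 1)
    {B : Subgroup G} (hBK : B ≤ K) (hB : Odd (Nat.card B))
    (hn : ∀ c ∈ K, c * t = t * c → ∀ x ∈ B, c * x * c⁻¹ ∈ B)
    {a : G} (ha : a ∈ B) (hab : a * b = b * a) (hat : t * a * t = a⁻¹) :
    a ∈ CfsgLib.GW.coreIn K := by
  haveI : Fact (Nat.Prime 2) := ⟨Nat.prime_two⟩
  have hO : (Nat.card (Cfsg.oddCore K)).Coprime 2 := CfsgLib.PCore.pPrimeCore_coprime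
  have hOodd : Odd (Nat.card (Cfsg.oddCore K)) := Nat.coprime_two_right.1 hO
  let π := QuotientGroup.mk' (Cfsg.oddCore K)
  have hπ : ∀ k : K, π k = 1 ↔ k ∈ Cfsg.oddCore K := fun k => QuotientGroup.eq_one_iff k
  have hP := (h.subtype hSK).quotient (Cfsg.oddCore K) hOodd
  haveI : ((Cfsg.layer K).map π).Normal :=
    Subgroup.Normal.map inferInstance π (QuotientGroup.mk'_surjective _)
  have hb' : π ⟨b, hSK hb⟩ ≠ 1 := fun e => hb1 (congrArg Subtype.val
    (CfsgLib.RankOneInvol.eq_one_of_mem_of_sq hOodd ((hπ _).1 e) (Subtype.ext (h.sq b hb))))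
  have key := hP.eq_one_of_inverted (L := (Cfsg.layer K).map π)
    CfsgLib.PCore.pPrimeCore_quotient_pPrimeCore
    (by rw [← Subgroup.map_commutator, CfsgLib.Components.commutator_layer_self])
    (by
      rintro _ ⟨y, hy, rfl⟩
      obtain ⟨w, hw, hwe⟩ := hSL (mem_subgroupOf.1 hy)
      exact ⟨w, hw, congrArg π (Subtype.ext hwe)⟩)
    (fun N hN Q hQ v hv => hsmall N hN ?_ Q hQ v hv)
    (t := π ⟨t, hSK ht⟩) (v := π ⟨b, hSK hb⟩) (mem_map_of_mem π (mem_subgroupOf.2 ht))
    (mem_map_of_mem π (mem_subgroupOf.2 hb)) hb' (B := (B.subgroupOf K).map π)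
    (Odd.of_dvd_nat (by rwa [← Nat.card_congr (subgroupOfEquivOfLe hBK).toEquiv] at hB)
      (card_map_dvd _ _)) ?_ (x := π ⟨a, hBK ha⟩) (mem_map_of_mem π (mem_subgroupOf.2 ha))
    (by rw [← map_mul, ← map_mul]; exact congrArg π (Subtype.ext hab))
    (by rw [← map_mul, ← map_mul, ← map_inv]; exact congrArg π (Subtype.ext hat))
  · exact ⟨⟨a, hBK ha⟩, (hπ _).1 key, rfl⟩
  · refine lt_of_le_of_lt ((Subgroup.card_le_card_group N).trans
      (Nat.card_le_card_of_surjective _ (QuotientGroup.mk'_surjective (Cfsg.oddCore K)))) ?_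
    exact lt_of_le_of_ne (Subgroup.card_le_card_group K) fun e => hK (eq_top_of_card_eq K e)
  · intro c hc x hx
    have hp : IsPGroup 2 (zpowers (⟨t, hSK ht⟩ : K)) :=
      ((S.subtype hSK).2).to_le (zpowers_le.2 (mem_subgroupOf.2 ht))
    have hc' : c ∈ centralizer (((zpowers (⟨t, hSK ht⟩ : K)).map π : Subgroup _) :
        Set (K ⧸ Cfsg.oddCore K)) := by
      rw [MonoidHom.map_zpowers, zpowers_eq_closure, centralizer_closure,
        mem_centralizer_singleton_iff]
      exact hc
    rw [← CfsgLib.Components.map_centralizer_quotient hO hp] at hc'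
    obtain ⟨k, hk, rfl⟩ := hc'
    obtain ⟨y, hy, rfl⟩ := hx
    rw [zpowers_eq_closure, centralizer_closure, SetLike.mem_coe, mem_centralizer_singleton_iff] at hk
    refine ⟨k * y * k⁻¹, mem_subgroupOf.2 ?_, by rw [map_mul, map_mul, map_inv]⟩
    exact hn k k.2 (congrArg Subtype.val hk) y (mem_subgroupOf.1 hy)

end CfsgLib.Walter
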