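import Cfsg.Agent.Lib.Walter.SimpleTop
import Cfsg.Agent.Lib.BenderQ.Bender
import Cfsg.Agent.Lib.BenderQ.Bridge
import Cfsg.Agent.S0223
import Cfsg.Agent.Lib.GW.Setup
import Cfsg.Agent.Lib.Tech46.Bender

/-!
Walter, rank 3, Step M: the fusion in a maximal subgroup over the nonsolvable centraliser of an
involution.
-/

set_option autoImplicit false
set_option linter.style.haveILetI false
set_option linter.unusedSectionVars false

namespace CfsgLib.Walter

open Subgroup

universe u

/-- The standing hypotheses of Step 2. -/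
structure MaxCtx (G : Type u) [Group G] where
  S : Sylow 2 G
  act : ActEight S
  t : G
  t_mem : t ∈ (S : Subgroup G)
  t_ne : t ≠ 1
  simple : IsSimpleGroup G
  nonsolv : ¬ Group.IsSolvable (centralizer ({t} : Set G))
  small : SmallCore G

namespace MaxCtx

variable {G : Type u} [Group G] (E : MaxCtx G)

/-- The centraliser of `t`. -/
abbrev H : Subgroup G := centralizer ({E.t} : Set G)

theorem mem_H {x : G} : x ∈ E.H ↔ x * E.t = E.t * x := mem_centralizer_singleton_iff

variable [Finite G]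

theorem t_sq : E.t * E.t = 1 := E.act.sq _ E.t_mem

theorem t_inv : E.t⁻¹ = E.t := E.act.inv_eq E.t_mem

theorem orderOf_t : orderOf E.t = 2 := E.act.orderOf_eq E.t_mem E.t_ne

theorem S_le_H : (E.S : Subgroup G) ≤ E.H := fun _ hs => E.mem_H.2 (E.act.comm hs E.t_mem)

theorem t_mem_H : E.t ∈ E.H := E.mem_H.2 rfl

include E in
theorem exists_noncomm : ∃ a b : G, a * b ≠ b * a := by
  by_contra hc
  push Not at hc
  exact E.nonsolv (Group.isSolvable_of_comm fun a b => Subtype.ext (hc a b))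

include E in
theorem not_isMulCommutative : ¬ IsMulCommutative G := fun h => by
  obtain ⟨a, b, hab⟩ := E.exists_noncomm
  exact hab (h.is_comm.comm a b)

include E in
theorem eq_bot_or_top {N : Subgroup G} (hN : N.Normal) : N = ⊥ ∨ N = ⊤ :=
  haveI := E.simple
  hN.eq_bot_or_eq_top

/-- Some element of `C(t)` normalising `S` acts non-trivially on it. -/
theorem exists_moving : ∃ n ∈ E.H, n ∈ normalizer ((E.S : Subgroup G) : Set G) ∧
    ∃ x ∈ (E.S : Subgroup G), n * x * n⁻¹ ≠ x := by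
  haveI : Fact (Nat.Prime 2) := ⟨Nat.prime_two⟩
  by_contra hno
  push Not at hno
  apply E.nonsolv
  set P : Sylow 2 E.H := E.S.subtype E.S_le_H with hP
  have hN : normalizer ((P : Subgroup E.H) : Set E.H) ≤ centralizer ((P : Subgroup E.H) : Set E.H) := by
    intro n hn
    refine mem_centralizer_iff.2 fun x hx => Subtype.ext ?_
    have hnG : (n : G) ∈ normalizer ((E.S : Subgroup G) : Set G) := by
      refine mem_normalizer_iff.2 fun a => ⟨fun ha => ?_, fun ha => ?_⟩
      · exact mem_subgroupOf.1 ((mem_normalizer_iff.1 hn ⟨a, E.S_le_H ha⟩).1 (mem_subgroupOf.2 ha))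
      · have haH : a ∈ E.H := by
          have := E.H.mul_mem (E.H.mul_mem (E.H.inv_mem n.2) (E.S_le_H ha)) n.2
          simpa [mul_assoc] using this
        exact mem_subgroupOf.1 ((mem_normalizer_iff.1 hn ⟨a, haH⟩).2 (mem_subgroupOf.2 ha))
    exact (mul_inv_eq_iff_eq_mul.1 (hno n n.2 hnG x (mem_subgroupOf.1 hx))).symm
  have hK := MonoidHom.ker_transferSylow_isComplement' P hN
  set K : Subgroup E.H := (MonoidHom.transferSylow P hN).ker with hKdef
  have hKi : K.index = 8 := by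
    rw [hK.symm.index_eq_card]; exact (E.act.subtype E.S_le_H).card
  have hKodd : Odd (Nat.card K) := by
    rw [Nat.odd_iff]
    by_contra h2
    have h2' : 2 ∣ Nat.card K := by omega
    obtain ⟨x, hx⟩ := exists_prime_orderOf_dvd_card' 2 h2'
    have hcompl := hK.disjoint
    rw [← Subgroup.orderOf_coe] at hx
    obtain ⟨g, hg⟩ := CfsgLib.Involutions.exists_conj_le_sylow
      (CfsgLib.Involutions.isPGroup_two_zpowers hx) P
    have hm : g * (x : E.H) * g⁻¹ ∈ K := (inferInstance : K.Normal).conj_mem _ x.2 g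
    have h1 := Subgroup.disjoint_def.1 hcompl hm (hg _ (mem_zpowers _))
    rw [conj_eq_one_iff] at h1
    rw [h1, orderOf_one] at hx
    omega
  haveI : Group.IsSolvable K := CfsgLib.PF.oddSolvable _ hKodd
  haveI : Group.IsSolvable (E.H ⧸ K) := by
    refine CfsgLib.DGroup.isSolvable_of_isPGroup (IsPGroup.of_card (n := 3) ?_)
    rw [← index_eq_card, hKi]; norm_num
  exact Group.isSolvable_of_ker_le_range K.subtype (QuotientGroup.mk' K)
    (by rw [QuotientGroup.ker_mk', Subgroup.range_subtype])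

/-- The normaliser of `S` is transitive. -/
theorem exists_conj {b : G} (hb : b ∈ (E.S : Subgroup G)) (hb1 : b ≠ 1) :
    ∃ g ∈ normalizer ((E.S : Subgroup G) : Set G), g * E.t * g⁻¹ = b := by
  haveI : Fact (Nat.Prime 2) := ⟨Nat.prime_two⟩
  rcases E.act.fixed_or_transitive ⊤ with ⟨z, hz, hz1, hfix⟩ | htr
  · exfalso
    have hcore : CfsgLib.GW.coreIn (⊤ : Subgroup G) = ⊥ := by
      refine (E.eq_bot_or_top ⟨fun x hx g => CfsgLib.GW.conj_mem_coreIn (mem_top g) hx⟩).resolve_right
        fun h => ?_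
      have h1 := CfsgLib.GW.odd_card_coreIn (⊤ : Subgroup G)
      rw [h, card_top] at h1
      have h2 : 2 ∣ Nat.card G := E.orderOf_t ▸ orderOf_dvd_natCard _
      exact Nat.not_even_iff_odd.2 h1 (even_iff_two_dvd.2 h2)
    have hc : z ∈ center G := mem_center_iff.2 fun g => by
      have h1 := E.act.mem_coreIn_of_fixed (X := ⊤) le_top hz hz1 hfix (mem_top g)
      rw [hcore, mem_bot, mul_inv_eq_one] at h1
      exact mul_inv_eq_iff_eq_mul.1 h1
    rcases E.eq_bot_or_top (inferInstance : (center G).Normal) with h | h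
    · rw [h, mem_bot] at hc; exact hz1 hc
    · exact E.not_isMulCommutative ⟨⟨fun a b => (mem_center_iff.1 (h ▸ mem_top b) a)⟩⟩
  · obtain ⟨g, -, hg, hge⟩ := htr E.t E.t_mem b hb E.t_ne hb1
    exact ⟨g, hg, hge⟩

theorem centralizer_le_conjBy {M : Subgroup G} (hM : E.H ≤ M) {g b : G} (hg : g * E.t * g⁻¹ = b) :
    centralizer ({b} : Set G) ≤ CfsgLib.GW.conjBy M g := fun x hx => by
  rw [CfsgLib.GW.mem_conjBy]
  refine hM (E.mem_H.2 ?_)
  have h1 := mem_centralizer_singleton_iff.1 hx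
  rw [← hg] at h1
  have := congrArg (fun w => g⁻¹ * w * g) h1
  simpa [mul_assoc] using this

/-- The centralisers of the involutions of `S` have the same order. -/
theorem card_centralizer_eq {v : G} (hv : v ∈ (E.S : Subgroup G)) (hv1 : v ≠ 1) :
    Nat.card (centralizer ({v} : Set G)) = Nat.card E.H := by
  obtain ⟨g, -, hg⟩ := E.exists_conj hv hv1
  have h : centralizer ({v} : Set G) = CfsgLib.GW.conjBy E.H g := by
    refine le_antisymm (E.centralizer_le_conjBy le_rfl hg) fun x hx => ?_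
    rw [CfsgLib.GW.mem_conjBy, E.mem_H] at hx
    rw [mem_centralizer_singleton_iff, ← hg]
    have := congrArg (fun w => g * w * g⁻¹) hx
    simpa [mul_assoc] using this
  rw [h, CfsgLib.GW.conjBy, card_map_of_injective (MulAut.conj g).injective]

/-- The normaliser of a Sylow 2-subgroup is solvable. -/
theorem isSolvable_normalizer (T : Sylow 2 G) (hT : ∀ x ∈ (T : Subgroup G), ∀ y ∈ (T : Subgroup G),
    x * y = y * x) : Group.IsSolvable (normalizer ((T : Subgroup G) : Set G)) := by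
  haveI : Fact (Nat.Prime 2) := ⟨Nat.prime_two⟩
  set N := normalizer ((T : Subgroup G) : Set G)
  set T' := (T : Subgroup G).subgroupOf N with hT'
  haveI : T'.Normal := normal_in_normalizer
  haveI : Group.IsSolvable T' := Group.isSolvable_of_comm fun a b =>
    Subtype.ext (Subtype.ext (hT _ (mem_subgroupOf.1 a.2) _ (mem_subgroupOf.1 b.2)))
  haveI : Group.IsSolvable (N ⧸ T') := by
    refine CfsgLib.PF.oddSolvable _ ?_
    rw [← index_eq_card, Nat.odd_iff]
    exact Nat.two_dvd_ne_zero.1 (T.subtype le_normalizer).not_dvd_index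
  exact Group.isSolvable_of_ker_le_range T'.subtype (QuotientGroup.mk' T')
    (by rw [QuotientGroup.ker_mk', Subgroup.range_subtype])

variable {M : Subgroup G}

/-- Step M: `N_M(S)` fixes `t`. -/
theorem fix_t (hM : IsCoatom M) (hHM : E.H ≤ M) :
    ∀ n ∈ M, n ∈ normalizer ((E.S : Subgroup G) : Set G) → n * E.t * n⁻¹ = E.t := by
  haveI := E.simple
  haveI : Fact (Nat.Prime 2) := ⟨Nat.prime_two⟩
  have hSM := E.S_le_H.trans hHM
  rcases E.act.fixed_or_transitive M with ⟨z, hz, hz1, hfix⟩ | htr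
  · obtain ⟨h, hh, hhN, hmove⟩ := E.exists_moving
    have hht : h * E.t * h⁻¹ = E.t := mul_inv_eq_iff_eq_mul.2 (E.mem_H.1 hh)
    rcases E.act.eq_of_fixed hhN E.t_mem E.t_ne hht hmove hz (hfix h (hHM hh) hhN) with e | e
    · exact absurd e hz1
    · exact e ▸ hfix
  exfalso
  have key : ∀ s ∈ M, orderOf s = 2 → ∃ m ∈ M, m * E.t * m⁻¹ = s := by
    intro s hsM hs
    obtain ⟨c, hc⟩ := CfsgLib.Involutions.exists_conj_le_sylow
      (CfsgLib.Involutions.isPGroup_two_zpowers (x := (⟨s, hsM⟩ : M))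
        (by rw [Subgroup.orderOf_mk, hs])) (E.S.subtype hSM)
    have h1 : (c : G) * s * (c : G)⁻¹ ∈ (E.S : Subgroup G) := mem_subgroupOf.1 (hc _ (mem_zpowers _))
    have h2 : (c : G) * s * (c : G)⁻¹ ≠ 1 := fun e => by
      rw [conj_eq_one_iff.1 e, orderOf_one] at hs; omega
    obtain ⟨n, hnM, -, hn⟩ := htr E.t E.t_mem _ h1 E.t_ne h2
    refine ⟨(c : G)⁻¹ * n, M.mul_mem (M.inv_mem c.2) hnM, ?_⟩
    rw [show (c : G)⁻¹ * n * E.t * ((c : G)⁻¹ * n)⁻¹ = (c : G)⁻¹ * (n * E.t * n⁻¹) * c by group, hn]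
    group
  have heven : Even (Nat.card M) := by
    rw [even_iff_two_dvd, ← E.orderOf_t, ← Subgroup.orderOf_mk E.t (hSM E.t_mem)]
    exact orderOf_dvd_natCard _
  have hse : Cfsg.IsStronglyEmbedded M := by
    refine (Cfsg.Agent.S0223.result M hM.1 heven).2 ⟨fun s hsM hs => ?_, fun a ha c hc ha2 hc2 _ => ?_⟩
    · obtain ⟨m, hm, hme⟩ := key s hsM hs
      refine (E.centralizer_le_conjBy hHM hme).trans ?_
      rw [CfsgLib.GW.conjBy_of_mem hm]
    · obtain ⟨m, hm, hme⟩ := key a ha ha2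
      obtain ⟨m', hm', hme'⟩ := key c hc hc2
      refine ⟨m' * m⁻¹, M.mul_mem hm' (M.inv_mem hm), ?_⟩
      rw [← hme, ← hme']; group
  obtain ⟨T, hT⟩ := CfsgLib.BenderQ.exists_sylow_normalizer CfsgLib.BenderQ.benderKernel
    E.exists_noncomm hse
  haveI := isSolvable_normalizer T fun x hx y hy => E.act.pgroup_comm T.2 hx hy
  exact E.nonsolv (Group.isSolvable_of_isSolvable_injective (inclusion_injective (hHM.trans hT.le)))

/-- `t` is isolated in `M`. -/
theorem conj_eq_t (hM : IsCoatom M) (hHM : E.H ≤ M) {m : G} (hm : m ∈ M)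
    (hmt : m * E.t * m⁻¹ ∈ (E.S : Subgroup G)) : m * E.t * m⁻¹ = E.t :=
  E.act.conj_eq_of_fixed (E.S_le_H.trans hHM) E.t_mem (E.fix_t hM hHM) hm hmt

/-- `t` is central modulo `O(M)`. -/
theorem comm_mem_core (hM : IsCoatom M) (hHM : E.H ≤ M) {m : G} (hm : m ∈ M) :
    m * E.t * m⁻¹ * E.t⁻¹ ∈ CfsgLib.GW.coreIn M :=
  E.act.mem_coreIn_of_fixed (E.S_le_H.trans hHM) E.t_mem E.t_ne (E.fix_t hM hHM) hm

end MaxCtx

end CfsgLib.Walter
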