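import Cfsg.Agent.Lib.Walter.StepTwoBase
import Cfsg.Agent.Lib.GW.UniqOne
import Cfsg.Agent.Lib.GW.Quad

/-!
Walter, rank 3, Step 2: a maximal subgroup over `C(t)` whose Fitting subgroup is an `r`-group.
-/

set_option autoImplicit false
set_option linter.style.haveILetI false
set_option linter.unusedSectionVars false

namespace CfsgLib.Walter

open Subgroup

universe u

variable {G : Type u} [Group G] [Finite G]

/-- Commutative 2-subgroups. -/
theorem ActEight.twoCyclicLike {S : Sylow 2 G} (h : ActEight S) : CfsgLib.GW.TwoCyclicLike G :=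
  fun a b hp _ _ => h.pgroup_comm hp (subset_closure (Or.inl rfl)) (subset_closure (Or.inr rfl))

/-- No section is isomorphic to `Qd(p)`. -/
theorem ActEight.not_involves_qd {S : Sylow 2 G} (h : ActEight S) (p : ℕ) [Fact p.Prime]
    (hp2 : p ≠ 2) : ¬ Cfsg.Involves ↥(Cfsg.qd p) G := by
  rintro ⟨K, R, hR, ⟨e⟩⟩
  exact CfsgLib.GW.not_twoCyclicLike_qd hp2 ((h.twoCyclicLike.subgroup K).map
    (e.toMonoidHom.comp (QuotientGroup.mk' (R.subgroupOf K)))
    (e.surjective.comp (QuotientGroup.mk'_surjective _)))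

namespace MaxCtx

variable (E : MaxCtx G) {M : Subgroup G}

include E in
/-- A maximal subgroup is its own normaliser. -/
theorem mem_of_conjBy_eq (hM : IsCoatom M) (hM0 : M ≠ ⊥) {g : G}
    (h : CfsgLib.GW.conjBy M g = M) : g ∈ M := by
  haveI := E.simple
  have hgn : g ∈ normalizer (M : Set G) :=
    mem_normalizer_iff.2 fun y => by
      have e : g * y * g⁻¹ ∈ CfsgLib.GW.conjBy M g ↔ y ∈ M := by
        rw [CfsgLib.GW.mem_conjBy, show g⁻¹ * (g * y * g⁻¹) * g = y by group]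
      rw [h] at e
      exact e.symm
  rw [← Cfsg.Tech46.Bender.normalizer_eq_of_isCoatom hM M hM0 le_rfl le_normalizer]
  exact hgn

theorem S_le_conjBy (hHM : E.H ≤ M) {g b : G} (hb : b ∈ (E.S : Subgroup G))
    (hg : g * E.t * g⁻¹ = b) : (E.S : Subgroup G) ≤ CfsgLib.GW.conjBy M g := fun _ hs =>
  E.centralizer_le_conjBy hHM hg (mem_centralizer_singleton_iff.2 (E.act.comm hs hb))

open CfsgLib.GW in
/-- Step 2, single prime: an element of `O_r(M)` centralised by `b` is centralised by `t`. -/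
theorem commute_single (hM : IsCoatom M) (hHM : E.H ≤ M) (hO2 : Cfsg.pCore 2 ↥M = ⊥)
    (hlayer : Cfsg.layer ↥M = ⊥) {r : ℕ} (hr : r.Prime)
    (hone : ∀ q : ℕ, q.Prime → q ∣ Nat.card (Cfsg.fittingSubgroup ↥M) → q = r)
    {b : G} (hb : b ∈ (E.S : Subgroup G)) (hb1 : b ≠ 1) (hbne : b ≠ E.t) {a : G}
    (ha : a ∈ Cfsg.Agent.S1312.coreIn r M) (hab : a * b = b * a) : a * E.t = E.t * a := by
  classical
  haveI := Fact.mk hr
  rcases eq_or_ne a 1 with rfl | ha1
  · rw [one_mul, mul_one]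
  have hr2 : r ≠ 2 := by
    rintro rfl
    rw [Cfsg.Agent.S1312.coreIn, hO2, Subgroup.map_bot, mem_bot] at ha
    exact ha1 ha
  set R : Subgroup G := Cfsg.Agent.S1312.coreIn r M with hRdef
  have hRM : R ≤ M := Cfsg.Agent.S1312.coreIn_le r M
  have hRn : ∀ m ∈ M, ∀ x ∈ R, m * x * m⁻¹ ∈ R := by
    rintro m hm _ ⟨y, hy, rfl⟩
    exact ⟨⟨m, hm⟩ * y * ⟨m, hm⟩⁻¹, (Cfsg.pCore_normal r M).conj_mem y hy _, rfl⟩
  -- `C_M(R) ≤ R`
  have hF : Cfsg.fittingSubgroup ↥M ≤ Cfsg.pCore r ↥M := by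
    rw [CfsgLib.Fitting.fitting_eq_iSup_pCore]
    refine iSup_le fun q => ?_
    have hq := Nat.prime_of_mem_primeFactors q.2
    haveI := Fact.mk hq
    by_cases h : (q : ℕ) = r
    · rw [h]
    · refine le_of_eq_of_le ?_ bot_le
      by_contra hne
      refine h (hone q hq ?_)
      obtain ⟨n, hn⟩ := IsPGroup.iff_card.1 (CfsgLib.PCore.pCore_isPGroup (p := (q : ℕ)) (G := ↥M))
      have hn0 : n ≠ 0 := by
        rintro rfl
        exact hne ((card_eq_one).1 (by simpa using hn))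
      exact ((dvd_pow_self _ hn0).trans (hn ▸ dvd_rfl)).trans
        (card_dvd_of_le (CfsgLib.Fitting.pCore_le_fitting hq))
  have hFs : Cfsg.generalizedFittingSubgroup ↥M = Cfsg.pCore r ↥M := by
    rw [Cfsg.generalizedFittingSubgroup, hlayer, bot_sup_eq]
    exact le_antisymm hF (CfsgLib.Fitting.pCore_le_fitting hr)
  have hc : centralizer (Cfsg.pCore r ↥M : Set ↥M) ≤ Cfsg.pCore r ↥M := by
    rw [← hFs]
    exact CfsgLib.Components.centralizer_generalizedFitting_le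
  -- `M = N(ZJ(P))`
  have hqd := E.act.not_involves_qd r hr2
  have hqdM : ¬ Cfsg.Involves ↥(Cfsg.qd r) ↥M :=
    CfsgLib.LocalEvenSix.QdStable.not_involves_subgroup hqd M
  set P0 : Sylow r ↥M := default with hP0
  set Z : Subgroup G := CfsgLib.PLocal.zj 0 ((P0 : Subgroup ↥M).map M.subtype) with hZdef
  have hZmap : Z = (CfsgLib.PLocal.zj 0 (P0 : Subgroup ↥M)).map M.subtype :=
    CfsgLib.PLocal.zj_map M.subtype_injective _
  have hZn : (CfsgLib.PLocal.zj 0 (P0 : Subgroup ↥M)).Normal := by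
    have := Cfsg.Agent.S0664.result hr2 (fun ⟨K, R', hR', h⟩ => hqdM ⟨K, R', hR', h⟩) hc P0
    rwa [CfsgLib.PLocal.centerThompsonAOf_eq, ← CfsgLib.PLocal.zj_zero] at this
  have hRP0 : Cfsg.pCore r ↥M ≤ (P0 : Subgroup ↥M) := CfsgLib.PCore.pCore_le_sylow P0
  have hRP : R ≤ (P0 : Subgroup ↥M).map M.subtype := map_mono hRP0
  have hP0ne : (P0 : Subgroup ↥M) ≠ ⊥ := fun h => by
    obtain ⟨y, hy, rfl⟩ := ha
    have := hRP0 hy
    rw [h, mem_bot] at this
    exact ha1 (by rw [this]; rfl)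
  have hZne : Z ≠ ⊥ := by
    rw [hZmap, Ne, map_eq_bot_iff_of_injective _ M.subtype_injective, CfsgLib.PLocal.zj_zero]
    exact CfsgLib.PLocal.centerJ_zero_ne_bot P0.2 hP0ne
  have hMN : M ≤ normalizer (Z : Set G) := by
    rw [hZmap]
    haveI := hZn
    exact Cfsg.Agent.S1312.le_normalizer_map _
  have hNne : normalizer (Z : Set G) ≠ ⊤ := by
    intro h
    rcases E.eq_bot_or_top (normalizer_eq_top_iff.1 h) with h1 | h1
    · exact hZne h1
    · refine hM.1 (top_le_iff.1 (h1 ▸ ?_))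
      rw [hZmap]
      exact map_subtype_le _
  have hMeq : normalizer (Z : Set G) = M :=
    ((hM.le_iff.1 hMN).resolve_left hNne)
  -- `P` is a Sylow subgroup of `G`
  obtain ⟨P, hPle⟩ := (P0.2.map M.subtype).exists_le_sylow
  have hP : (P : Subgroup G) = (P0 : Subgroup ↥M).map M.subtype := by
    refine le_antisymm ?_ hPle
    by_contra hnot
    have hlt := lt_of_le_not_ge hPle hnot
    have hnil : Group.IsNilpotent (P : Subgroup G) := P.2.isNilpotent
    set A := ((P0 : Subgroup ↥M).map M.subtype).subgroupOf (P : Subgroup G) with hA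
    have hAtop : A ≠ ⊤ := fun h => hnot (subgroupOf_eq_top.1 h)
    have hNA := (Group.normalizerCondition_of_isNilpotent : NormalizerCondition (P : Subgroup G)) A (lt_top_iff_ne_top.2 hAtop)
    obtain ⟨x, hx, hxA⟩ := SetLike.exists_of_lt hNA
    have hxN : (x : G) ∈ normalizer (((P0 : Subgroup ↥M).map M.subtype : Subgroup G) : Set G) := by
      rw [mem_normalizer_iff]
      intro y
      constructor
      · intro hy
        have := (mem_normalizer_iff.1 hx ⟨y, hPle hy⟩).1 (mem_subgroupOf.2 hy)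
        exact mem_subgroupOf.1 this
      · intro hy
        have hyP : y ∈ (P : Subgroup G) := by
          have := mul_mem (mul_mem (inv_mem x.2) (hPle hy)) x.2
          simpa [mul_assoc] using this
        have := (mem_normalizer_iff.1 hx ⟨y, hyP⟩).2 (mem_subgroupOf.2 hy)
        exact mem_subgroupOf.1 this
    have hxM : (x : G) ∈ M := hMeq ▸ CfsgLib.PLocal.normalizer_le_normalizer_zj 0 _ hxN
    refine hxA (mem_subgroupOf.2 ?_)
    have hp : IsPGroup r ((P : Subgroup G).subgroupOf M) := P.2.comap_subtype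
    have heq := P0.is_maximal' hp (fun y hy => mem_subgroupOf.2 (hPle (mem_map_of_mem _ hy)))
    exact ⟨⟨x, hxM⟩, heq ▸ mem_subgroupOf.2 x.2, rfl⟩
  -- fusion
  have hfus : ∀ D : Subgroup G, D ≤ (P : Subgroup G) → ∀ x : G,
      (∀ d ∈ D, x * d * x⁻¹ ∈ (P : Subgroup G)) →
      ∃ n ∈ M, ∀ d ∈ D, x * d * x⁻¹ = n * d * n⁻¹ := by
    intro D hD x hx
    obtain ⟨n, hn, h⟩ := CfsgLib.LocalEvenSix.QdControl.ctrl_of_not_involves (e := 0) hr2
      (Or.inl rfl) hqd P (P : Subgroup G) ⟨le_rfl, fun _ _ _ h => h⟩ D hD x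
      (by rintro _ ⟨d, hd, rfl⟩; exact hx d hd)
    refine ⟨n, ?_, h⟩
    rwa [hP, ← hZdef, hMeq] at hn
  have hclosed : ∀ x ∈ R, ∀ y : G, y * x * y⁻¹ ∈ M → y * x * y⁻¹ ∈ R := by
    intro x hx y hy
    obtain ⟨k, hk⟩ := P.2 ⟨x, hP ▸ hRP hx⟩
    have hxk : x ^ r ^ k = 1 := congrArg Subtype.val hk
    have hp : IsPGroup r (zpowers (⟨y * x * y⁻¹, hy⟩ : M)) := by
      obtain ⟨e, -, he⟩ := (Nat.dvd_prime_pow hr).1 (orderOf_dvd_of_pow_eq_one
        (x := (⟨y * x * y⁻¹, hy⟩ : M)) (n := r ^ k)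
        (Subtype.ext (by simp [hxk])))
      exact IsPGroup.of_card (n := e) (by rw [Nat.card_zpowers, he])
    obtain ⟨m, hm⟩ := CfsgLib.Involutions.exists_conj_le_sylow hp P0
    have h1 : (m : G) * (y * x * y⁻¹) * (m : G)⁻¹ ∈ (P : Subgroup G) := by
      rw [hP]
      exact ⟨_, hm _ (mem_zpowers _), rfl⟩
    obtain ⟨n, hn, h⟩ := hfus (zpowers x) (zpowers_le.2 (hP ▸ hRP hx)) ((m : G) * y) (by
      rintro _ ⟨i, rfl⟩
      rw [← MulAut.conj_apply, map_zpow, MulAut.conj_apply]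
      refine zpow_mem ?_ i
      simpa [mul_assoc] using h1)
    have h2 := hRn n hn x hx
    rw [← h x (mem_zpowers x)] at h2
    have h3 := hRn (m : G)⁻¹ (inv_mem m.2) _ h2
    simpa [mul_assoc] using h3
  -- the conjugate of `M` over `C(b)`
  obtain ⟨g, hgN, hgt⟩ := E.exists_conj hb hb1
  have hSM : (E.S : Subgroup G) ≤ M := E.S_le_H.trans hHM
  have hM0 : M ≠ ⊥ := fun h => E.t_ne (mem_bot.1 (h ▸ hSM E.t_mem))
  set M' := conjBy M g with hM'
  have hSM' : (E.S : Subgroup G) ≤ M' := E.S_le_conjBy hHM hb hgt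
  have hCb : centralizer ({b} : Set G) ≤ M' := E.centralizer_le_conjBy hHM hgt
  set D : Subgroup G := R ⊓ conjBy R g with hDdef
  have hD : ∀ x, x ∈ D ↔ x ∈ R ∧ g⁻¹ * x * g ∈ R := fun x => by
    rw [hDdef, mem_inf, mem_conjBy]
  have haD : a ∈ D := by
    refine (hD a).2 ⟨ha, ?_⟩
    have h1 := mem_conjBy.1 (hCb (mem_centralizer_singleton_iff.2 hab))
    have h2 := hclosed a ha g⁻¹ (by simpa using h1)
    simpa using h2
  set C : Subgroup G := centralizer (D : Set G) with hCdef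
  have hnorm : ∀ v : G, v ∈ M → v ∈ M' → v ∈ normalizer (C : Set G) := by
    intro v hv hv'
    refine Cfsg.Tech46.Bender.le_normalizer_centralizer D (inf_normalizer_le_normalizer_inf ⟨?_, ?_⟩)
    · exact Cfsg.Tech46.Bender.coreIn_le_normalizer r M hv
    · have h1 := mem_conjBy.1 hv'
      refine mem_normalizer_iff.2 fun x => ?_
      rw [mem_conjBy, mem_conjBy]
      have := mem_normalizer_iff.1 (Cfsg.Tech46.Bender.coreIn_le_normalizer r M h1) (g⁻¹ * x * g)
      rw [show g⁻¹ * (v * x * v⁻¹) * g = g⁻¹ * v * g * (g⁻¹ * x * g) * (g⁻¹ * v * g)⁻¹ by group]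
      exact this
  -- some element of `C` moves `M` to the conjugate over `C(b)`
  obtain ⟨c, hcC, hcM⟩ : ∃ c ∈ C, conjBy M c = M' := by
    obtain ⟨n, hn, h⟩ := hfus D (fun x hx => hP ▸ hRP ((hD x).1 hx).1) g⁻¹ (fun x hx => by
      rw [inv_inv, hP]
      exact hRP ((hD x).1 hx).2)
    refine ⟨g * n, mem_centralizer_iff.2 fun x hx => ?_, ?_⟩
    · have h' := h x hx
      rw [inv_inv] at h'
      calc x * (g * n) = g * (g⁻¹ * x * g) * n := by group
        _ = g * (n * x * n⁻¹) * n := by rw [h']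
        _ = g * n * x := by group
    · rw [← conjBy_mul, conjBy_of_mem hn]
  have hgc : g⁻¹ * c ∈ M := E.mem_of_conjBy_eq hM hM0 (by
    rw [← conjBy_mul, hcM, hM', conjBy_mul, inv_mul_cancel, conjBy_of_mem (one_mem M)])
  -- the subgroup normalising `C` and fixing its coset of `t`
  have htC := hnorm E.t (hSM E.t_mem) (hSM' E.t_mem)
  have hconj : ∀ {p x : G}, p ∈ normalizer (C : Set G) → x ∈ C → p * x * p⁻¹ ∈ C :=
    fun hp hx => (mem_normalizer_iff.1 hp _).1 hx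
  let N : Subgroup G :=
    { carrier := {p | p ∈ normalizer (C : Set G) ∧ p * E.t * p⁻¹ * E.t ∈ C}
      one_mem' := ⟨one_mem _, by simp [E.t_sq]⟩
      mul_mem' := by
        rintro p q ⟨hp, hp'⟩ ⟨hq, hq'⟩
        refine ⟨mul_mem hp hq, ?_⟩
        have e : p * q * E.t * (p * q)⁻¹ * E.t =
            (p * (q * E.t * q⁻¹ * E.t) * p⁻¹) * (p * E.t * p⁻¹ * E.t) := by
          calc p * q * E.t * (p * q)⁻¹ * E.t
              = p * (q * E.t * q⁻¹) * (E.t * E.t) * p⁻¹ * E.t := by rw [E.t_sq]; group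
            _ = _ := by group
        rw [e]
        exact C.mul_mem (hconj hp hq') hp'
      inv_mem' := by
        rintro p ⟨hp, hp'⟩
        refine ⟨inv_mem hp, ?_⟩
        have e : p⁻¹ * E.t * p⁻¹⁻¹ * E.t = p⁻¹ * (p * E.t * p⁻¹ * E.t)⁻¹ * p⁻¹⁻¹ := by
          simp only [mul_inv_rev, inv_inv, E.t_inv]
          group
        rw [e]
        exact hconj (inv_mem hp) (C.inv_mem hp') }
  set X : Subgroup G := N ⊓ M' with hX
  have hSX : (E.S : Subgroup G) ≤ X := fun s hs => ⟨⟨hnorm s (hSM hs) (hSM' hs), by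
    rw [E.act.comm hs E.t_mem, mul_inv_cancel_right, E.t_sq]; exact one_mem _⟩, hSM' hs⟩
  set u := c * E.t * c⁻¹ with hu
  have huM' : u ∈ M' := hcM ▸ (show u ∈ conjBy M c from ⟨E.t, hSM E.t_mem, rfl⟩)
  set d := E.t * u with hd
  have hdC : d ∈ C := by
    have h1 : E.t * c * E.t ∈ C := by simpa [E.t_inv] using hconj htC hcC
    have e : d = (E.t * c * E.t) * c⁻¹ := by rw [hd, hu]; group
    rw [e]
    exact C.mul_mem h1 (C.inv_mem hcC)
  have hdX : d ∈ X := ⟨⟨le_normalizer hdC, by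
    have h1 : E.t * d⁻¹ * E.t ∈ C := by simpa [E.t_inv] using hconj htC (C.inv_mem hdC)
    have e : d * E.t * d⁻¹ * E.t = d * (E.t * d⁻¹ * E.t) := by group
    rw [e]
    exact C.mul_mem hdC h1⟩, M'.mul_mem (hSM' E.t_mem) huM'⟩
  have huX : u ∈ X := by
    have e : u = E.t * d := by rw [hd, ← mul_assoc, E.t_sq, one_mul]
    rw [e]
    exact X.mul_mem (hSX E.t_mem) hdX
  have huo : orderOf (⟨u, huX⟩ : X) = 2 := by
    rw [Subgroup.orderOf_mk, hu, ← MulAut.conj_apply, MulEquiv.orderOf_eq, E.orderOf_t]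
  haveI : Fact (Nat.Prime 2) := ⟨Nat.prime_two⟩
  obtain ⟨x, hx⟩ := CfsgLib.Involutions.exists_conj_le_sylow
    (CfsgLib.Involutions.isPGroup_two_zpowers huo) (E.S.subtype hSX)
  have hxu : (x : G) * u * (x : G)⁻¹ ∈ (E.S : Subgroup G) := mem_subgroupOf.1 (hx _ (mem_zpowers _))
  have hxu' : (x : G) * u * (x : G)⁻¹ = b := by
    have hmM : g⁻¹ * (x : G) * g * (g⁻¹ * c) ∈ M := M.mul_mem (mem_conjBy.1 x.2.2) hgc
    have e : g⁻¹ * (x : G) * g * (g⁻¹ * c) * E.t * (g⁻¹ * (x : G) * g * (g⁻¹ * c))⁻¹ =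
        g⁻¹ * ((x : G) * u * (x : G)⁻¹) * g := by rw [hu]; group
    have h1 := E.conj_eq_t hM hHM hmM (e ▸ ActEight.conj_mem' hgN hxu)
    rw [e] at h1
    rw [← hgt]
    conv_rhs => rw [← h1]
    group
  have hbtC : b * E.t ∈ C := by
    have h1 : (x : G) * d * (x : G)⁻¹ ∈ C := hconj x.2.1.1 hdC
    have h2 : E.t * ((x : G) * d * (x : G)⁻¹) * E.t ∈ C := by simpa [E.t_inv] using hconj htC h1
    have e : b * E.t =
        ((x : G) * E.t * (x : G)⁻¹ * E.t) * (E.t * ((x : G) * d * (x : G)⁻¹) * E.t) := by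
      have ht2 : ∀ w : G, E.t * (E.t * w) = w := fun w => by rw [← mul_assoc, E.t_sq, one_mul]
      rw [← hxu', hd]
      simp only [mul_assoc, ht2, inv_mul_cancel_left]
    rw [e]
    exact C.mul_mem x.2.1.2 h2
  have h1 : Commute a (b * (b * E.t)) :=
    (show Commute a b from hab).mul_right (mem_centralizer_iff.1 hbtC a haD)
  rw [← mul_assoc, E.act.sq b hb, one_mul] at h1
  exact h1.eq

end MaxCtx

end CfsgLib.Walter
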