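import Cfsg.Agent.Lib.Walter.StepTwoBase
import Cfsg.Agent.Lib.Walter.StepTwoOne
import Cfsg.Agent.Lib.GW.UniqTwoAct
import Cfsg.Agent.Lib.GW.UniqTwo
import Cfsg.Agent.Lib.GW.Quad

/-!
Walter, rank 3, Step 2: a maximal subgroup over `C(t)` whose Fitting subgroup involves two primes.
-/

set_option autoImplicit false
set_option linter.style.haveILetI false
set_option linter.unusedSectionVars false

namespace CfsgLib.Walter

open Subgroup Cfsg.Tech46.Bender

universe u

variable {G : Type u} [Group G] [Finite G]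

open CfsgLib.GW (conjBy mem_conjBy conjBy_mul conjBy_of_mem)
open CfsgLib.GW.Uniq (pCoreOf_conjBy isCoatom_conjBy dvd_fitting_conjBy fixed_iff_commute
  two_dvd_card_inf_centralizer)

theorem conj_comm {g x w : G} (h : x * w = w * x) :
    g * x * g⁻¹ * (g * w * g⁻¹) = g * w * g⁻¹ * (g * x * g⁻¹) := by
  calc g * x * g⁻¹ * (g * w * g⁻¹) = g * (x * w) * g⁻¹ := by group
    _ = _ := by rw [h]; group

/-- The part of `S` in a perfect subgroup normalised by `K ≥ S` has order at least four. -/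
theorem ActEight.four_le_inf {S : Sylow 2 G} (h : ActEight S) {K L : Subgroup G}
    (hSK : (S : Subgroup G) ≤ K) (hLK : L ≤ K) (hLn : ∀ k ∈ K, ∀ x ∈ L, k * x * k⁻¹ ∈ L)
    (hperf : ⁅L, L⁆ = L) (hL : L ≠ ⊥) : 4 ≤ Nat.card (L ⊓ (S : Subgroup G) : Subgroup G) := by
  haveI : Fact (Nat.Prime 2) := ⟨Nat.prime_two⟩
  let Q : Sylow 2 L := default
  obtain ⟨m, hm⟩ := CfsgLib.Involutions.exists_conj_le_sylow
    (show IsPGroup 2 (((Q : Subgroup L).map L.subtype).subgroupOf K) from
      (Q.2.map L.subtype).comap_subtype) (S.subtype hSK)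
  have hle : Nat.card (Q : Subgroup L) ≤ Nat.card (L ⊓ (S : Subgroup G) : Subgroup G) := by
    refine Nat.card_le_card_of_injective (fun x => ⟨(m : G) * ((x : L) : G) * (m : G)⁻¹,
      hLn m m.2 _ (x : L).2, ?_⟩) fun x y e => ?_
    · exact mem_subgroupOf.1 (hm ⟨((x : L) : G), hLK (x : L).2⟩
        (mem_subgroupOf.2 (mem_map_of_mem _ x.2)))
    · exact Subtype.ext (Subtype.ext (mul_left_cancel (mul_right_cancel (congrArg Subtype.val e :))))
  by_contra hlt
  obtain ⟨n, hn⟩ := IsPGroup.iff_card.1 Q.2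
  have hn1 : n ≤ 1 := by
    by_contra h2
    have : 4 ≤ 2 ^ n := le_trans (by norm_num) (Nat.pow_le_pow_right two_pos (show 2 ≤ n by omega))
    omega
  have hcyc : IsCyclic (Q : Subgroup L) := by
    interval_cases n
    · rw [pow_zero] at hn
      exact @isCyclic_of_subsingleton _ _ (Nat.card_eq_one_iff_unique.1 hn).1
    · exact isCyclic_of_prime_card (p := 2) (by simpa using hn)
  haveI := CfsgLib.DGroup.isSolvable_of_cyclic_sylow Q hcyc
  have h0 : ∀ i, (derivedSeries L i).map L.subtype = L := by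
    intro i
    induction i with
    | zero => rw [derivedSeries_zero, ← MonoidHom.range_eq_map, range_subtype]
    | succ i ih => rw [derivedSeries_succ, Subgroup.map_commutator, ih, hperf]
  obtain ⟨k, hk⟩ := (Group.isSolvable_def L).1 inferInstance
  exact hL (by rw [← h0 k, hk, Subgroup.map_bot])

/-- A perfect subgroup commutes with an element normalising it and central modulo `O(K)`, if `O(K)`
commutes with it. -/
theorem commute_of_perfect {L O : Subgroup G} {z : G} (hperf : ⁅L, L⁆ = L)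
    (hz : ∀ x ∈ L, z * x * z⁻¹ ∈ L) (hzO : ∀ x ∈ L, x * z * x⁻¹ * z⁻¹ ∈ O)
    (hLO : ∀ o ∈ O, ∀ l ∈ L, o * l = l * o) : ∀ x ∈ L, x * z = z * x := by
  have hfL : ∀ x ∈ L, x * z * x⁻¹ * z⁻¹ ∈ L := fun x hx => by
    have h1 : x * (z * x⁻¹ * z⁻¹) ∈ L := mul_mem hx (hz _ (inv_mem hx))
    simpa [mul_assoc] using h1
  let φ : L →* G :=
    { toFun := fun x => (x : G) * z * (x : G)⁻¹ * z⁻¹
      map_one' := by simp
      map_mul' := fun x y => by
        have e : ((x * y : L) : G) * z * ((x * y : L) : G)⁻¹ * z⁻¹ =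
            (x : G) * ((y : G) * z * (y : G)⁻¹ * z⁻¹) * z * (x : G)⁻¹ * z⁻¹ := by
          rw [Subgroup.coe_mul]; group
        rw [e, ← hLO _ (hzO y y.2) x x.2]
        calc (y : G) * z * (y : G)⁻¹ * z⁻¹ * (x : G) * z * (x : G)⁻¹ * z⁻¹
            = ((y : G) * z * (y : G)⁻¹ * z⁻¹) * ((x : G) * z * (x : G)⁻¹ * z⁻¹) := by group
          _ = _ := hLO _ (hzO y y.2) _ (hfL x x.2) }
  have hrange : (⊤ : Subgroup L).map φ = ⊥ := by
    have htop : ⁅(⊤ : Subgroup L), (⊤ : Subgroup L)⁆ = ⊤ := by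
      refine map_injective L.subtype_injective ?_
      rw [Subgroup.map_commutator, ← MonoidHom.range_eq_map, range_subtype, hperf]
    rw [← htop, Subgroup.map_commutator, commutator_eq_bot_iff_le_centralizer]
    rintro _ ⟨x, -, rfl⟩
    refine mem_centralizer_iff.2 ?_
    rintro _ ⟨y, -, rfl⟩
    exact hLO _ (hzO y y.2) _ (hfL x x.2)
  intro x hx
  have h1 : φ ⟨x, hx⟩ ∈ (⊤ : Subgroup L).map φ := mem_map_of_mem φ (mem_top _)
  rw [hrange, mem_bot] at h1
  exact mul_inv_eq_iff_eq_mul.1 (mul_inv_eq_one.1 h1)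

namespace MaxCtx

variable {E : MaxCtx G}

/-- The conjugate over `C(b)`: an element of `O_r(M)` centralised by `b`, inverted by `t`, centralises
`O_m(M')` for `m ≠ r`. -/
theorem commute_core_conj {M : Subgroup G} (hHM : E.H ≤ M) (hO2 : Cfsg.pCore 2 M = ⊥) {b g : G}
    (hb : b ∈ (E.S : Subgroup G)) (hgt : g * E.t * g⁻¹ = b) {r m : ℕ} (hr : r.Prime) (hm : m.Prime) (hmr : m ≠ r)
    {a : G} (ha : a ∈ Cfsg.Agent.S1312.coreIn r M) (hab : a * b = b * a)
    (hat : E.t * a * E.t = a⁻¹) :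
    ∀ x ∈ Cfsg.Agent.S1312.coreIn m (conjBy M g), a * x = x * a := by
  have hCb : centralizer ({b} : Set G) ≤ conjBy M g := E.centralizer_le_conjBy hHM hgt
  have haM' : a ∈ conjBy M g := hCb (mem_centralizer_singleton_iff.2 hab)
  have htM' : E.t ∈ conjBy M g := hCb (mem_centralizer_singleton_iff.2 (E.act.comm E.t_mem hb))
  set P := Cfsg.Agent.S1312.coreIn m (conjBy M g) with hP
  have hn : ∀ k ∈ conjBy M g, ∀ x ∈ P, k * x * k⁻¹ ∈ P := fun k hk x hx =>
    (mem_normalizer_iff.1 (coreIn_le_normalizer m _ hk) x).1 hx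
  by_cases hr2 : r = 2
  · subst hr2
    have : a = 1 := by
      obtain ⟨y, hy, rfl⟩ := ha
      replace hy : y ∈ Cfsg.pCore 2 M := hy
      rw [hO2, mem_bot] at hy
      rw [hy]; rfl
    intro x _
    rw [this, one_mul, mul_one]
  have hodd : Odd (Nat.card P) := by
    by_cases hm2 : m = 2
    · subst hm2
      have : P = ⊥ := by
        rw [hP, pCoreOf_conjBy, Cfsg.Agent.S1312.coreIn, hO2, Subgroup.map_bot]
        exact Subgroup.map_bot _
      rw [this, card_bot]
      exact odd_one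
    · haveI := Fact.mk hm
      obtain ⟨k, hk⟩ := IsPGroup.iff_card.1 (coreIn_isPGroup hm (conjBy M g))
      rw [hP, hk]
      exact ((hm.odd_of_ne_two hm2)).pow
  have hcop : (orderOf a).Coprime (Nat.card P) := by
    haveI := Fact.mk hm
    obtain ⟨k, hk⟩ := IsPGroup.iff_card.1 (coreIn_isPGroup hm (conjBy M g))
    rw [hP, hk]
    exact (orderOf_coprime_of_isPGroup hr hm hmr.symm (coreIn_isPGroup hr M) ha).pow_right k
  refine CfsgLib.GW.commute_of_inverted hodd E.t_sq
    (fun x hx => by simpa [E.t_inv] using hn _ htM' x hx) (hn a haM') hat ?_ hcop fun x hx hxt => ?_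
  · haveI := Fact.mk hr
    obtain ⟨k, hk⟩ := IsPGroup.iff_card.1 (coreIn_isPGroup hr M)
    exact CfsgLib.RankOneInvol.odd_orderOf_of_mem
      (by rw [hk]; exact (hr.odd_of_ne_two hr2).pow) ha
  · have hxM : x ∈ M := hHM (E.mem_H.2 (by
      calc x * E.t = E.t * x * E.t * E.t := by rw [hxt]
        _ = E.t * x := by rw [mul_assoc, E.t_sq, mul_one]))
    exact (commute_of_disjoint
      (IsPGroup.disjoint_of_ne r m hmr.symm _ _ (coreIn_isPGroup hr M) (coreIn_isPGroup hm _)
        (hp₁ := ⟨hr⟩) (hp₂ := ⟨hm⟩))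
      ha hx (coreIn_le_normalizer m _ haM') (coreIn_le_normalizer r M hxM)).eq

/-- `O_r(M) ∩ O_r(M') = 1`: the quadratic case. -/
theorem eq_one_of_disjoint {M : Subgroup G} (hHM : E.H ≤ M) (hO2 : Cfsg.pCore 2 M = ⊥)
    (hlayer : Cfsg.layer M = ⊥) {b g : G} (hb : b ∈ (E.S : Subgroup G))
    (hgN : g ∈ normalizer ((E.S : Subgroup G) : Set G)) (hgt : g * E.t * g⁻¹ = b) {r : ℕ} (hr : r.Prime) (hr2 : r ≠ 2)
    (hD : Cfsg.Agent.S1312.coreIn r M ⊓ Cfsg.Agent.S1312.coreIn r (conjBy M g) = ⊥)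
    {a : G} (ha : a ∈ Cfsg.Agent.S1312.coreIn r M) (hab : a * b = b * a)
    (hat : E.t * a * E.t = a⁻¹) : a = 1 := by
  haveI := Fact.mk hr
  have hCb : centralizer ({b} : Set G) ≤ conjBy M g := E.centralizer_le_conjBy hHM hgt
  have haM' : a ∈ conjBy M g := hCb (mem_centralizer_singleton_iff.2 hab)
  set w₀ := g⁻¹ * E.t * g with hbt
  have hwS : w₀ ∈ (E.S : Subgroup G) := ActEight.conj_mem' hgN E.t_mem
  have hgwt : g * w₀ * g⁻¹ = E.t := by rw [hbt]; group
  have hbtM : w₀ ∈ M := hHM (E.S_le_H hwS)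
  obtain ⟨k, hk⟩ := IsPGroup.iff_card.1 (coreIn_isPGroup hr M)
  have haodd : Odd (orderOf a) := CfsgLib.RankOneInvol.odd_orderOf_of_mem
    (by rw [hk]; exact (hr.odd_of_ne_two hr2).pow) ha
  have hself : ∀ x ∈ M, x ∈ centralizer (CfsgLib.GW.fitIn M : Set G) → x ∈ CfsgLib.GW.fitIn M := by
    intro x hx hxc
    refine ⟨⟨x, hx⟩, CfsgLib.Components.centralizer_generalizedFitting_le_fitting ?_, rfl⟩
    rw [Cfsg.generalizedFittingSubgroup, hlayer, bot_sup_eq, mem_centralizer_iff]
    exact fun y hy => Subtype.ext (mem_centralizer_iff.1 hxc _ (mem_map_of_mem _ hy))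
  have hF := CfsgLib.GW.mem_fitting_of_inverted_gen (K := M) (t := w₀) (a := g⁻¹ * a * g)
    (E.act.twoCyclicLike.subgroup M) hself (E.act.sq _ hwS)
    (fun x hx => mul_mem (mul_mem hbtM hx) hbtM) (mem_conjBy.1 haM')
    (by
      show g⁻¹ * E.t * g * (g⁻¹ * a * g) * (g⁻¹ * E.t * g) = _
      calc g⁻¹ * E.t * g * (g⁻¹ * a * g) * (g⁻¹ * E.t * g) = g⁻¹ * (E.t * a * E.t) * g := by group
        _ = _ := by rw [hat]; group)
    (by simpa using CfsgLib.RankOneInvol.odd_orderOf_conj haodd g⁻¹)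
    (by
      intro x hx
      rw [CfsgLib.GW.pCoreIn, hO2, Subgroup.map_bot, mem_bot] at hx
      rw [hx, mul_one, one_mul])
    ?_
  · have hR' : a ∈ Cfsg.Agent.S1312.coreIn r (conjBy M g) := by
      rw [pCoreOf_conjBy, mem_conjBy]
      obtain ⟨f, hf, hfe⟩ := hF
      refine ⟨f, Cfsg.Agent.S1312.pgroup_le_fitting_le_pCore (A := zpowers f) ?_
        (zpowers_le.2 hf) (mem_zpowers f), hfe⟩
      obtain ⟨i, -, hi⟩ := (Nat.dvd_prime_pow hr).1 (hk ▸ orderOf_dvd_natCard _ ha)
      refine IsPGroup.of_card (n := i) ?_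
      rw [Nat.card_zpowers, ← Subgroup.orderOf_coe, show (f : G) = g⁻¹ * a * g from hfe, ← hi]
      simpa using orderOf_injective (MulAut.conj g⁻¹).toMonoidHom (MulAut.conj g⁻¹).injective a
    have : a ∈ (⊥ : Subgroup G) := hD ▸ ⟨ha, hR'⟩
    exact mem_bot.1 this
  · intro z hz hzfix
    have hzt : z * (w₀) = w₀ * z := (fixed_iff_commute (E.act.sq _ hwS)).1 hzfix
    refine commute_of_parts hz fun m hm w hw hwm => ?_
    have hw' : g * w * g⁻¹ ∈ Cfsg.Agent.S1312.coreIn m (conjBy M g) := by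
      rw [pCoreOf_conjBy]
      exact ⟨w, hwm, rfl⟩
    have hwt : w * (w₀) = w₀ * w := by
      obtain ⟨i, rfl⟩ := mem_zpowers_iff.1 hw
      exact ((show Commute z (w₀) from hzt).zpow_left i).eq
    have hc : a * (g * w * g⁻¹) = g * w * g⁻¹ * a := by
      rcases eq_or_ne m r with rfl | hmr
      · have hwH : g * w * g⁻¹ ∈ M := hHM (E.mem_H.2 (by
          have h := conj_comm (g := g) hwt
          rwa [hgwt] at h))
        exact (commute_of_disjoint (disjoint_iff.2 hD) ha hw' (coreIn_le_normalizer m _ haM')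
          (coreIn_le_normalizer m M hwH)).eq
      · exact commute_core_conj hHM hO2 hb hgt hr hm hmr ha hab hat _ hw'
    have h := conj_comm (g := g⁻¹) hc
    show g⁻¹ * a * g * w = w * (g⁻¹ * a * g)
    simpa [mul_assoc] using h

/-- Step 2, two primes, for an inverted element. -/
theorem eq_one_of_two {M : Subgroup G} (hM : IsCoatom M) (hHM : E.H ≤ M) {b : G}
    (hb : b ∈ (E.S : Subgroup G)) (hb1 : b ≠ 1) (hbne : b ≠ E.t)
    (hO2 : Cfsg.pCore 2 M = ⊥) (hlayer : Cfsg.layer M = ⊥) {r : ℕ} (hr : r.Prime) (hr2 : r ≠ 2)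
    {j : ℕ} (hj : j.Prime) (hjr : j ≠ r) (hjM : j ∣ Nat.card (Cfsg.fittingSubgroup M))
    {a : G} (ha : a ∈ Cfsg.Agent.S1312.coreIn r M) (hab : a * b = b * a)
    (hat : E.t * a * E.t = a⁻¹) : a = 1 := by
  haveI := E.simple
  haveI := Fact.mk hr
  haveI := Fact.mk hj
  haveI : Fact (Nat.Prime 2) := ⟨Nat.prime_two⟩
  obtain ⟨g, hgN, hgt⟩ := E.exists_conj hb hb1
  have hbtS : b * E.t ∈ (E.S : Subgroup G) := mul_mem hb E.t_mem
  have hbt1 : b * E.t ≠ 1 := fun e => hbne (by rw [eq_inv_of_mul_eq_one_left e, E.t_inv])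
  obtain ⟨g', hg'N, hg't⟩ := E.exists_conj hbtS hbt1
  set g₂ := g'⁻¹ with hg₂
  set t'' := g₂ * E.t * g₂⁻¹ with ht''def
  have ht''S : t'' ∈ (E.S : Subgroup G) := ActEight.conj_mem (inv_mem hg'N) E.t_mem
  set R := Cfsg.Agent.S1312.coreIn r M with hR
  set M' := conjBy M g with hM'
  set M'' := conjBy M g₂⁻¹ with hM''
  set R' := Cfsg.Agent.S1312.coreIn r M' with hR'
  by_cases hD : R ⊓ R' = ⊥
  · exact eq_one_of_disjoint hHM hO2 hlayer hb hgN hgt hr hr2 hD ha hab hat
  set D := R ⊓ R' with hDdef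
  have hgb₂ : g₂ * (b * E.t) * g₂⁻¹ = E.t := by rw [← hg't, hg₂]; group
  have htM : E.t ∈ M := hHM E.t_mem_H
  have hbM : b ∈ M := hHM (E.S_le_H hb)
  have hM0 : M ≠ ⊥ := fun h => E.t_ne (mem_bot.1 (h ▸ htM))
  have hgM : g ∉ M := fun h => hbne (hgt.symm.trans (E.conj_eq_t hM hHM h (by rw [hgt]; exact hb)))
  have hne : M ≠ M' := fun h => hgM (E.mem_of_conjBy_eq hM hM0 h.symm)
  have hCb : centralizer ({b} : Set G) ≤ M' := E.centralizer_le_conjBy hHM hgt
  have hCbt : centralizer ({b * E.t} : Set G) ≤ M'' :=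
    E.centralizer_le_conjBy hHM (by rw [hg₂, inv_inv, hg't])
  have htM' : E.t ∈ M' := hCb (mem_centralizer_singleton_iff.2 (E.act.comm E.t_mem hb))
  have hbM' : b ∈ M' := hCb (mem_centralizer_singleton_iff.2 rfl)
  have haM' : a ∈ M' := hCb (mem_centralizer_singleton_iff.2 hab)
  have hM'c : IsCoatom M' := isCoatom_conjBy hM g
  have hrM : r ∣ Nat.card (Cfsg.fittingSubgroup M) := by
    by_contra h
    exact hD (le_bot_iff.1 (inf_le_left.trans (coreIn_eq_bot hr h).le))
  have hnM := normalizer_eq_of_isCoatom hM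
  -- normalisers of `D`
  have hnormD : ∀ x ∈ M, x ∈ normalizer (R' : Set G) → x ∈ normalizer (D : Set G) :=
    fun x hx hx' => inf_normalizer_le_normalizer_inf ⟨coreIn_le_normalizer r M hx, hx'⟩
  have hDtop : normalizer (D : Set G) ≠ ⊤ := by
    intro h
    rcases E.eq_bot_or_top (normalizer_eq_top_iff.1 h) with h1 | h1
    · exact hD h1
    · exact hM.1 (top_le_iff.1 (h1 ▸ inf_le_left.trans (Cfsg.Agent.S1312.coreIn_le r M)))
  obtain ⟨K, hKc, hNK⟩ := (eq_top_or_exists_le_coatom (normalizer (D : Set G))).resolve_left hDtop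
  have htK : E.t ∈ K := hNK (hnormD _ htM (coreIn_le_normalizer r M' htM'))
  have hbK : b ∈ K := hNK (hnormD _ hbM (coreIn_le_normalizer r M' hbM'))
  have hMK : Cfsg.leadsTo M K :=
    ⟨D, hD, inf_le_left.trans (map_mono (CfsgLib.Fitting.pCore_le_fitting hr)), inf_le_right.trans hNK⟩
  have hM'K : Cfsg.leadsTo M' K :=
    ⟨D, hD, inf_le_right.trans (map_mono (CfsgLib.Fitting.pCore_le_fitting hr)), inf_le_right.trans hNK⟩
  have hjC : ∀ X : Subgroup G, D ≤ Cfsg.Agent.S1312.coreIn r X → ∀ k : ℕ, k.Prime → k ≠ r →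
      Cfsg.Agent.S1312.coreIn k X ≤ K := fun X hX k hk hkr x hx => hNK (centralizer_le_normalizer _
        (mem_centralizer_iff.2 fun d hd => (commute_coreIn_of_ne hr hk (Ne.symm hkr) (hX hd) hx).eq))
  -- the cores of `K` lie in `M` and `M'`
  have hcores : ∀ q : ℕ, q.Prime → Cfsg.Agent.S1312.coreIn q K ≤ M ⊓ M' := by
    intro q hq
    haveI := Fact.mk hq
    by_cases hqM : q ∣ Nat.card (Cfsg.fittingSubgroup M)
    · obtain ⟨s, hs, hqs, hsM⟩ : ∃ s : ℕ, s.Prime ∧ q ≠ s ∧ s ∣ Nat.card (Cfsg.fittingSubgroup M) := by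
        by_cases h : q = r
        · exact ⟨j, hj, h ▸ Ne.symm hjr, hjM⟩
        · exact ⟨r, hr, h, hrM⟩
      exact le_inf (coreIn_le_of_two_primes hnM hMK hq hs hqs hqM hsM)
        (coreIn_le_of_two_primes (normalizer_eq_of_isCoatom hM'c) hM'K hq hs hqs
          ((dvd_fitting_conjBy hq g).2 hqM) ((dvd_fitting_conjBy hs g).2 hsM))
    suffices hA0 : Cfsg.Agent.S1312.coreIn q K = ⊥ by rw [hA0]; exact bot_le
    set A := Cfsg.Agent.S1312.coreIn q K with hA
    have hAM : A ⊓ M = ⊥ := coreIn_inf_eq_bot hMK hq hqM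
    have hAM' : A ⊓ M' = ⊥ :=
      coreIn_inf_eq_bot hM'K hq (fun h => hqM ((dvd_fitting_conjBy hq g).1 h))
    have hnA : ∀ k ∈ K, ∀ x ∈ A, k * x * k⁻¹ ∈ A := fun k hk x hx =>
      (mem_normalizer_iff.1 (coreIn_le_normalizer q K hk) x).1 hx
    have hAt : ∀ x ∈ A, E.t * x * E.t ∈ A := fun x hx => by simpa [E.t_inv] using hnA _ htK x hx
    have hAb : ∀ x ∈ A, b * x * b ∈ A := fun x hx => by simpa [(E.act.inv_eq hb)] using hnA _ hbK x hx
    have hfixt : ∀ x ∈ A, x * E.t = E.t * x → x = 1 := fun x hx h =>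
      mem_bot.1 (hAM ▸ mem_inf.2 ⟨hx, hHM (E.mem_H.2 h)⟩)
    have hAodd : Odd (Nat.card A) := by
      by_contra h
      rw [Nat.not_odd_iff_even, even_iff_two_dvd] at h
      have h2 := two_dvd_card_inf_centralizer E.t_sq hAt h
      have : A ⊓ centralizer ({E.t} : Set G) = ⊥ := eq_bot_iff.2 fun x hx =>
        mem_bot.2 (hfixt x hx.1 (mem_centralizer_singleton_iff.1 hx.2))
      rw [this, card_bot] at h2
      omega
    have hinv : ∀ x ∈ A, E.t * x * E.t = x⁻¹ := by
      intro x hx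
      obtain ⟨y, z, hy, hyt, -, hzt, rfl⟩ :=
        CfsgLib.RankOneInvol.exists_fixed_mul_inverted hAodd E.t_sq hAt hx
      rw [hfixt y hy ((fixed_iff_commute E.t_sq).1 hyt), one_mul, hzt]
    have hinvb : ∀ x ∈ A, b * x * b = x⁻¹ := by
      intro x hx
      obtain ⟨y, z, hy, hyt, -, hzt, rfl⟩ :=
        CfsgLib.RankOneInvol.exists_fixed_mul_inverted hAodd (E.act.sq b hb) hAb hx
      have : y = 1 := mem_bot.1 (hAM' ▸ mem_inf.2
        ⟨hy, hCb (mem_centralizer_singleton_iff.2 ((fixed_iff_commute (E.act.sq b hb)).1 hyt))⟩)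
      rw [this, one_mul, hzt]
    have hcomm : ∀ x ∈ A, ∀ y ∈ A, Commute x y := by
      intro x hx y hy
      have h : (x * y)⁻¹ = x⁻¹ * y⁻¹ := by
        rw [← hinv _ (mul_mem hx hy), ← hinv x hx, ← hinv y hy]
        calc E.t * (x * y) * E.t = E.t * x * (E.t * E.t) * y * E.t := by rw [E.t_sq, mul_one]; group
          _ = _ := by group
      have h2 := congrArg (·⁻¹) h
      show x * y = y * x
      simpa [mul_inv_rev] using h2
    have hAM'' : A ≤ M'' := fun x hx => by
      refine hCbt (mem_centralizer_singleton_iff.2 ((fixed_iff_commute (E.act.sq _ hbtS)).1 ?_))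
      calc b * E.t * x * (b * E.t) = b * (E.t * x * E.t) * b := by
            conv_lhs => arg 2; rw [(E.act.comm hb E.t_mem)]
            group
        _ = b * x⁻¹ * b := by rw [hinv x hx]
        _ = x := by rw [hinvb _ (inv_mem hx), inv_inv]
    -- `A` centralises the cores of `M''`
    have hcent : ∀ k : ℕ, k.Prime →
        ∀ x ∈ Cfsg.Agent.S1312.coreIn k M'', ∀ α ∈ A, α * x = x * α := by
      intro k hk
      haveI := Fact.mk hk
      set P := Cfsg.Agent.S1312.coreIn k M'' with hP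
      by_cases hkM : k ∣ Nat.card (Cfsg.fittingSubgroup M)
      swap
      · intro x hx α _
        have h0 : P = ⊥ := coreIn_eq_bot hk fun h => hkM ((dvd_fitting_conjBy hk g₂⁻¹).1 h)
        rw [h0, mem_bot] at hx
        rw [hx, mul_one, one_mul]
      have hkq : k ≠ q := fun h => hqM (h ▸ hkM)
      have hk2 : k ≠ 2 := by
        rintro rfl
        refine coreIn_ne_bot hk hkM ?_
        rw [Cfsg.Agent.S1312.coreIn, hO2, Subgroup.map_bot]
      obtain ⟨i, hi⟩ := IsPGroup.iff_card.1 (coreIn_isPGroup hk M'')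
      have hPodd : Odd (Nat.card P) := by rw [hP, hi]; exact (hk.odd_of_ne_two hk2).pow
      have hbt'' : b * E.t ∈ M'' := hCbt (mem_centralizer_singleton_iff.2 rfl)
      have ht'' : E.t ∈ M'' := hCbt (mem_centralizer_singleton_iff.2 (by
        rw [← mul_assoc, ← E.act.comm hb E.t_mem]))
      have hb'' : b ∈ M'' := by simpa [mul_assoc, E.t_sq] using mul_mem hbt'' ht''
      have hnP : ∀ m ∈ M'', ∀ x ∈ P, m * x * m⁻¹ ∈ P := fun m hm x hx =>
        (mem_normalizer_iff.1 (coreIn_le_normalizer k M'' hm) x).1 hx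
      have hqk : (Nat.card A).Coprime (Nat.card P) := by
        obtain ⟨e, he⟩ := IsPGroup.iff_card.1 (coreIn_isPGroup hq K)
        rw [hA, hP, he, hi]
        exact Nat.coprime_pow_primes _ _ hq hk hkq.symm
      by_cases hkr : k = r
      · -- the prime `r`
        subst hkr
        set Y := Cfsg.Agent.S1312.coreIn j M ⊓ centralizer ({E.t} : Set G) ⊓
          centralizer ({b} : Set G) with hY
        have hYJ : Y ≤ Cfsg.Agent.S1312.coreIn j M := inf_le_left.trans inf_le_left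
        have hJK : Cfsg.Agent.S1312.coreIn j M ≤ K := hjC M inf_le_left j hj hjr
        have hYM'' : Y ≤ M'' := fun y hy => hCbt (mem_centralizer_singleton_iff.2
          (((show Commute y b from mem_centralizer_singleton_iff.1 hy.2)).mul_right
            (mem_centralizer_singleton_iff.1 hy.1.2)).eq)
        have hj2 : j ≠ 2 := by
          rintro rfl
          refine coreIn_ne_bot hj hjM ?_
          rw [Cfsg.Agent.S1312.coreIn, hO2, Subgroup.map_bot]
        obtain ⟨e, he⟩ := IsPGroup.iff_card.1 (coreIn_isPGroup hj M)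
        have hJodd : Odd (Nat.card (Cfsg.Agent.S1312.coreIn j M)) := by
          rw [he]; exact (hj.odd_of_ne_two hj2).pow
        have hqj : q ≠ j := fun h => hqM (h ▸ hjM)
        have hYA : (Nat.card Y).Coprime (Nat.card A) := by
          refine Nat.Coprime.coprime_dvd_left (card_dvd_of_le hYJ) ?_
          obtain ⟨d, hd⟩ := IsPGroup.iff_card.1 (coreIn_isPGroup hq K)
          rw [hA, hd, he]
          exact Nat.coprime_pow_primes _ _ hj hq hqj.symm
        -- elements inverted by an involution inverting `A` centralise `A`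
        have hz : ∀ v : G, v * v = 1 → (∀ α ∈ A, v * α * v = α⁻¹) → ∀ z ∈ K, Odd (orderOf z) →
            v * z * v = z⁻¹ → ∀ α ∈ A, α * z = z * α := by
          intro v hv hvA z hzK hzo hzv α hα
          have h1 := hvA _ (hnA z hzK α hα)
          have e : v * (z * α * z⁻¹) * v = z⁻¹ * α⁻¹ * z := by
            have hvi : v⁻¹ = v := inv_eq_of_mul_eq_one_right hv
            have hzi : v * z⁻¹ * v = z := by
              have := congrArg (·⁻¹) hzv
              simpa [mul_inv_rev, hvi, mul_assoc] using this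
            calc v * (z * α * z⁻¹) * v = v * z * (v * v) * α * (v * v) * z⁻¹ * v := by
                  rw [hv, mul_one, mul_one]; group
              _ = (v * z * v) * (v * α * v) * (v * z⁻¹ * v) := by group
              _ = _ := by rw [hzv, hvA α hα, hzi]
          rw [e] at h1
          have h2 : Commute (z * z) α := by
            have h3 := congrArg (fun w => z * w⁻¹ * z⁻¹) h1
            have l : z * (z⁻¹ * α⁻¹ * z)⁻¹ * z⁻¹ = α := by group
            have r' : z * (z * α * z⁻¹)⁻¹⁻¹ * z⁻¹ = z * z * α * (z * z)⁻¹ := by group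
            simp only [l, r'] at h3
            exact (mul_inv_eq_iff_eq_mul.1 h3.symm)
          obtain ⟨i, hi⟩ := CfsgLib.RankOneInvol.exists_pow_sq_eq hzo
          rw [← (Commute.refl z).mul_pow] at hi
          have h5 := h2.pow_left i
          rw [hi] at h5
          exact h5.eq.symm
        have hfixY : ∀ α ∈ A, (∀ y ∈ Y, Commute y α) → α = 1 := by
          intro α hα hc
          refine mem_bot.1 (hAM ▸ mem_inf.2 ⟨hα, ?_⟩)
          have hJne : Cfsg.Agent.S1312.coreIn j M ≠ ⊥ := coreIn_ne_bot hj hjM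
          rw [← hnM _ hJne (Cfsg.Agent.S1312.coreIn_le j M) (coreIn_le_normalizer j M)]
          refine centralizer_le_normalizer _ (mem_centralizer_iff.2 fun x hx => ?_)
          have hJn : ∀ v ∈ M, v⁻¹ = v → ∀ y ∈ Cfsg.Agent.S1312.coreIn j M,
              v * y * v ∈ Cfsg.Agent.S1312.coreIn j M := fun v hv hvi y hy => by
            have := (mem_normalizer_iff.1 (coreIn_le_normalizer j M hv) y).1 hy
            rwa [hvi] at this
          obtain ⟨x1, z, hx1, hx1t, hzJ, hzt, rfl⟩ :=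
            CfsgLib.RankOneInvol.exists_fixed_mul_inverted hJodd E.t_sq (hJn _ htM E.t_inv) hx
          obtain ⟨y, w, hy, hyb, hwJ, hwb, rfl⟩ :=
            CfsgLib.RankOneInvol.exists_fixed_mul_inverted
              (X := Cfsg.Agent.S1312.coreIn j M ⊓ centralizer ({E.t} : Set G))
              (Odd.of_dvd_nat hJodd (card_dvd_of_le inf_le_left)) (E.act.sq b hb)
              (fun c hc => ⟨hJn _ hbM (E.act.inv_eq hb) c hc.1, mem_centralizer_singleton_iff.2
                (((show Commute b E.t from (E.act.comm hb E.t_mem)).mul_left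
                  (mem_centralizer_singleton_iff.1 hc.2)).mul_left (E.act.comm hb E.t_mem)).eq⟩)
              (show x1 ∈ _ from ⟨hx1, mem_centralizer_singleton_iff.2
                ((fixed_iff_commute E.t_sq).1 hx1t)⟩)
          have h1 : Commute y α := hc y
            ⟨hy, mem_centralizer_singleton_iff.2 ((fixed_iff_commute (E.act.sq b hb)).1 hyb)⟩
          have h2 : Commute w α := (hz b (E.act.sq b hb) hinvb w (hJK hwJ.1)
            (CfsgLib.RankOneInvol.odd_orderOf_of_mem hJodd hwJ.1) hwb α hα).symm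
          have h3 : Commute z α := (hz E.t E.t_sq hinv z (hJK hzJ)
            (CfsgLib.RankOneInvol.odd_orderOf_of_mem hJodd hzJ) hzt α hα).symm
          exact ((h1.mul_left h2).mul_left h3).eq
        haveI : (P.subgroupOf M'').Normal := by
          rw [normal_subgroupOf_iff_le_normalizer (Cfsg.Agent.S1312.coreIn_le k M'')]
          exact coreIn_le_normalizer k M''
        have hdata : CfsgLib.GW.UniqTwoAct.Data (A.subgroupOf M'') (Y.subgroupOf M'') (P.subgroupOf M'')
            (⟨E.t, ht''⟩ : M'') := by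
          have cA := Nat.card_congr (subgroupOfEquivOfLe hAM'').toEquiv
          have cY := Nat.card_congr (subgroupOfEquivOfLe hYM'').toEquiv
          have cP := Nat.card_congr (subgroupOfEquivOfLe (Cfsg.Agent.S1312.coreIn_le k M'')).toEquiv
          refine ⟨by rw [cA]; exact hAodd, by rw [cY]; exact Odd.of_dvd_nat hJodd (card_dvd_of_le hYJ),
            by rw [cP]; exact hPodd, by rw [cA, cP]; exact hqk, by rw [cA, cY]; exact hYA,
            ?_, Subtype.ext E.t_sq, ?_, ?_, ?_, ?_, ?_⟩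
          · exact fun x hx y hy => Subtype.ext (hcomm _ hx _ hy).eq
          · exact fun x hx => Subtype.ext (hinv _ hx)
          · exact fun y hy x hx => hnA _ (hJK (hYJ hy)) _ hx
          · intro x hx h
            refine Subtype.ext (hfixY _ hx fun y hy => ?_)
            exact congrArg Subtype.val (h ⟨y, hYM'' hy⟩ hy).eq
          · exact fun y hy => Subtype.ext (mem_centralizer_singleton_iff.1 hy.1.2)
          · intro y hy x hx hxt
            refine Subtype.ext ?_
            have hxM : (x : G) ∈ M :=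
              hHM (E.mem_H.2 ((fixed_iff_commute E.t_sq).1 (congrArg Subtype.val hxt)))
            exact (commute_of_disjoint
              (IsPGroup.disjoint_of_ne j k hjr _ _ (coreIn_isPGroup hj M) (coreIn_isPGroup hk M''))
              (hYJ hy) hx (coreIn_le_normalizer k M'' (hYM'' hy)) (coreIn_le_normalizer j M hxM)).eq
        intro x hx α hα
        exact congrArg Subtype.val (CfsgLib.GW.UniqTwoAct.centralizes hdata
          ((coreIn_isPGroup hk M'').comap_subtype (K := M'')) ⟨α, hAM'' hα⟩ hα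
          ⟨x, Cfsg.Agent.S1312.coreIn_le k M'' hx⟩ hx)
      · -- primes different from `r`
        intro x hx α hα
        refine CfsgLib.GW.commute_of_inverted hPodd E.t_sq (fun z hz => by simpa [E.t_inv] using hnP _ ht'' z hz)
          (hnP α (hAM'' hα)) (hinv α hα) (CfsgLib.RankOneInvol.odd_orderOf_of_mem hAodd hα)
          (hqk.coprime_dvd_left (A.orderOf_dvd_natCard hα)) (fun c hc hct => ?_) x hx
        have hcM : c ∈ M := hHM (E.mem_H.2 ((fixed_iff_commute E.t_sq).1 hct))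
        suffices hcK : c ∈ K from (commute_of_disjoint
          (IsPGroup.disjoint_of_ne q k hkq.symm _ _ (coreIn_isPGroup hq K) (coreIn_isPGroup hk M''))
          hα hc (coreIn_le_normalizer k M'' (hAM'' hα)) (coreIn_le_normalizer q K hcK)).eq
        obtain ⟨c1, c2, hc1, hc1b, hc2, hc2b, rfl⟩ :=
          CfsgLib.RankOneInvol.exists_fixed_mul_inverted
            (X := P ⊓ centralizer ({E.t} : Set G))
            (Odd.of_dvd_nat hPodd (card_dvd_of_le inf_le_left)) (E.act.sq b hb)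
            (fun z hz => ⟨by simpa [(E.act.inv_eq hb)] using hnP _ hb'' z hz.1,
              mem_centralizer_singleton_iff.2 (((show Commute b E.t from (E.act.comm hb E.t_mem)).mul_left
                (mem_centralizer_singleton_iff.1 hz.2)).mul_left (E.act.comm hb E.t_mem)).eq⟩)
            (show c ∈ _ from ⟨hc, mem_centralizer_singleton_iff.2 ((fixed_iff_commute E.t_sq).1 hct)⟩)
        have hc1K : c1 ∈ K :=
          hNK (hnormD c1 (hHM (E.mem_H.2 (mem_centralizer_singleton_iff.1 hc1.2)))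
            (coreIn_le_normalizer r M' (hCb (mem_centralizer_singleton_iff.2
              ((fixed_iff_commute (E.act.sq b hb)).1 hc1b)))))
        refine mul_mem hc1K (hNK (centralizer_le_normalizer _ (mem_centralizer_iff.2 fun d hd => ?_)))
        -- transport by `g₂`
        set c' := g₂ * c2 * g₂⁻¹ with hc'
        have h1 : c' ∈ Cfsg.Agent.S1312.coreIn k M := by
          have h : c2 ∈ Cfsg.Agent.S1312.coreIn k (conjBy M g₂⁻¹) := hc2.1
          rw [pCoreOf_conjBy, mem_conjBy, inv_inv] at h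
          exact h
        have h2 : c' * t'' = t'' * c' :=
          conj_comm (g := g₂) (mem_centralizer_singleton_iff.1 hc2.2)
        have h3 : E.t * c' * E.t = c'⁻¹ := by
          have hfix' : E.t * c2 * E.t = c2 :=
            (fixed_iff_commute E.t_sq).2 (mem_centralizer_singleton_iff.1 hc2.2)
          rw [hc', ← hgb₂]
          calc g₂ * (b * E.t) * g₂⁻¹ * (g₂ * c2 * g₂⁻¹) * (g₂ * (b * E.t) * g₂⁻¹)
              = g₂ * (b * E.t * c2 * (b * E.t)) * g₂⁻¹ := by group
            _ = g₂ * (b * E.t * c2 * (E.t * b)) * g₂⁻¹ := by rw [E.act.comm hb E.t_mem]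
            _ = g₂ * (b * (E.t * c2 * E.t) * b) * g₂⁻¹ := by group
            _ = _ := by rw [hfix', hc2b]; group
        have h4 := commute_core_conj hHM hO2 ht''S (g := g₂) rfl hk hr (Ne.symm hkr) h1 h2 h3
          (g₂ * d * g₂⁻¹) (by
            rw [pCoreOf_conjBy]
            exact mem_map_of_mem _ (mem_inf.1 (hd : d ∈ R ⊓ R')).1)
        have h5 := conj_comm (g := g₂⁻¹) h4
        rw [hc'] at h5
        simpa [mul_assoc] using h5.symm
    -- so `A` lies in the Fitting subgroup of `M''`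
    refine eq_bot_iff.2 fun α hα => mem_bot.2 ?_
    have hαM : g₂ * α * g₂⁻¹ ∈ M := by
      have h := hAM'' hα
      rwa [hM'', mem_conjBy, inv_inv] at h
    have hFc : (⟨g₂ * α * g₂⁻¹, hαM⟩ : M) ∈ Cfsg.fittingSubgroup M := by
      refine CfsgLib.Components.centralizer_generalizedFitting_le_fitting ?_
      rw [Cfsg.generalizedFittingSubgroup, hlayer, bot_sup_eq, mem_centralizer_iff]
      intro f hf
      refine Subtype.ext ?_
      show (f : G) * (g₂ * α * g₂⁻¹) = g₂ * α * g₂⁻¹ * (f : G)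
      refine (commute_of_parts (x := g₂ * α * g₂⁻¹) (mem_map_of_mem M.subtype hf) fun s hs w _ hw => ?_).eq.symm
      have hw' : g₂⁻¹ * w * g₂ ∈ Cfsg.Agent.S1312.coreIn s M'' := by
        rw [hM'', pCoreOf_conjBy, mem_conjBy, inv_inv]
        simpa [mul_assoc] using hw
      have h := conj_comm (g := g₂) (hcent s hs _ hw' α hα)
      show g₂ * α * g₂⁻¹ * w = w * (g₂ * α * g₂⁻¹)
      simpa [mul_assoc] using h
    obtain ⟨i, hi⟩ := (coreIn_isPGroup hq K) ⟨α, hα⟩
    have hαq : (g₂ * α * g₂⁻¹) ^ q ^ i = 1 := by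
      rw [conj_pow, show α ^ q ^ i = 1 from congrArg Subtype.val hi, mul_one, mul_inv_cancel]
    have hin : g₂ * α * g₂⁻¹ ∈ Cfsg.Agent.S1312.coreIn q M := by
      refine ⟨⟨_, hαM⟩, Cfsg.Agent.S1312.pgroup_le_fitting_le_pCore ?_ (zpowers_le.2 hFc)
        (mem_zpowers _), rfl⟩
      obtain ⟨e, -, he⟩ := (Nat.dvd_prime_pow hq).1 (orderOf_dvd_of_pow_eq_one
        (x := (⟨g₂ * α * g₂⁻¹, hαM⟩ : M)) (n := q ^ i) (Subtype.ext (by simpa using hαq)))
      exact IsPGroup.of_card (n := e) (by rw [Nat.card_zpowers, he])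
    rw [coreIn_eq_bot hq hqM, mem_bot, conj_eq_one_iff] at hin
    exact hin
  have hFK : (Cfsg.fittingSubgroup K).map K.subtype ≤ M ⊓ M' := by
    rw [map_le_iff_le_comap, CfsgLib.Fitting.fitting_eq_iSup_pCore]
    exact iSup_le fun s => map_le_iff_le_comap.1 (hcores s (Nat.prime_of_mem_primeFactors s.2))
  by_cases hlK : Cfsg.layer K = ⊥
  · -- no component: `K = M = M'`
    exfalso
    have hna : ¬ IsMulCommutative G := E.not_isMulCommutative
    have hFne : (Cfsg.fittingSubgroup K).map K.subtype ≠ ⊥ := by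
      intro h
      rw [Subgroup.map_eq_bot_iff_of_injective _ (subtype_injective K)] at h
      have h1 : (⊤ : Subgroup K) ≤ ⊥ := by
        rw [← h]
        intro x _
        refine CfsgLib.Components.centralizer_generalizedFitting_le_fitting ?_
        rw [Cfsg.generalizedFittingSubgroup, hlK, bot_sup_eq, h, mem_centralizer_iff]
        intro y hy
        rw [mem_bot.1 hy, one_mul, mul_one]
      exact E.t_ne (congrArg Subtype.val (mem_bot.1 (h1 (mem_top (⟨E.t, htK⟩ : K)))))
    have hKgen : (Cfsg.generalizedFittingSubgroup K).map K.subtype ≤ M ⊓ M' := by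
      rw [Cfsg.generalizedFittingSubgroup, hlK, bot_sup_eq]
      exact hFK
    have hK1 : Cfsg.leadsTo K M :=
      ⟨_, hFne, le_rfl, inf_le_left.trans (hKgen.trans inf_le_left)⟩
    have hK2 : Cfsg.leadsTo K M' :=
      ⟨_, hFne, le_rfl, inf_le_left.trans (hKgen.trans inf_le_right)⟩
    have htwo : ∀ X : Subgroup G, r ∣ Nat.card (Cfsg.fittingSubgroup X) →
        j ∣ Nat.card (Cfsg.fittingSubgroup X) →
        ¬ ∃ p : ℕ, p.Prime ∧ IsPGroup p (Cfsg.generalizedFittingSubgroup X) := by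
      rintro X h1 h2 ⟨p, hp, hpX⟩
      haveI := Fact.mk hp
      obtain ⟨e, he⟩ := IsPGroup.iff_card.1 (hpX.to_le CfsgLib.Components.fitting_le_generalizedFitting)
      rw [he] at h1 h2
      exact hjr (((Nat.prime_dvd_prime_iff_eq hj hp).1 (hj.dvd_of_dvd_pow h2)).trans
        ((Nat.prime_dvd_prime_iff_eq hr hp).1 (hr.dvd_of_dvd_pow h1)).symm)
    rcases eq_or_pgroup hna hM hKc hMK hK1 with h | ⟨p, hp, hpM, -⟩
    · rcases eq_or_pgroup hna hM'c hKc hM'K hK2 with h' | ⟨p, hp, hpM, -⟩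
      · exact hne (h.trans h'.symm)
      · exact htwo M' ((dvd_fitting_conjBy hr g).2 hrM) ((dvd_fitting_conjBy hj g).2 hjM) ⟨p, hp, hpM⟩
    · exact htwo M hrM hjM ⟨p, hp, hpM⟩
  -- a component
  set L := (Cfsg.layer K).map K.subtype with hL
  have hLK : L ≤ K := map_subtype_le _
  have hLn : ∀ k ∈ K, ∀ x ∈ L, k * x * k⁻¹ ∈ L := fun k hk x hx =>
    (mem_normalizer_iff.1 (Cfsg.Agent.S1312.le_normalizer_map (Cfsg.layer K) hk) x).1 hx
  have hLO : ∀ x ∈ CfsgLib.GW.coreIn K, ∀ l ∈ L, x * l = l * x := by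
    rintro _ ⟨x, hx, rfl⟩ _ ⟨l, hl, rfl⟩
    haveI : Group.IsSolvable (Cfsg.oddCore K) := CfsgLib.PF.oddSolvable _
      (Nat.coprime_two_right.1 CfsgLib.PCore.pPrimeCore_coprime)
    exact congrArg Subtype.val (CfsgLib.Components.commute_of_commutator_eq_bot
      (CfsgLib.Components.commutator_layer_solvable (Cfsg.oddCore K)) hl hx).symm
  have hperf : ⁅L, L⁆ = L := by
    rw [hL, ← Subgroup.map_commutator, CfsgLib.Components.commutator_layer_self]
  have hLne : L ≠ ⊥ := fun h =>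
    hlK ((Subgroup.map_eq_bot_iff_of_injective _ (subtype_injective K)).1 h)
  have hLM : ¬ L ≤ M := fun h => hLne (le_bot_iff.1 (by
    have h1 := layer_le_layer hMK h
    rwa [hlayer, Subgroup.map_bot] at h1))
  have hSM : (E.S : Subgroup G) ≤ M := E.S_le_H.trans hHM
  have hSK : (E.S : Subgroup G) ≤ K := fun s hs => hNK (hnormD s (hSM hs)
    (coreIn_le_normalizer r M' (E.S_le_conjBy hHM hb hgt hs)))
  have hnotcomm : ¬ ∀ x ∈ L, x * E.t = E.t * x := fun h => hLM fun x hx => hHM (E.mem_H.2 (h x hx))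
  have haK : a ∈ K := hNK (hnormD a (Cfsg.Agent.S1312.coreIn_le r M ha) (coreIn_le_normalizer r M' haM'))
  obtain ⟨e, he⟩ := IsPGroup.iff_card.1 (coreIn_isPGroup hr M)
  have hRodd : Odd (Nat.card R) := by rw [hR, he]; exact (hr.odd_of_ne_two hr2).pow
  have haone : a * E.t = E.t * a → a = 1 := fun h =>
    CfsgLib.RankOneInvol.eq_one_of_mem_of_sq hRodd ha (by
      rw [(fixed_iff_commute E.t_sq).2 h] at hat
      exact eq_inv_iff_mul_eq_one.1 hat)
  have hnR : ∀ c ∈ K, c * E.t = E.t * c → ∀ x ∈ R ⊓ K, c * x * c⁻¹ ∈ R ⊓ K := fun c hc hct x hx =>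
    ⟨(mem_normalizer_iff.1 (coreIn_le_normalizer r M (hHM (E.mem_H.2 hct))) x).1 hx.1,
      K.mul_mem (K.mul_mem hc hx.2) (K.inv_mem hc)⟩
  have hRKodd : Odd (Nat.card (R ⊓ K : Subgroup G)) := hRodd.of_dvd_nat (card_dvd_of_le inf_le_left)
  set V := L ⊓ (E.S : Subgroup G) with hV
  have hV4 : 4 ≤ Nat.card V := E.act.four_le_inf hSK hLK hLn hperf hLne
  rcases E.act.fixed_or_transitive K with ⟨z, hz, hz1, hfix⟩ | htr
  swap
  · -- `S` lies in the layer
    obtain ⟨⟨x, hx⟩, hx1⟩ : ∃ x : V, x ≠ 1 := by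
      haveI : Nontrivial V := Finite.one_lt_card_iff_nontrivial.1 (by omega)
      exact exists_ne 1
    have hSL : (E.S : Subgroup G) ≤ L := fun s hs => by
      rcases eq_or_ne s 1 with rfl | hs1
      · exact one_mem L
      obtain ⟨n, hnK, -, hn⟩ := htr x hx.2 s hs (fun h => hx1 (Subtype.ext h)) hs1
      exact hn ▸ hLn n hnK x hx.1
    have haO := E.act.mem_coreIn_of_layer E.small hKc.1 hSK hSL E.t_mem hb hb1 (B := R ⊓ K)
      inf_le_right hRKodd hnR ⟨ha, haK⟩ hab hat
    exact haone (hLO a haO _ (hSL E.t_mem))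
  have hzK : ∀ k ∈ K, k * z * k⁻¹ * z⁻¹ ∈ CfsgLib.GW.coreIn K := fun k hk =>
    E.act.mem_coreIn_of_fixed hSK hz hz1 hfix hk
  have haO : a ∈ CfsgLib.GW.coreIn K := E.act.mem_coreIn_of_normalized hSK hz hz1 hzK E.t_mem
    (B := R ⊓ K) inf_le_right hRKodd hnR ⟨ha, haK⟩ hat
  have haV : ∀ v ∈ V, a * v = v * a := fun v hv => hLO a haO v hv.1
  by_cases htV : E.t ∈ V
  · exact haone (haV _ htV)
  by_cases hbtV : b * E.t ∈ V
  · refine haone ?_
    have h1 : Commute a (b * (b * E.t)) := (show Commute a b from hab).mul_right (haV _ hbtV)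
    rw [← mul_assoc, E.act.sq b hb, one_mul] at h1
    exact h1.eq
  -- `b` lies in the layer
  have hbV : b ∈ V := by
    by_contra hbV
    obtain ⟨⟨x, hx⟩, hx1⟩ : ∃ x : V, x ≠ 1 := by
      haveI : Nontrivial V := Finite.one_lt_card_iff_nontrivial.1 (by omega)
      exact exists_ne 1
    have hP : ∀ y ∈ V, y ∈ ({1, E.t, b, b * E.t} : Set G) → y = 1 := by
      intro y hy hy'
      simp only [Set.mem_insert_iff, Set.mem_singleton_iff] at hy'
      rcases hy' with h | h | h | h
      exacts [h, absurd (h ▸ hy) htV, absurd (h ▸ hy) hbV, absurd (h ▸ hy) hbtV]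
    have hxP : x ∉ ({1, E.t, b, b * E.t} : Set G) := fun h => hx1 (Subtype.ext (hP x hx h))
    have hsub : (V : Set G) ⊆ {1, x} := by
      intro y hy
      rcases E.act.cases_of_four E.t_mem hb hx.2 E.t_ne hb1 hbne hxP hy.2 with h | h
      · exact Or.inl (hP y hy h)
      · refine Or.inr (inv_mul_eq_one.1 (hP (x⁻¹ * y) (mul_mem (inv_mem hx) hy) ?_)).symm
        simp only [Set.mem_insert_iff, Set.mem_singleton_iff] at h ⊢
        rcases h with rfl | rfl | rfl | rfl <;> simp
    have h2 : Nat.card V ≤ 2 := by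
      refine le_trans (Nat.card_mono (Set.toFinite _) hsub) ?_
      rw [Nat.card_coe_set_eq]
      exact (Set.ncard_insert_le _ _).trans (by simp)
    omega
  obtain ⟨η, hηH, hηN, hmove⟩ := E.exists_moving
  have hηt : η * E.t * η⁻¹ = E.t := mul_inv_eq_iff_eq_mul.2 (E.mem_H.1 hηH)
  have hcover := fun {v : G} (hv : v ∈ (E.S : Subgroup G)) =>
    E.act.orbit_cover hηN E.t_mem E.t_ne hηt hmove hb hb1 hbne hv
  have hconjt : ∀ {k : G}, k ∈ E.H → k * E.t * k⁻¹ = E.t := fun hk =>
    mul_inv_eq_iff_eq_mul.2 (E.mem_H.1 hk)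
  have hmulH : ∀ {k : G} {y : G}, k ∈ E.H → k * (y * E.t) * k⁻¹ = k * y * k⁻¹ * E.t := by
    intro k y hk
    rw [show k * (y * E.t) * k⁻¹ = k * y * k⁻¹ * (k * E.t * k⁻¹) by group, hconjt hk]
  -- the element `w` carried to `t`
  set w := g⁻¹ * E.t * g with hw
  have hwS : w ∈ (E.S : Subgroup G) := ActEight.conj_mem' hgN E.t_mem
  have hgw : g * w * g⁻¹ = E.t := by rw [hw]; group
  have hw_ne : ∀ k ∈ E.H, k ∈ normalizer ((E.S : Subgroup G) : Set G) → w ≠ k * b * k⁻¹ := by
    intro k hkH hkN h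
    refine hbne (E.act.no_swap (n := g * k) (mul_mem hgN hkN) E.t_mem ?_ ?_).symm
    · rw [show g * k * E.t * (g * k)⁻¹ = g * (k * E.t * k⁻¹) * g⁻¹ by group, hconjt hkH, hgt]
    · rw [show g * k * b * (g * k)⁻¹ = g * (k * b * k⁻¹) * g⁻¹ by group, ← h, hgw]
  obtain ⟨k₀, hk₀H, -, hwk⟩ : ∃ k ∈ E.H, k ∈ normalizer ((E.S : Subgroup G) : Set G) ∧
      w = k * (b * E.t) * k⁻¹ := by
    rcases hcover hwS with h | h | h | h | h | h | h | h
    · exact absurd (by rw [← hgw, h, mul_one, mul_inv_cancel]) E.t_ne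
    · exact absurd (by rw [← hgt]; conv_rhs => rw [← hgw, h]) hbne
    · exact absurd h (by simpa using hw_ne 1 (one_mem _) (one_mem _))
    · exact ⟨1, one_mem _, one_mem _, by simpa using h⟩
    · exact absurd h (hw_ne η hηH hηN)
    · exact ⟨η, hηH, hηN, h.trans (hmulH hηH).symm⟩
    · exact absurd h (hw_ne (η * η) (mul_mem hηH hηH) (mul_mem hηN hηN))
    · exact ⟨η * η, mul_mem hηH hηH, mul_mem hηN hηN, h.trans (hmulH (mul_mem hηH hηH)).symm⟩
  obtain ⟨e', he'⟩ := IsPGroup.iff_card.1 (coreIn_isPGroup hr M')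
  have hR'odd : Odd (Nat.card R') := by rw [hR', he']; exact (hr.odd_of_ne_two hr2).pow
  -- the second orbit meets the layer trivially, unless `a = 1`
  have horb : ∀ k ∈ E.H, k * (b * E.t) * k⁻¹ ∈ V → a = 1 := by
    intro k hkH hkV
    set m := k₀ * k⁻¹ with hm
    have hmH : m ∈ E.H := mul_mem hk₀H (inv_mem hkH)
    have hmv : m * (k * (b * E.t) * k⁻¹) * m⁻¹ = w := by rw [hwk, hm]; group
    set a' := m * a * m⁻¹ with ha'
    have ha'R : a' ∈ R := (mem_normalizer_iff.1 (coreIn_le_normalizer r M (hHM hmH)) a).1 ha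
    have ha'w : a' * w = w * a' := by
      have h1 := conj_comm (g := m) (haV _ hkV)
      rwa [hmv] at h1
    have ha't : E.t * a' * E.t = a'⁻¹ := by
      rw [ha']
      conv_lhs => rw [← hconjt hmH]
      calc m * E.t * m⁻¹ * (m * a * m⁻¹) * (m * E.t * m⁻¹) = m * (E.t * a * E.t) * m⁻¹ := by group
        _ = _ := by rw [hat]; group
    set c := g * a' * g⁻¹ with hc
    have hct : c * E.t = E.t * c := by
      have h1 := conj_comm (g := g) ha'w
      rwa [hgw] at h1
    have hcb : b * c * b = c⁻¹ := by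
      rw [hc]
      conv_lhs => rw [← hgt]
      calc g * E.t * g⁻¹ * (g * a' * g⁻¹) * (g * E.t * g⁻¹) = g * (E.t * a' * E.t) * g⁻¹ := by group
        _ = _ := by rw [ha't]; group
    have hcR : c ∈ R' := by
      rw [hR', hM', pCoreOf_conjBy]
      exact ⟨a', ha'R, rfl⟩
    have hcK : c ∈ K := hNK (hnormD c (hHM (E.mem_H.2 hct))
      (coreIn_le_normalizer r M' (Cfsg.Agent.S1312.coreIn_le r M' hcR)))
    have hcO : c ∈ CfsgLib.GW.coreIn K := E.act.mem_coreIn_of_normalized hSK hz hz1 hzK hb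
      (B := R' ⊓ K) inf_le_right (hR'odd.of_dvd_nat (card_dvd_of_le inf_le_left))
      (fun d hd hdb x hx => ⟨(mem_normalizer_iff.1
        (coreIn_le_normalizer r M' (hCb (mem_centralizer_singleton_iff.2 hdb))) x).1 hx.1,
        K.mul_mem (K.mul_mem hd hx.2) (K.inv_mem hd)⟩) ⟨hcR, hcK⟩ hcb
    have hc1 : c = 1 := CfsgLib.RankOneInvol.eq_one_of_mem_of_sq hR'odd hcR (by
      rw [(fixed_iff_commute (E.act.sq b hb)).2 (hLO c hcO _ hbV.1)] at hcb
      exact eq_inv_iff_mul_eq_one.1 hcb)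
    rw [hc, conj_eq_one_iff, ha', conj_eq_one_iff] at hc1
    exact hc1
  by_contra hane
  -- so the layer meets `S` in an orbit of `η`
  set p := η * b * η⁻¹ with hp
  set q := η * η * b * (η * η)⁻¹ with hq
  have hsub : (V : Set G) ⊆ {1, b, p, q} := by
    intro v hv
    simp only [Set.mem_insert_iff, Set.mem_singleton_iff]
    rcases hcover hv.2 with h | h | h | h | h | h | h | h
    · exact Or.inl h
    · exact absurd (h ▸ hv) htV
    · exact Or.inr (Or.inl h)
    · exact absurd (h ▸ hv) hbtV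
    · exact Or.inr (Or.inr (Or.inl h))
    · exact absurd (horb η hηH (by rw [hmulH hηH]; exact h ▸ hv)) hane
    · exact Or.inr (Or.inr (Or.inr h))
    · exact absurd (horb (η * η) (mul_mem hηH hηH) (by rw [hmulH (mul_mem hηH hηH)]; exact h ▸ hv)) hane
  have heqV : (V : Set G) = {1, b, p, q} := by
    refine Set.eq_of_subset_of_ncard_le hsub ?_ (Set.toFinite _)
    rw [← Nat.card_coe_set_eq (V : Set G)]
    have h4 : ({1, b, p, q} : Set G).ncard ≤ 4 := by
      have := Set.ncard_insert_le (1 : G) ({b, p, q} : Set G)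
      have := Set.ncard_insert_le b ({p, q} : Set G)
      have := Set.ncard_insert_le p ({q} : Set G)
      have := Set.ncard_singleton q
      omega
    refine h4.trans ?_
    exact hV4
  have hbp : b ≠ p := fun h => by
    rcases E.act.eq_of_fixed hηN E.t_mem E.t_ne hηt hmove hb h.symm with h' | h'
    exacts [hb1 h', hbne h']
  have hp1 : p ≠ 1 := fun h => hb1 (conj_eq_one_iff.1 h)
  have hq1 : q ≠ 1 := fun h => hb1 (conj_eq_one_iff.1 h)
  have hqp : q = η * p * η⁻¹ := by rw [hq, hp]; group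
  have hpq : p ≠ q := fun h => hbp ((MulAut.conj η).injective (show η * b * η⁻¹ = η * p * η⁻¹ by
    rw [← hqp]; exact h))
  have hpV : p ∈ V := by rw [← SetLike.mem_coe, heqV]; simp
  have hqV : q ∈ V := by rw [← SetLike.mem_coe, heqV]; simp
  have hbq : b ≠ q := fun h => hbp (E.act.fix_of_fix_sq hηN hb h.symm).symm
  have hprod : ∀ {x y z : G}, x ∈ V → y ∈ V → x ≠ 1 → y ≠ 1 → x ≠ y →
      ({1, b, p, q} : Set G) ⊆ {1, x, y, z} → x * y = z := by
    intro x y z hx hy hx1 hy1 hxy hsub'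
    have h1 : x * y ∈ (V : Set G) := mul_mem hx hy
    rw [heqV] at h1
    rcases hsub' h1 with h | h | h | h
    · exact absurd (by rw [eq_inv_of_mul_eq_one_left h, E.act.inv_eq hy.2]) hxy
    · exact absurd (mul_left_cancel (h.trans (mul_one x).symm)) hy1
    · exact absurd (mul_right_cancel (h.trans (one_mul y).symm)) hx1
    · exact h
  have hq' : η * q * η⁻¹ = b := by
    have h1 : b * p = q := hprod hbV hpV hb1 hp1 hbp subset_rfl
    have h2 : p * q = b := hprod hpV hqV hp1 hq1 hpq (by intro y hy; simp at hy ⊢; tauto)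
    conv_lhs => rw [← h1]
    calc η * (b * p) * η⁻¹ = (η * b * η⁻¹) * (η * p * η⁻¹) := by group
      _ = b := by rw [← hqp, h2]
  have hηV : ∀ v ∈ V, η * v * η⁻¹ ∈ V := by
    intro v hv
    rw [← SetLike.mem_coe, heqV] at hv
    rcases hv with rfl | rfl | rfl | rfl
    · simp
    · exact hpV
    · rw [← hqp]; exact hqV
    · rw [hq']; exact hbV
  have hstab : ∀ n : G, (∀ v ∈ V, n * v * n⁻¹ ∈ V) → n ∈ normalizer (V : Set G) := by
    intro n hn
    refine mem_normalizer_iff_map_conj_eq.2 (eq_of_le_of_card_ge ?_ ?_)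
    · rintro _ ⟨v, hv, rfl⟩; exact hn v hv
    · exact (Nat.card_congr (V.equivMapOfInjective _ (MulAut.conj n).injective).toEquiv).le
  rcases E.act.fixed_or_transitive (normalizer (V : Set G)) with ⟨y, hy, hy1, hyfix⟩ | hVtr
  · have hyt : y = E.t :=
      (E.act.eq_of_fixed hηN E.t_mem E.t_ne hηt hmove hy (hyfix η (hstab η hηV) hηN)).resolve_left hy1
    subst hyt
    have htK' : ∀ n ∈ K, n ∈ normalizer ((E.S : Subgroup G) : Set G) → n * E.t * n⁻¹ = E.t :=
      fun n hnK hnN => hyfix n (hstab n fun v hv => ⟨hLn n hnK v hv.1, ActEight.conj_mem hnN hv.2⟩) hnN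
    exact hnotcomm (commute_of_perfect hperf (fun x hx => hLn _ (hSK E.t_mem) x hx)
      (fun x hx => E.act.mem_coreIn_of_fixed hSK E.t_mem E.t_ne htK' (hLK hx)) hLO)
  · obtain ⟨n, hnV, -, hn⟩ := hVtr b hb E.t E.t_mem hb1 E.t_ne
    exact htV (hn ▸ (mem_normalizer_iff.1 hnV b).1 hbV)

/-- Step 2, two primes: an element of `O_r(M)` centralised by `b` is centralised by `t`. -/
theorem commute_two {M : Subgroup G} (hM : IsCoatom M) (hHM : E.H ≤ M) {b : G}
    (hb : b ∈ (E.S : Subgroup G)) (hb1 : b ≠ 1) (hbne : b ≠ E.t)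
    (hO2 : Cfsg.pCore 2 ↥M = ⊥) (hlayer : Cfsg.layer ↥M = ⊥) {r : ℕ} (hr : r.Prime)
    {j : ℕ} (hj : j.Prime) (hjr : j ≠ r) (hjM : j ∣ Nat.card (Cfsg.fittingSubgroup ↥M))
    {a : G} (ha : a ∈ Cfsg.Agent.S1312.coreIn r M) (hab : a * b = b * a) :
    a * E.t = E.t * a := by
  haveI := Fact.mk hr
  by_cases hr2 : r = 2
  · subst hr2
    rw [Cfsg.Agent.S1312.coreIn, hO2, Subgroup.map_bot, mem_bot] at ha
    rw [ha, one_mul, mul_one]
  obtain ⟨e, he⟩ := IsPGroup.iff_card.1 (coreIn_isPGroup hr M)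
  have hRodd : Odd (Nat.card (Cfsg.Agent.S1312.coreIn r M)) := by
    rw [he]; exact (hr.odd_of_ne_two hr2).pow
  have htb : E.t * b = b * E.t := E.act.comm E.t_mem hb
  obtain ⟨a0, a1, ha0, ha0t, ha1, ha1t, rfl⟩ :=
    CfsgLib.RankOneInvol.exists_fixed_mul_inverted
      (X := Cfsg.Agent.S1312.coreIn r M ⊓ centralizer ({b} : Set G))
      (Odd.of_dvd_nat hRodd (card_dvd_of_le inf_le_left)) E.t_sq
      (fun x hx => ⟨by
          have := (mem_normalizer_iff.1 (coreIn_le_normalizer r M (hHM E.t_mem_H)) x).1 hx.1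
          rwa [E.t_inv] at this,
        mem_centralizer_singleton_iff.2 (((show Commute E.t b from htb).mul_left
          (mem_centralizer_singleton_iff.1 hx.2)).mul_left htb).eq⟩)
      (show a ∈ _ from ⟨ha, mem_centralizer_singleton_iff.2 hab⟩)
  have h1 : a1 = 1 := eq_one_of_two hM hHM hb hb1 hbne hO2 hlayer hr hr2 hj hjr hjM ha1.1
    (mem_centralizer_singleton_iff.1 ha1.2) ha1t
  rw [h1, mul_one]
  exact (fixed_iff_commute E.t_sq).1 ha0t

end MaxCtx

end CfsgLib.Walter
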