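import Cfsg.Agent.Lib.Walter.TwoTransConsumer

/-!
# A doubly transitive action from many `p`-elements

If a Sylow `p`-subgroup `P` has at most `|P| + 1` conjugates and there are at least `|P|²` elements of
`p`-power order, then there are exactly `|P| + 1` Sylow `p`-subgroups, they meet trivially, and the group
is doubly transitive on them.
-/

set_option autoImplicit false

open MulAction Subgroup

namespace CfsgLib.Walter

universe u

variable {G : Type u} [Group G] [Finite G] {p : ℕ} [Fact p.Prime]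

theorem sylow_eq_of_many (P : Sylow p G) (hm1 : 1 < Nat.card (P : Subgroup G))
    (hn : Nat.card (Sylow p G) ≤ Nat.card (P : Subgroup G) + 1)
    (hmany : Nat.card (P : Subgroup G) ^ 2 ≤ Nat.card {g : G // ∃ k : ℕ, g ^ p ^ k = 1}) :
    Nat.card (Sylow p G) = Nat.card (P : Subgroup G) + 1 ∧
      ∀ (R Q : Sylow p G) (x : G), x ≠ 1 → x ∈ (R : Subgroup G) → x ∈ (Q : Subgroup G) → R = Q := by
  classical
  haveI : Fintype (Sylow p G) := Fintype.ofFinite _
  set m := Nat.card (P : Subgroup G) with hm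
  -- pairs (Sylow subgroup, non-trivial element of it)
  let A := Σ R : Sylow p G, {x : (R : Subgroup G) // x ≠ 1}
  let f : A → {g : {g : G // ∃ k : ℕ, g ^ p ^ k = 1} // (g : G) ≠ 1} := fun a =>
    ⟨⟨a.2.1.1, by obtain ⟨k, hk⟩ := a.1.2 a.2.1; exact ⟨k, congrArg Subtype.val hk⟩⟩,
      fun h => a.2.2 (Subtype.ext h)⟩
  have hsurj : Function.Surjective f := by
    rintro ⟨⟨g, k, hk⟩, hg⟩
    have hp : IsPGroup p (zpowers g) := by
      rintro ⟨y, i, rfl⟩
      exact ⟨k, Subtype.ext (by
        rw [Subgroup.coe_pow, Subgroup.coe_one]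
        show (g ^ i) ^ p ^ k = 1
        rw [← zpow_natCast, ← zpow_mul, mul_comm, zpow_mul, zpow_natCast, hk, one_zpow])⟩
    obtain ⟨R, hR⟩ := hp.exists_le_sylow
    exact ⟨⟨R, ⟨g, hR (mem_zpowers g)⟩, fun h => hg (congrArg Subtype.val h)⟩, rfl⟩
  have hcardA : Nat.card A = Nat.card (Sylow p G) * (m - 1) := by
    rw [Nat.card_sigma, Finset.sum_congr rfl (fun R _ => ?_), Finset.sum_const, Finset.card_univ,
      smul_eq_mul, Nat.card_eq_fintype_card]
    haveI : Fintype (R : Subgroup G) := Fintype.ofFinite _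
    rw [Nat.card_eq_fintype_card, Fintype.card_subtype_compl, Fintype.card_subtype_eq,
      ← Nat.card_eq_fintype_card, hm]
    exact congrArg (· - 1) (Nat.card_congr (Sylow.equiv R P).toEquiv)
  have hcardB : m ^ 2 - 1 ≤ Nat.card {g : {g : G // ∃ k : ℕ, g ^ p ^ k = 1} // (g : G) ≠ 1} := by
    haveI : Fintype {g : G // ∃ k : ℕ, g ^ p ^ k = 1} := Fintype.ofFinite _
    have he : ∀ g : {g : G // ∃ k : ℕ, g ^ p ^ k = 1}, (g : G) ≠ 1 ↔ g ≠ ⟨1, 0, one_pow _⟩ :=
      fun g => ⟨fun h e => h (congrArg Subtype.val e), fun h e => h (Subtype.ext e)⟩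
    rw [Nat.card_congr (Equiv.subtypeEquivRight he), Nat.card_eq_fintype_card,
      Fintype.card_subtype_compl, Fintype.card_subtype_eq, ← Nat.card_eq_fintype_card]
    omega
  have hge := Nat.card_le_card_of_surjective f hsurj
  rw [hcardA] at hge
  have hsq : (m + 1) * (m - 1) = m ^ 2 - 1 := by rw [← Nat.sq_sub_sq, one_pow]
  have hle : Nat.card (Sylow p G) * (m - 1) ≤ (m + 1) * (m - 1) := Nat.mul_le_mul_right _ hn
  have heq : Nat.card (Sylow p G) * (m - 1) = (m + 1) * (m - 1) := by omega
  refine ⟨Nat.eq_of_mul_eq_mul_right (by omega) heq, fun R Q x hx hxR hxQ => ?_⟩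
  have hbij : Function.Bijective f :=
    hsurj.bijective_of_nat_card_le (by rw [hcardA]; omega)
  have hRQ := hbij.1 (a₁ := ⟨R, ⟨x, hxR⟩, fun h => hx (congrArg Subtype.val h)⟩)
    (a₂ := ⟨Q, ⟨x, hxQ⟩, fun h => hx (congrArg Subtype.val h)⟩) rfl
  exact congrArg Sigma.fst hRQ

/-- Trivially intersecting Sylow subgroups, one more of them than elements in each: the action on them is
doubly transitive, and faithful if the group is simple. -/
theorem hasTwoTrans_of_many [IsSimpleGroup G] (P : Sylow p G) (hm1 : 1 < Nat.card (P : Subgroup G))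
    (hn : Nat.card (Sylow p G) ≤ Nat.card (P : Subgroup G) + 1)
    (hmany : Nat.card (P : Subgroup G) ^ 2 ≤ Nat.card {g : G // ∃ k : ℕ, g ^ p ^ k = 1}) :
    RankFour.HasTwoTrans G := by
  classical
  obtain ⟨hcard, hTI⟩ := sylow_eq_of_many P hm1 hn hmany
  haveI : Fintype (Sylow p G) := Fintype.ofFinite _
  have htrans : IsMultiplyPretransitive G (Sylow p G) 2 := by
    rw [is_two_pretransitive_iff]
    intro A B C D hAB hCD
    obtain ⟨g, hg⟩ := exists_smul_eq G A C
    have hgB : g • B ≠ C := fun e => hAB (smul_left_cancel g (hg.trans e.symm))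
    -- `C` is regular on the other Sylow subgroups
    have hfix : ∀ c ∈ (C : Subgroup G), c • C = C := fun c hc =>
      Sylow.smul_eq_iff_mem_normalizer.2 (Subgroup.le_normalizer hc)
    let f : ↥(C : Subgroup G) → {R : Sylow p G // R ≠ C} := fun c =>
      ⟨(c : G) • (g • B), fun e => hgB (smul_left_cancel (c : G) (e.trans (hfix c c.2).symm))⟩
    have hinj : Function.Injective f := by
      intro a b hab
      have h1 : ((b : G)⁻¹ * a) • (g • B) = g • B := by
        rw [mul_smul, show (a : G) • (g • B) = (b : G) • (g • B) from congrArg Subtype.val hab, inv_smul_smul]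
      have hmem : (b : G)⁻¹ * a ∈ (C : Subgroup G) := mul_mem (inv_mem b.2) a.2
      have h2 : (b : G)⁻¹ * a ∈ zpowers ((b : G)⁻¹ * a) ⊓ normalizer ((g • B : Sylow p G) : Set G) :=
        ⟨mem_zpowers _, Sylow.smul_eq_iff_mem_normalizer.1 h1⟩
      rw [(C.2.to_le (zpowers_le.2 hmem)).inf_normalizer_sylow (g • B)] at h2
      by_contra hne
      exact hgB (hTI _ _ _ (fun h => hne (Subtype.ext (inv_mul_eq_one.1 h).symm)) h2.2 hmem)
    have hcC : Nat.card (C : Subgroup G) = Nat.card (P : Subgroup G) :=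
      Nat.card_congr (Sylow.equiv C P).toEquiv
    have hbij : Function.Bijective f := (Nat.bijective_iff_injective_and_card f).2 ⟨hinj, by
      rw [hcC, Nat.card_eq_fintype_card (α := {R : Sylow p G // R ≠ C}), Fintype.card_subtype_compl,
        Fintype.card_subtype_eq, ← Nat.card_eq_fintype_card, hcard, Nat.add_sub_cancel]⟩
    obtain ⟨c, hc⟩ := hbij.2 ⟨D, hCD.symm⟩
    exact ⟨(c : G) * g, by rw [mul_smul, hg, hfix c c.2],
      by rw [mul_smul]; exact congrArg Subtype.val hc⟩
  let e := Finite.equivFin (Sylow p G)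
  letI : MulAction G (Fin (Nat.card (Sylow p G))) :=
    { smul := fun g i => e (g • e.symm i)
      one_smul := fun i => by show e ((1 : G) • e.symm i) = i; rw [one_smul, e.apply_symm_apply]
      mul_smul := fun g h i => by
        show e ((g * h) • e.symm i) = e (g • e.symm (e (h • e.symm i)))
        rw [e.symm_apply_apply, mul_smul] }
  have hsm : ∀ (g : G) (i : Fin (Nat.card (Sylow p G))), g • i = e (g • e.symm i) := fun _ _ => rfl
  refine ⟨Fin (Nat.card (Sylow p G)), inferInstance, inferInstance, ?_, ?_⟩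
  · refine ⟨fun {x y} h => ?_⟩
    have hk : y⁻¹ * x ∈ (MulAction.toPermHom G (Sylow p G)).ker := by
      refine MonoidHom.mem_ker.2 (Equiv.ext fun R => ?_)
      have hR := e.injective (h (e R))
      rw [e.symm_apply_apply] at hR
      show (y⁻¹ * x) • R = R
      rw [mul_smul, hR, inv_smul_smul]
    rcases (inferInstance : (MulAction.toPermHom G (Sylow p G)).ker.Normal).eq_bot_or_eq_top with hb | ht
    · rw [hb, Subgroup.mem_bot, inv_mul_eq_one] at hk
      exact hk.symm
    · exfalso
      haveI : Nontrivial (Sylow p G) := Finite.one_lt_card_iff_nontrivial.1 (by rw [hcard]; omega)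
      obtain ⟨R, hR⟩ := exists_ne P
      obtain ⟨g, hg⟩ := exists_smul_eq G P R
      have : g ∈ (MulAction.toPermHom G (Sylow p G)).ker := by rw [ht]; trivial
      exact hR (hg.symm.trans (Equiv.congr_fun (MonoidHom.mem_ker.1 this) P))
  · rw [is_two_pretransitive_iff]
    intro a b c d hab hcd
    obtain ⟨g, hga, hgb⟩ := is_two_pretransitive_iff.1 htrans (e.symm.injective.ne hab) (e.symm.injective.ne hcd)
    exact ⟨g, by rw [hsm, hga, e.apply_symm_apply], by rw [hsm, hgb, e.apply_symm_apply]⟩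

end CfsgLib.Walter
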