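import Cfsg.Agent.Lib.Walter.RankFour.Assembly
import Mathlib.LinearAlgebra.Projectivization.Action

/-!
# Doubly transitive actions of the simple groups with abelian Sylow 2-subgroups

Adapter for S4272: the projective line serves the groups `PSL(2, q)`.
-/

set_option autoImplicit false
set_option linter.style.haveILetI false

open MulAction
open scoped LinearAlgebra.Projectivization
namespace CfsgLib.Walter.RankFour
universe u

/-- A faithful doubly transitive action on a finite set. -/
def HasTwoTrans (G : Type u) [Group G] : Prop :=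
  ∃ (Ω : Type) (_ : Fintype Ω) (_ : MulAction G Ω), FaithfulSMul G Ω ∧ IsMultiplyPretransitive G Ω 2

theorem psl_isTwoPretransitive (F : Type) [Field F] :
    IsMultiplyPretransitive (Matrix.ProjectiveSpecialLinearGroup (Fin 2) F) (ℙ F (Fin 2 → F)) 2 := by
  rw [is_two_pretransitive_iff]
  intro a b c d hab hcd
  obtain ⟨g, hga, hgb⟩ := (is_two_pretransitive_iff.1
    (inferInstance : IsMultiplyPretransitive (Matrix.SpecialLinearGroup (Fin 2) F) (ℙ F (Fin 2 → F)) 2)) hab hcd
  exact ⟨QuotientGroup.mk g, hga, hgb⟩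

theorem hasTwoTrans_of_psl {G : Type u} [Group G] (F : Type) [Field F] [Finite F]
    (e : G ≃* Matrix.ProjectiveSpecialLinearGroup (Fin 2) F) : HasTwoTrans G := by
  letI : Fintype (ℙ F (Fin 2 → F)) := Fintype.ofFinite _
  letI : MulAction G (ℙ F (Fin 2 → F)) := MulAction.compHom _ e.toMonoidHom
  refine ⟨ℙ F (Fin 2 → F), inferInstance, inferInstance, ⟨fun {x y} h => e.injective (FaithfulSMul.eq_of_smul_eq_smul
    (α := ℙ F (Fin 2 → F)) h)⟩, ?_⟩
  rw [is_two_pretransitive_iff]
  intro a b c d hab hcd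
  obtain ⟨g, hga, hgb⟩ := is_two_pretransitive_iff.1 (psl_isTwoPretransitive F) hab hcd
  refine ⟨e.symm g, ?_, ?_⟩
  · show e (e.symm g) • a = c
    rw [e.apply_symm_apply, hga]
  · show e (e.symm g) • b = d
    rw [e.apply_symm_apply, hgb]

/-- With Walter's theorem and a doubly transitive action for the Ree groups, only `J₁` has none. -/
theorem card_of_no_twoTrans (hD : CoreFree.{u}) (hF : FieldFree.{u}) (hO : OrderTheorem.{u})
    {G : Type u} [Group G] [Finite G] [IsSimpleGroup G]
    (hG : ¬ IsMulCommutative G) (P : Sylow 2 G) (hP : IsMulCommutative (P : Subgroup G))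
    (hRee : Cfsg.IsRee G → HasTwoTrans G)
    (hno : ∀ (Ω : Type) [Fintype Ω] [MulAction G Ω] [FaithfulSMul G Ω], ¬ IsMultiplyPretransitive G Ω 2) :
    Nat.card G = 175560 := by
  have hno' : ¬ HasTwoTrans G := by
    rintro ⟨Ω, iF, iA, hf, ht⟩
    exact @hno Ω iF iA hf ht
  rcases walter_of hD hF hO hG P hP with ⟨a, -, F, _, _, -, ⟨e⟩⟩ | ⟨F, _, _, -, ⟨e⟩⟩ | h | h
  · exact absurd (hasTwoTrans_of_psl F e) hno'
  · exact absurd (hasTwoTrans_of_psl F e) hno'
  · exact absurd (hRee h) hno'
  · exact h.2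

end CfsgLib.Walter.RankFour
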