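import Cfsg.Agent.Lib.Walter.ConfOrderProof
import Cfsg.Agent.Lib.Walter.CoreFree
import Cfsg.Agent.Lib.ReeOrder.TwoTrans.Main

/-!
# S4272 modulo the absence of field automorphisms in rank three
-/

set_option autoImplicit false

namespace CfsgLib.Walter

universe u

theorem reeTwoTrans : ReeTwoTrans.{u} := fun _G _ _ _F _ _ _ _t K _m hm hq hG hone =>
  haveI := K.simple
  CfsgLib.ReeOrder.TwoTrans.hasTwoTrans_of_cent K.cent hm hq hG hone

/-- S4272 from `FieldFree`. -/
theorem card_eq_of_no_twoTrans (hF : FieldFree.{u}) {G : Type u} [Group G] [Finite G] [IsSimpleGroup G]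
    (hG : ¬ IsMulCommutative G) (P : Sylow 2 G) (hP : IsMulCommutative (P : Subgroup G))
    (hno : ∀ (Ω : Type) [Fintype Ω] [MulAction G Ω] [FaithfulSMul G Ω],
      ¬ MulAction.IsMultiplyPretransitive G Ω 2) :
    Nat.card G = 175560 :=
  card_of_no_twoTrans' coreFree hF confOrder reeTwoTrans hG P hP hno

end CfsgLib.Walter
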